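import Cfsg.Agent.H57.DPCSpec
import Cfsg.Agent.H14.Comp
import Cfsg.Agent.H1.Coprime2
import Cfsg.Agent.H98.Core

/-! Transfer of components (slot DPC-Tr). -/

set_option autoImplicit false

namespace H52.DPCTr

open Subgroup Cfsg H98 H48.DP H57.DPC

universe u

variable {G : Type*} [Group G]

theorem pg_zpowers {p : ℕ} {g : G} (h : orderOf g = p) : IsPGroup p (zpowers g) :=
  IsPGroup.of_card (n := 1) (by rw [Nat.card_zpowers, h, pow_one])

/-- A component centralises the `p`-subgroups it normalises. -/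
theorem comp_cent [Finite G] {p : ℕ} [Fact p.Prime] {K X D : Subgroup G} (hK : IsComponentOf K X)
    (hDX : D ≤ X) (hD : IsPGroup p D) (hn : K ≤ No D) : K ≤ Ce D := by
  have h1 : IsPGroup p (D.subgroupOf X) := hD.comap_subtype
  have h2 : Group.IsNilpotent (D.subgroupOf X) := h1.isNilpotent
  have h3 := H14.comp_commutator_solvable hK.2 (H := D.subgroupOf X) inferInstance
    (comap_le_normalizer_comap X.subtype hn)
  rw [commutator_eq_bot_iff_le_centralizer, centralizer_subgroupOf hDX] at h3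
  intro k hk
  exact h3 (show (⟨k, hK.1 hk⟩ : X) ∈ K.subgroupOf X from hk)

theorem jobTr : JobTr.{u} := by
  intro fs pr G _ _ hN x w K hx hxw cK hw hO hJ
  have := Fact.mk Nat.prime_three
  have := Fact.mk Nat.prime_two
  have hKH : K ≤ C1 w := fun k hk =>
    mem_centralizer_singleton_iff.mpr (mem_centralizer_iff.mp hw k hk)
  have hxH : x ∈ C1 w := mem_centralizer_singleton_iff.mpr hxw
  have hKx : K ≤ C1 x := cK.comp.1
  have hcx : ∀ k ∈ K, Commute x k := fun k hk =>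
    (mem_centralizer_singleton_iff.mp (hKx hk)).symm
  have hO3 : IsPGroup 3 (pCoreOf 3 (C1 w)) := isPGroup_pCoreOf _
  have hD : K ≤ Ce (pCoreOf 3 (C1 w) ⊓ C1 x) :=
    comp_cent cK.comp inf_le_right (hO3.to_le inf_le_left)
      (le_normalizer_inf (le_normalizer_pCoreOf_of_le hKH) (le_normalizer_of_le hKx))
  obtain ⟨s, hs, t, ht, hs2, ht2, hst, hne⟩ := cK.sm.four
  have hsK : zpowers s ≤ K := zpowers_le.mpr hs
  have hsO : zpowers s ≤ Ce (pCoreOf 3 (C1 w)) := by
    refine H1.thompson_pq (p := 3) (P := zpowers x) (pg_zpowers hx) ?_ ?_ _ _ rfl hO3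
      (le_normalizer_pCoreOf_of_le (zpowers_le.mpr hxH))
      (le_normalizer_pCoreOf_of_le (hsK.trans hKH)) ?_
    · rw [Nat.card_zpowers, hs2]; norm_num
    · exact zpowers_le.mpr (mem_centralizer_iff.mpr fun g hg => (hcx g (hsK hg)).symm)
    · intro d hd
      have hd' : d ∈ pCoreOf 3 (C1 w) ⊓ C1 x :=
        ⟨hd.1, mem_centralizer_singleton_iff.mpr
          (mem_centralizer_iff.mp hd.2 x (mem_zpowers x)).symm⟩
      exact mem_centralizer_iff.mpr fun g hg => (mem_centralizer_iff.mp (hD (hsK hg)) d hd').symm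
  have hs1 : s ≠ 1 := fun e => by rw [e, orderOf_one] at hs2; omega
  have ht1 : t ≠ 1 := fun e => by rw [e, orderOf_one] at ht2; omega
  obtain ⟨J, hJc, hsJ⟩ : ∃ J, IsComponentOf J (C1 w) ∧ ¬ zpowers s ≤ Ce J := by
    by_contra hc
    push Not at hc
    exact hs1 (zpowers_eq_bot.mp
      (fs G hN (C1 w) (zpowers s) hO (hsK.trans hKH) (pg_zpowers hs2) hsO hc))
  obtain ⟨cJ, hxJ⟩ := hJ J hJc
  have hKJ : K ≤ No J := cK.sm.gen (No J) fun g hg ho => cJ.two g (hKH hg) (pg_zpowers ho)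
  have hKC : K ⊓ Ce J = ⊥ := by
    rcases cK.sm.simple (K ⊓ Ce J) inf_le_left
      (le_normalizer_inf (le_normalizer_of_le le_rfl) (le_normalizer_centralizer hKJ)) with h | h
    · exact h
    · exact absurd (hsK.trans (inf_eq_left.mp h)) hsJ
  have hinj : ∀ k ∈ K, k ∈ Ce J → k = 1 := fun k hk hk' =>
    mem_bot.mp (hKC ▸ (⟨hk, hk'⟩ : k ∈ K ⊓ Ce J))
  obtain ⟨⟨π, hπ, -, hker⟩, -⟩ := pr G J cJ.sm.cen cJ.inn
  by_cases hπx : π ⟨x, hxJ⟩ = 1
  · have hxC : x ∈ Ce J := (hker ⟨x, hxJ⟩).mp hπx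
    have hJx : J ≤ C1 x := fun k hk =>
      mem_centralizer_singleton_iff.mpr (mem_centralizer_iff.mp hxC k hk)
    have hJK : J ≤ No K := cJ.sm.gen (No K) fun g hg ho => cK.two g (hJx hg) (pg_zpowers ho)
    have hnb : J ⊓ K ≠ ⊥ := fun hb => by
      have h1 : ⁅K, J⁆ = ⊥ :=
        le_bot_iff.mp (hb ▸ le_inf (commutator_le_right' hKJ) (commutator_le_left' hJK))
      exact hsJ (hsK.trans (commutator_eq_bot_iff_le_centralizer.mp h1))
    have e1 := (cJ.sm.simple (J ⊓ K) inf_le_left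
      (le_normalizer_inf (le_normalizer_of_le le_rfl) hJK)).resolve_left hnb
    have e2 := (cK.sm.simple (J ⊓ K) inf_le_right
      (le_normalizer_inf hKJ (le_normalizer_of_le le_rfl))).resolve_left hnb
    rw [← e2, e1]
    exact cJ
  · exfalso
    have ord : ∀ (p : ℕ) [Fact p.Prime] (g : No J), orderOf (g : G) = p → π g ≠ 1 →
        orderOf (π g) = p := fun p _ g hg h1 => by
      refine orderOf_eq_prime ?_ h1
      have : g ^ p = 1 := Subtype.ext (by rw [← hg]; exact pow_orderOf_eq_one (g : G))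
      rw [← map_pow, this, map_one]
    have com : ∀ g h : No J, Commute (g : G) h → Commute (π g) (π h) := fun g h hc =>
      (show Commute g h from Subtype.ext hc).map π
    have e := cJ.sm.f3 _ (hπ ⟨x, hxJ⟩) _ (hπ ⟨s, hKJ hs⟩) _ (hπ ⟨t, hKJ ht⟩)
      (ord 3 _ hx hπx) (ord 2 _ hs2 fun h => hs1 (hinj s hs ((hker _).mp h)))
      (ord 2 _ ht2 fun h => ht1 (hinj t ht ((hker _).mp h)))
      (com _ _ (hcx s hs)) (com _ _ (hcx t ht)) (com _ _ hst)
    have h1 : π (⟨s, hKJ hs⟩ * ⟨t, hKJ ht⟩⁻¹) = 1 := by rw [map_mul, map_inv, e, mul_inv_cancel]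
    exact hne (mul_inv_eq_one.mp (hinj _ (K.mul_mem hs (K.inv_mem ht)) ((hker _).mp h1)))

end H52.DPCTr
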