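import Cfsg.Agent.H26.FPBase

/-! Operator groups without two supplements of index two: the class and its basic consequences. -/

set_option autoImplicit false

namespace H52.NC

open Subgroup Cfsg H98 H26.FP
open scoped commutatorElement

variable {Γ Δ : Type*} [Group Γ] [Group Δ] {G A K H X L Y P : Subgroup Γ} {u t : Γ}

/-- `A` normalises `G`, and no supplement of `G` in `G A` has index two in another one. -/
structure Op2 (G A : Subgroup Γ) : Prop where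
  nor : A ≤ N[G]
  no2 : ∀ Y X : Subgroup Γ, Y ≤ G ⊔ A → X ≤ Y → A ≤ G ⊔ X → X.relIndex Y ≠ 2

theorem Op2.mono (h : Op2 G A) (hK : K ≤ G) (hn : A ≤ N[K]) : Op2 K A :=
  ⟨hn, fun Y X h1 h2 h3 => h.no2 Y X (h1.trans (sup_le_sup_right hK A)) h2
    (h3.trans (sup_le_sup_right hK X))⟩

theorem Op2.nor' (h : Op2 G A) : G ⊔ A ≤ N[G] := sup_le le_normalizer h.nor

/-- any supplement may be used as operator group -/
theorem Op2.supp (h : Op2 G A) (h1 : X ≤ G ⊔ A) (h2 : A ≤ G ⊔ X) : Op2 G X :=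
  ⟨h1.trans h.nor', fun Y Z k1 k2 k3 => h.no2 Y Z (k1.trans (sup_le le_sup_left h1)) k2
    (h2.trans (sup_le le_sup_left k3))⟩

theorem Op2.gl (h : Op2 G A) (hH : H ≤ G) (hX : ∀ a ∈ A, ∃ x ∈ H, x * a ∈ X) :
    Op2 G (X ⊓ (H ⊔ A)) :=
  h.supp (inf_le_right.trans (sup_le_sup_right hH A)) fun a ha => by
    obtain ⟨x, hx, e⟩ := hX a ha
    exact (mul_mem_cancel_left (mem_sup_left (hH hx))).1
      (mem_sup_right ⟨e, mul_mem_sup hx ha⟩)

theorem Op2.map (h : Op2 G A) (f : Γ →* Δ) : Op2 (G.map f) (A.map f) := by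
  refine ⟨map_le_normalizer_map f h.nor, fun Y X h1 h2 h3 => ?_⟩
  have e : ((G ⊔ A) ⊓ Y.comap f).map f = Y := le_antisymm (map_le_iff_le_comap.2 inf_le_right)
    fun y hy => by
      obtain ⟨x, hx, rfl⟩ := (Subgroup.map_sup G A f).ge (h1 hy)
      exact ⟨x, ⟨hx, hy⟩, rfl⟩
  have := h.no2 ((G ⊔ A) ⊓ Y.comap f) (X.comap f ⊓ ((G ⊔ A) ⊓ Y.comap f)) inf_le_left inf_le_right
    fun a ha => by
      have nX : X ≤ N[G.map f] := (h2.trans h1).trans
        (sup_le le_normalizer (map_le_normalizer_map f h.nor))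
      obtain ⟨_, ⟨g, hg, rfl⟩, x, hx, e⟩ := (mem_sup_right_norm nX).1 (h3 (mem_map_of_mem f ha))
      have e1 : f (g⁻¹ * a) = x := by rw [map_mul, map_inv, e, inv_mul_cancel_left]
      refine (mul_mem_cancel_left (mem_sup_left (G.inv_mem hg))).1 (mem_sup_right
        ⟨show f _ ∈ X from e1 ▸ hx, mul_mem_sup (G.inv_mem hg) ha, show f _ ∈ Y from e1 ▸ h2 hx⟩)
  rwa [inf_relIndex_right, relIndex_comap, e] at this

theorem Op2.of_map {f : Γ →* Δ} (hf : Function.Injective f) (h : Op2 (G.map f) (A.map f)) :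
    Op2 G A := by
  refine ⟨?_, fun Y X h1 h2 h3 => ?_⟩
  · simpa only [comap_map_eq_self_of_injective hf] using comap_le_normalizer_comap f h.nor
  · have := h.no2 (Y.map f) (X.map f) (Subgroup.map_sup G A f ▸ map_mono h1) (map_mono h2)
      (Subgroup.map_sup G X f ▸ map_mono h3)
    rwa [relIndex_map_map_of_injective _ _ hf] at this

theorem Op2.subgroupOf (h : Op2 G A) (hG : G ≤ H) (hA : A ≤ H) :
    Op2 (G.subgroupOf H) (A.subgroupOf H) :=
  Op2.of_map H.subtype_injective (by rwa [map_subgroupOf_eq_of_le hG, map_subgroupOf_eq_of_le hA])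

/-- Frattini argument: an invariant Sylow subgroup after a change of operators -/
theorem Op2.syl [Finite Γ] {p : ℕ} [Fact p.Prime] (h : Op2 G A) (hH : H ≤ G) (hn : A ≤ N[H])
    (hP : IsSyl p P H) : Op2 G (N[P] ⊓ (H ⊔ A)) :=
  h.gl hH fun a ha => by
    obtain ⟨x, hx, e⟩ := (hP.cj_of_mem_normalizer (hn ha)).exists_cj_eq hP
    exact ⟨x, hx, cj_eq_self_iff.1 (by rwa [← cj_cj])⟩

/-- a character of order two of a supplement is trivial on `G` -/
theorem Op2.sign (h : Op2 G A) (h1 : Y ≤ G ⊔ A) (h2 : A ≤ G ⊔ Y) (χ : Y →* ℤˣ) (hu : u ∈ Y)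
    (hG : u ∈ G) : χ ⟨u, hu⟩ = 1 := by
  by_contra e
  have e1 : χ ⟨u, hu⟩ = -1 := (Int.units_eq_one_or _).resolve_left e
  have key : ∀ y (hy : y ∈ Y), y ∈ χ.ker.map Y.subtype ↔ χ ⟨y, hy⟩ = 1 := fun y hy =>
    mem_map_iff_mem Y.subtype_injective (x := ⟨y, hy⟩)
  have k2 : ∀ y (hy : y ∈ Y), χ ⟨y * u, mul_mem hy hu⟩ = -χ ⟨y, hy⟩ := fun y hy => by
    rw [← mul_neg_one, ← e1, ← map_mul]; rfl
  refine h.no2 Y (χ.ker.map Y.subtype) h1 (map_subtype_le _) (h2.trans (sup_le le_sup_left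
    fun y hy => ?_)) (relIndex_eq_two_iff.2 ⟨u, hu, fun y hy => ?_⟩)
  · rcases Int.units_eq_one_or (χ ⟨y, hy⟩) with k | k
    · exact mem_sup_right ((key y hy).2 k)
    · exact (mul_mem_cancel_right (mem_sup_left hG)).1
        (mem_sup_right ((key _ (mul_mem hy hu)).2 (by rw [k2 y hy, k, neg_neg])))
  · rw [key _ (mul_mem hy hu), key y hy, k2 y hy]
    rcases Int.units_eq_one_or (χ ⟨y, hy⟩) with k | k <;> rw [k] <;> decide

/-- an involution fixed by the operators is an operator -/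
theorem Op2.ca (h : Op2 G A) (hG : t ∈ G) (hc : t ∈ C[A]) (h2 : t * t = 1) : t ∈ A := by
  by_contra e
  have hn : zpowers t ≤ N[A] := zpowers_le.2 (centralizer_le_normalizer _ hc)
  refine h.no2 (A ⊔ zpowers t) A (sup_le le_sup_right ((zpowers_le.2 hG).trans le_sup_left))
    le_sup_left le_sup_right (relIndex_eq_two_iff.2 ⟨t, mem_sup_right (mem_zpowers t), fun y hy => ?_⟩)
  obtain ⟨a, ha, _, ⟨k, rfl⟩, rfl⟩ := (mem_sup_right_norm hn).1 hy
  have h3 : t ^ (2 : ℤ) = 1 := by rw [zpow_two, h2]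
  rcases Int.even_or_odd' k with ⟨j, rfl | rfl⟩
  · simp only [zpow_mul, h3, one_zpow, mul_one]
    exact .inr ⟨ha, fun k => e ((mul_mem_cancel_left ha).1 k)⟩
  · simp only [zpow_add, zpow_mul, h3, one_zpow, one_mul, zpow_one, mul_assoc, h2, mul_one]
    exact .inl ⟨ha, fun k => e ((mul_mem_cancel_left ha).1 k)⟩

/-- no element of `G` acts as a transposition on an invariant set -/
theorem Op2.sgn [Finite Γ] (h : Op2 G A) {Θ : Set Γ} {c c' : Γ} (hG : u ∈ G)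
    (hA : ∀ a ∈ A, ∀ x ∈ Θ, a * x * a⁻¹ ∈ Θ) (hc : c ∈ Θ) (hc' : c' ∈ Θ) (hne : c ≠ c')
    (e1 : u * c * u⁻¹ = c') (e2 : u * c' * u⁻¹ = c)
    (e3 : ∀ x ∈ Θ, x ≠ c → x ≠ c' → u * x * u⁻¹ = x) : False := by
  classical
  have hY : ∀ g ∈ A ⊔ zpowers u, ∀ x ∈ Θ, g * x * g⁻¹ ∈ Θ := fun g hg x hx =>
    (mem_set_normalizer_iff.1 ((sup_le (fun a ha => mem_normalizer_fintype (hA a ha))
      (zpowers_le.2 (mem_normalizer_fintype fun x hx => by
        by_cases k : x = c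
        · rwa [k, e1]
        by_cases k' : x = c'
        · rwa [k', e2]
        · rwa [e3 x hx k k'])) : A ⊔ zpowers u ≤ normalizer Θ) hg) x).1 hx
  let _ : MulAction (A ⊔ zpowers u : Subgroup Γ) Θ :=
    { smul := fun g x => ⟨g * x * (g : Γ)⁻¹, hY g g.2 x x.2⟩
      one_smul := fun x => Subtype.ext (by change ((1 : Γ) * x * (1 : Γ)⁻¹) = x; simp)
      mul_smul := fun a b x => Subtype.ext (by
        change ((a : Γ) * b) * x * ((a : Γ) * b)⁻¹ = a * (b * x * (b : Γ)⁻¹) * (a : Γ)⁻¹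
        group) }
  have := Fintype.ofFinite Θ
  have k := h.sign (Y := A ⊔ zpowers u)
    (sup_le le_sup_right ((zpowers_le.2 hG).trans le_sup_left)) (le_sup_of_le_right le_sup_left)
    (Equiv.Perm.sign.comp (MulAction.toPermHom _ Θ)) (mem_sup_right (mem_zpowers u)) hG
  rw [MonoidHom.comp_apply, show MulAction.toPermHom (A ⊔ zpowers u : Subgroup Γ) Θ
      ⟨u, mem_sup_right (mem_zpowers u)⟩ = Equiv.swap ⟨c, hc⟩ ⟨c', hc'⟩ from
    Equiv.ext fun x => by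
      by_cases k : x = ⟨c, hc⟩
      · rw [k, Equiv.swap_apply_left]; exact Subtype.ext e1
      by_cases k' : x = ⟨c', hc'⟩
      · rw [k', Equiv.swap_apply_right]; exact Subtype.ext e2
      · rw [Equiv.swap_apply_of_ne_of_ne k k']
        exact Subtype.ext (e3 x x.2 (fun e => k (Subtype.ext e)) fun e => k' (Subtype.ext e)),
    Equiv.Perm.sign_swap fun e => hne (congrArg Subtype.val e)] at k
  exact absurd k (by decide)

/-- an invariant class of involutions under a complement `L` is centralised by `L` -/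
theorem Op2.kill (h : Op2 G A) (hL : L ≤ G) (nL : A ≤ N[L]) (hY : Y ≤ G) (nY : L ≤ N[Y])
    (hLY : L ⊓ Y = ⊥) (ht : t ∈ Y) (h2 : t * t = 1)
    (tr : ∀ a ∈ A, ∃ l ∈ L, l * (a * t * a⁻¹) * l⁻¹ = t) : t ∈ C[L] := by
  have k := (h.gl (X := C1[t]) hL fun a ha => by
    obtain ⟨l, hl, e⟩ := tr a ha
    exact ⟨l, hl, mem_centralizer_singleton_iff.2 (mul_inv_eq_iff_eq_mul.1 (by
      rw [show l * a * t * (l * a)⁻¹ = l * (a * t * a⁻¹) * l⁻¹ by group, e]))⟩).ca (hY ht)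
    (fun x hx => mem_centralizer_singleton_iff.1 hx.1) h2
  have hn : t ∈ N[L] := sup_le le_normalizer nL k.2
  intro l hl
  have : l * t * l⁻¹ * t⁻¹ ∈ L ⊓ Y := mem_inf.2 ⟨by
    simpa only [mul_assoc] using mul_mem hl (conj_mem_of_mem_normalizer hn (inv_mem hl)),
    mul_mem (conj_mem_of_mem_normalizer (nY hl) ht) (inv_mem ht)⟩
  rwa [hLY, mem_bot, mul_inv_eq_one, mul_inv_eq_iff_eq_mul] at this

/-- tuples of involutions -/
theorem Op2.tuple [Finite Γ] (h : Op2 G A) {𝒞 : Set (Subgroup Γ)} (hL : L ≤ G) (nL : A ≤ N[L])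
    (hY : Y ≤ G) (ab : Y ≤ C[Y]) (nY : L ≤ N[Y]) (nA : A ≤ N[Y]) (hLY : L ⊓ Y = ⊥)
    (cA : ∀ a ∈ A, ∀ C ∈ 𝒞, cj a C ∈ 𝒞) (cL : ∀ C ∈ 𝒞, L ≤ N[C])
    (sep : ∀ y ∈ Y, (∀ C ∈ 𝒞, y ∈ C) → y = 1)
    (grow : ∀ C ∈ 𝒞, ∃ e ∈ Y, e * e = 1 ∧ e ∉ C ∧ ∀ C' ∈ 𝒞, C' ≠ C → e ∈ C')
    (move : ∀ C ∈ 𝒞, ∀ x ∈ Y, ∀ y ∈ Y, x * x = 1 → y * y = 1 → x ∉ C → y ∉ C →
      ∃ l ∈ L, (l * x * l⁻¹)⁻¹ * y ∈ C ∧ ∀ C' ∈ 𝒞, C' ≠ C → x⁻¹ * (l * x * l⁻¹) ∈ C')
    (two : ∃ C ∈ 𝒞, ∀ x ∈ Y, x * x = 1 → x ∉ C → ∃ y ∈ Y, y * y = 1 ∧ y ∉ C ∧ x⁻¹ * y ∉ C) :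
    False := by
  have ex : ∀ s : Set (Subgroup Γ), s ⊆ 𝒞 → ∃ y ∈ Y, y * y = 1 ∧ ∀ C ∈ s, y ∉ C := fun s => by
    induction s, s.toFinite using Set.Finite.induction_on with
    | empty => exact fun _ => ⟨1, one_mem _, one_mul _, fun _ k => k.elim⟩
    | @insert C s _ _ ih =>
      intro hs
      obtain ⟨y, y1, y2, y3⟩ := ih ((Set.subset_insert _ _).trans hs)
      by_cases k : y ∈ C
      · obtain ⟨e, e1, e2, e3, e4⟩ := grow C (hs (Set.mem_insert _ _))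
        refine ⟨y * e, mul_mem y1 e1, by
          rw [mul_assoc, ← mul_assoc e, ab y1 e e1, mul_assoc, e2, mul_one, y2], fun C' hC' => ?_⟩
        by_cases k' : C' = C
        · rwa [k', mul_mem_cancel_left k]
        · rw [mul_mem_cancel_right (e4 C' (hs hC') k')]
          exact y3 C' (hC'.resolve_left k')
      · exact ⟨y, y1, y2, Set.forall_mem_insert.2 ⟨k, y3⟩⟩
  obtain ⟨t, t1, t2, t3⟩ := ex 𝒞 le_rfl
  have sq : ∀ g x : Γ, x * x = 1 → g * x * g⁻¹ * (g * x * g⁻¹) = 1 := fun g x e => by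
    rw [conj_mul, e, mul_one, mul_inv_cancel]
  have tr : ∀ x ∈ Y, x * x = 1 → (∀ C ∈ 𝒞, x ∉ C) → ∀ s : Set (Subgroup Γ), s ⊆ 𝒞 →
      ∃ l ∈ L, ∀ C ∈ s, (l * x * l⁻¹)⁻¹ * t ∈ C := fun x x1 x2 x3 s => by
    induction s, s.toFinite using Set.Finite.induction_on with
    | empty => exact fun _ => ⟨1, one_mem _, fun _ k => k.elim⟩
    | @insert C s _ _ ih =>
      intro hs
      have hC := hs (Set.mem_insert _ _)
      obtain ⟨l, l1, l2⟩ := ih ((Set.subset_insert _ _).trans hs)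
      obtain ⟨m, m1, m2, m3⟩ := move C hC _ (conj_mem_of_mem_normalizer (nY l1) x1) t t1
        (sq l x x2) t2 (fun k => x3 C hC ((mem_normalizer_iff.1 (cL C hC l1) x).2 k)) (t3 C hC)
      have e : m * l * x * (m * l)⁻¹ = m * (l * x * l⁻¹) * m⁻¹ := by group
      refine ⟨m * l, mul_mem m1 l1, fun C' hC' => ?_⟩
      rw [e]
      by_cases k' : C' = C
      · rwa [k']
      · simpa only [mul_inv_rev, inv_inv, mul_assoc, mul_inv_cancel_left, inv_mul_cancel_left] using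
          mul_mem (inv_mem (m3 C' (hs hC') k')) (l2 C' (hC'.resolve_left k'))
  have hc := h.kill hL nL hY nY hLY t1 t2 fun a ha => by
    have k := conj_mem_of_mem_normalizer (nA ha) t1
    obtain ⟨l, l1, l2⟩ := tr _ k (sq a t t2) (fun C hC e => t3 _ (cA _ (inv_mem ha) C hC)
      (mem_cj.2 (by rwa [inv_inv]))) 𝒞 le_rfl
    exact ⟨l, l1, inv_mul_eq_one.1 (sep _ (mul_mem (inv_mem
      (conj_mem_of_mem_normalizer (nY l1) k)) t1) l2)⟩
  obtain ⟨C, hC, k⟩ := two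
  obtain ⟨y, y1, y2, y3, y4⟩ := k t t1 t2 (t3 C hC)
  obtain ⟨l, l1, l2, -⟩ := move C hC t t1 y y1 t2 y2 (t3 C hC) y3
  rw [hc l l1, mul_inv_cancel_right] at l2
  exact y4 l2

end H52.NC
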