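import Cfsg.Agent.H52.NCEnd
import Cfsg.Agent.H11.FPTop
import Cfsg.Agent.H26.T4TFb
import Cfsg.Agent.H26.T4Ctl
import Cfsg.Agent.H53.FPBL

/-! The solvability theorem for the class `Op2`. -/

set_option autoImplicit false

open Cfsg hiding pRank
open Subgroup H46 H26.FP H26.T4 H11.FP
open H98 (IsSyl oz jt ncl)

namespace H52.NC

universe u

theorem kl : Kl.{u} fun _ _ G A => Op2 G A where
  nor h := h.nor
  mono h := h.mono
  map h := h.map
  of_map hf h := h.of_map hf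
  x3 h := h.x3

variable {Γ : Type u} [Group Γ] [Finite Γ] {G A S : Subgroup Γ}

omit [Finite Γ] in
theorem aut_apply (hn : A ≤ Nrm G) {a : Γ} (ha : a ∈ A) :
    ∃ b ∈ aut hn, ∀ x : G, (b x : Γ) = a * x * a⁻¹ := ⟨_, ⟨⟨a, ha⟩, rfl⟩, fun _ => rfl⟩

/-- `W` is strongly closed when the invariant `2`-local subgroups are solvable -/
theorem Op2.closed (h : Op2 G A) (hS : IsSyl 2 S G) (AS : A ≤ Nrm S) (S1 : S ≠ ⊥)
    (loc : ∀ R : Subgroup Γ, R ≤ G → R ≠ ⊥ → IsPGroup 2 R → A ≤ Nrm R →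
      Group.IsSolvable ↥(G ⊓ Nrm R)) :
    ∀ w ∈ ww G S, ∀ g ∈ G, g * w * g⁻¹ ∈ S → g * w * g⁻¹ ∈ ww G S := by
  have := Fact.mk Nat.prime_two
  have WJ := ww_le S G
  have WS : ww G S ≤ S := WJ.trans ((H98.oz_le _).trans (H98.jt_le S))
  have W1 : ww G S ≠ ⊥ := ne_bot_of_le (H98.le_ncl _ _) (H98.oz_ne_bot hS.isPGroup S1)
  have AW : A ≤ Nrm (ww G S) := nrm_ww h.nor AS
  have eS : (S.subgroupOf G).map G.subtype = S := map_subgroupOf_eq_of_le hS.le
  have locR : ∀ R : Subgroup G, R ≠ ⊥ → IsPGroup 2 R → Inv (aut h.nor) R →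
      Group.IsSolvable ↥(G ⊓ Nrm (R.map G.subtype)) := fun R h1 h2 h3 =>
    loc _ (map_subtype_le R) (fun e => h1 ((map_eq_bot_iff_of_injective _ G.subtype_injective).1 e))
      (h2.map _) ((inv_iff h.nor R).1 h3)
  have env : Env2 (S.subgroupOf G) ((Nrm (ww G S)).subgroupOf G) (aut h.nor) :=
    { syl := hS.subgroupOf_top
      ne := fun e => S1 ((H14.subgroupOf_eq_bot_iff_of_le hS.le).1 e)
      inv := (inv_iff h.nor _).2 (by rwa [eS])
      solM := sol_of_map (by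
        rw [subgroupOf_map_subtype, inf_comm]
        exact loc _ (WS.trans hS.le) W1 (hS.isPGroup.to_le WS) AW)
      ns := map_le_iff_le_comap.1 (by
        rw [map_nrm, eS]; exact nrm_ww (nrm_of_le inf_le_left) inf_le_right)
      loc := fun R h1 h2 h3 h4 g hg => by
        have h5 := locR R h2 (hS.subgroupOf_top.isPGroup.to_le h1) h4
        obtain ⟨m, hm, o, ho, e⟩ := jobTF2 _ kl Γ G A S (G ⊓ Nrm (R.map G.subtype)) h hS AS
          (loc _ ((H98.jt_le S).trans hS.le) (ne_bot_of_le (WJ.trans (H98.oz_le _)) W1)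
            (hS.isPGroup.to_le (H98.jt_le S)) (H98.le_normalizer_jt AS))
          (by rw [← map_nrm, ← eS]; exact map_mono h3) inf_le_left
          (nrm_inf h.nor (nrm_nrm ((inv_iff h.nor R).1 h4))) h5 g
          (by rw [← map_nrm]; exact mem_map_of_mem _ hg)
        rw [← map_nrm, ← H14.map_opp_of_injective G.subtype_injective] at ho
        obtain ⟨o, ho, rfl⟩ := ho
        refine ⟨g * o⁻¹, ?_, o, ho, by simp⟩
        rw [mem_subgroupOf, show ((g * o⁻¹ : G) : Γ) = m from mul_inv_eq_of_eq_mul e]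
        exact hm
      sol := fun R h1 h2 h3 => sol_of_map (by rw [map_nrm]; exact locR R h1 h2 h3)
      x3 := fun R h1 h2 h3 d hd hk => by
        rcases eq_or_ne R ⊥ with rfl | h0
        · rw [relIndex_bot_right]; decide
        have n := (inv_iff h.nor R).1 h3
        have := (h.mono inf_le_left (nrm_inf h.nor (nrm_nrm n))).x3 (d := (d : Γ)) (locR R h0 h2 h3)
          (le_inf (map_subtype_le R) le_normalizer) (H98.map_le_centralizer_map _ h1) (h2.map _)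
          inf_le_right n ((map_nrm R).le (mem_map_of_mem _ hd))
          (hk.imp fun k e => congrArg Subtype.val e)
        rwa [← relIndex_comap, ← Subgroup.subgroupOf, H14.centralizer_singleton_subgroupOf] at this
      xq := fun R C T h1 h2 h3 h4 h5 h6 h7 => by
        rcases eq_or_ne R ⊥ with rfl | h0
        · rw [relIndex_bot_right] at h6; omega
        have n := (inv_iff h.nor R).1 h3
        refine (h.mono inf_le_left (nrm_inf h.nor (nrm_nrm n))).xq (C := C.map G.subtype)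
          (T := T.map G.subtype) (locR R h0 h2 h3)
          (le_inf (map_subtype_le R) le_normalizer) (H98.map_le_centralizer_map _ h1) (h2.map _)
          inf_le_right n (map_mono h4) ((map_mono (h5.trans inf_le_left)).trans (map_nrm R).le)
          (H98.map_le_centralizer_map _ (h5.trans inf_le_right))
          (by rwa [relIndex_map_map_of_injective _ _ G.subtype_injective]) ?_
        rintro _ ⟨x, x1, rfl⟩ x2 _ ⟨y, y1, rfl⟩ y2
        obtain ⟨t, ht, e⟩ := h7 x x1 (fun k => x2 (mem_map_of_mem _ k)) y y1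
          fun k => y2 (mem_map_of_mem _ k)
        exact ⟨t, mem_map_of_mem _ ht, mem_map_of_mem G.subtype e⟩
      sgn := fun Θ u c c' h1 h2 h3 h4 h5 h6 h7 => by
        refine h.sgn (Θ := Subtype.val '' Θ) (u := (u : Γ)) (c := (c : Γ)) (c' := (c' : Γ)) u.2 ?_ ⟨c, h2, rfl⟩
          ⟨c', h3, rfl⟩ (fun e => h4 (Subtype.ext e)) (congrArg Subtype.val h5)
          (congrArg Subtype.val h6) ?_
        · rintro a ha _ ⟨x, hx, rfl⟩
          obtain ⟨b, hb, e⟩ := aut_apply h.nor ha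
          exact ⟨b x, h1 b hb x hx, e x⟩
        · rintro _ ⟨x, hx, rfl⟩ k k'
          exact congrArg Subtype.val (h7 x hx (fun e => k (e ▸ rfl)) fun e => k' (e ▸ rfl)) }
  intro w hw g hg e
  obtain ⟨m, hm, c, hc, e2⟩ := jobCtl2 G _ _ _ env (zpowers ⟨w, hS.le (WS hw)⟩) ⟨g, hg⟩
    (zpowers_le.2 (WS hw)) ((cj_zpowers _ _).le.trans (zpowers_le.2 e))
  have e3 : g = m * c := congrArg Subtype.val e2
  have e4 : w * c = c * w := congrArg Subtype.val (mem_cent.1 hc _ (mem_zpowers _))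
  have : g * w * g⁻¹ = m * w * (m : Γ)⁻¹ := by
    rw [e3, mul_assoc (m : Γ), ← e4]; group
  rw [this]
  exact conj_mem_of_mem_nrm hm hw

/-- **The theorem.** -/
theorem thm (h : Op2 G A) : Group.IsSolvable G := by
  have := Fact.mk Nat.prime_two
  induction hn : Nat.card G using Nat.strong_induction_on generalizing Γ with
  | _ n ih =>
  by_contra ns
  obtain ⟨S, hS⟩ := H98.exists_isSyl 2 G
  replace h := h.syl le_rfl h.nor hS
  have AS : Nrm S ⊓ (G ⊔ A) ≤ Nrm S := inf_le_left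
  generalize Nrm S ⊓ (G ⊔ A) = A at h AS
  have sub : ∀ K : Subgroup Γ, K < G → A ≤ Nrm K → Group.IsSolvable K := fun K hK hA =>
    ih _ (hn ▸ card_lt_of_lt hK) (h.mono hK.le hA) rfl
  have cs : ∀ N : Subgroup Γ, N ⊴ G → A ≤ Nrm N → N ≠ ⊥ → N = G := fun N h1 h2 h3 => by
    by_contra e
    exact ns (sol_of_quo h1.2 (sub N (lt_of_le_of_ne h1.1 e) h2)
      (ih _ (hn ▸ card_quo_lt h1 h3) ((h.subgroupOf h1.2 h2).map (qmap N)) rfl))
  have G1 : G ≠ ⊥ := fun e => ns (e ▸ inferInstance)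
  have F1 : fittingOf G = ⊥ := by
    by_contra e
    exact ns (cs _ (fittingOf_normalIn G) (nrm_fittingOf h.nor) e ▸ sol_of_nil (fittingOf_nil G))
  have ab : ∀ N : Subgroup Γ, N ⊴ G → IsMulCommutative N → N = ⊥ := fun N h1 h2 =>
    eq_bot_iff.2 ((le_fittingOf h1 (nil_of_comm h2)).trans F1.le)
  have loc : ∀ R : Subgroup Γ, R ≤ G → R ≠ ⊥ → IsPGroup 2 R → A ≤ Nrm R →
      Group.IsSolvable ↥(G ⊓ Nrm R) := fun R h1 h2 h3 h4 =>
    sub _ (lt_of_le_of_ne inf_le_left fun e => h2 (eq_bot_iff.2 ((le_fittingOf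
      ⟨h1, inf_eq_left.1 e⟩ (nil_of_isPGroup Nat.prime_two h3)).trans F1.le)))
      (nrm_inf h.nor (nrm_nrm h4))
  have S1 : S ≠ ⊥ := fun e => ns (H42.odd_order (Nat.odd_iff.2 (Nat.two_dvd_ne_zero.1
    (hS.eq_bot_iff.1 e))))
  have sc := h.closed hS AS S1 loc
  obtain ⟨T₀, hT₀, l0⟩ := exists_minNormal_le (X := G) G1 le_normalizer
  have mn : ∀ a ∈ A, MinNormal (cj a T₀) G ∧ cj a T₀ ≤ G := fun a ha => by
    have e : cj a G = G := cj_of_mem_nrm (h.nor ha)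
    refine ⟨⟨fun k => hT₀.ne_bot (H98.cj_eq_bot_iff.1 k), ?_, fun L k1 k2 k3 => ?_⟩,
      e ▸ cj_mono a l0⟩
    · rw [← cj_nrm, ← e]; exact cj_mono a hT₀.nrm
    · rw [← hT₀.2.2 (cj a⁻¹ L) (H98.le_cj_iff.1 k1) (fun k => k2 (H98.cj_eq_bot_iff.1 k)) (by
        rw [← cj_nrm, ← cj_of_mem_nrm (inv_mem (h.nor ha))]; exact cj_mono _ k3)]
      exact (H98.cj_cj_inv a L).symm
  obtain ⟨𝒯, h𝒯⟩ : ∃ 𝒯 : Set (Subgroup Γ), ∀ T, T ∈ 𝒯 ↔ ∃ a ∈ A, cj a T₀ = T :=
    ⟨{T | _}, fun _ => Iff.rfl⟩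
  have m : ∀ T ∈ 𝒯, MinNormal T G ∧ T ≤ G := fun T hT => by
    obtain ⟨a, ha, rfl⟩ := (h𝒯 T).1 hT
    exact mn a ha
  have iv : ∀ a ∈ A, ∀ T ∈ 𝒯, cj a T ∈ 𝒯 := fun a ha T hT => by
    obtain ⟨b, hb, rfl⟩ := (h𝒯 T).1 hT
    exact (h𝒯 _).2 ⟨a * b, mul_mem ha hb, cj_mul a b T₀⟩
  have m0 : T₀ ∈ 𝒯 := (h𝒯 _).2 ⟨1, one_mem _, cj_one T₀⟩
  have cm : ∀ T ∈ 𝒯, ∀ T' ∈ 𝒯, T' ≠ T → T ≤ Cent T' := fun T hT T' hT' e =>
    cent_of_nrm_of_disjoint ((m T hT).2.trans (m T' hT').1.nrm) ((m T' hT').2.trans (m T hT).1.nrm)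
      (((m T hT).1.le_or_inf_eq_bot (m T' hT').1.nrm).resolve_left fun k =>
        e ((m T' hT').1.2.2 T k (m T hT).1.ne_bot (m T hT).1.nrm).symm)
  have nn : ∀ X : Subgroup Γ, (∀ a ∈ X, ∀ T ∈ 𝒯, cj a T ∈ 𝒯) → X ≤ Nrm (sSup 𝒯) :=
    fun X k b hb => H98.mem_normalizer_of_cj_le (by
      rw [H98.cj_le_iff]
      exact sSup_le fun T hT => H98.cj_le_iff.1 (le_sSup (k b hb T hT)))
  have sp : sSup 𝒯 = G := cs _ ⟨sSup_le fun T hT => (m T hT).2, nn G fun a ha T hT => by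
    rwa [cj_of_mem_nrm ((m T hT).1.nrm ha)]⟩ (nn A iv) (ne_bot_of_le (le_sSup m0) hT₀.ne_bot)
  have z : G ⊓ Cent G = ⊥ := ab _ ⟨inf_le_left, nrm_zc le_normalizer⟩ (comm_zc G)
  have df : ∀ T ∈ 𝒯, Df G T := fun T hT => by
    obtain ⟨k1, k2⟩ := m T hT
    have k3 : G ≤ T ⊔ G ⊓ Cent T := sp.ge.trans (sSup_le fun T' hT' => by
      by_cases e : T = T'
      · exact e ▸ le_sup_left
      · exact le_sup_of_le_right (le_inf (m T' hT').2 (cm T' hT' T hT e)))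
    have : Nontrivial T := (nontrivial_iff_ne_bot T).2 k1.ne_bot
    refine ⟨k2, ⟨fun N hN => ?_⟩, fun k => k1.ne_bot (ab T ⟨k2, k1.nrm⟩ k), k3⟩
    refine (k1.eq_bot_or_eq (map_subtype_le N) (k3.trans (sup_le (normalIn_map_subtype hN).2
      (H98.le_normalizer_of_le_centralizer (inf_le_right.trans
        (cent_anti (map_subtype_le N))))))).imp
      (map_eq_bot_iff_of_injective _ T.subtype_injective).1 fun e => ?_
    rw [← subgroupOf_map_subtype_self N]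
    exact subgroupOf_eq_top.2 e.ge
  have WJ := ww_le S G
  have WS : ww G S ≤ S := WJ.trans ((H98.oz_le _).trans (H98.jt_le S))
  refine h.fin hS AS (loc S hS.le S1 hS.isPGroup AS) (sp ▸ z) ⟨T₀, m0⟩ df cm iv
    fun T hT x hx y hy => (df T hT).one hS WS (H12.ea_mono (H98.ea_oz _) WJ) sc (fun k => ?_) hx hy
  refine ne_bot_of_le (H98.le_ncl _ _) (H98.oz_ne_bot hS.isPGroup S1) (eq_bot_iff.2
    ((le_inf (WS.trans hS.le) (le_centralizer_iff.1 (sp.ge.trans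
      (sSup_le fun T' hT' => ?_)))).trans z.le))
  obtain ⟨a, ha, rfl⟩ := (h𝒯 T).1 hT
  obtain ⟨b, hb, rfl⟩ := (h𝒯 T').1 hT'
  have e := H98.cj_mono (b * a⁻¹) (le_centralizer_iff.1 k)
  rwa [H98.cj_cj, inv_mul_cancel_right, H98.cj_centralizer,
    H98.cj_eq_self (nrm_ww h.nor AS (mul_mem hb (inv_mem ha)))] at e

end H52.NC
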