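import Cfsg.Agent.H82.FSSpec
import Cfsg.Agent.H98.JoinSylow

/-! Tower FS, job RedB: transfer to the central quotient. -/

set_option autoImplicit false

namespace H52.FSRedB

open Subgroup H82.FS
open H98 hiding cj
open scoped commutatorElement

universe u

variable {G H : Type u} [Group G] [Group H] {π : G →* H} {p r : ℕ} {A : Subgroup G}

theorem cen_of (hk : π.ker = center G) {a b : G} (e : π a = π b) : ∃ c ∈ center G, a = b * c :=
  ⟨b⁻¹ * a, hk ▸ (MonoidHom.mem_ker.2 (by rw [map_mul, map_inv, e, inv_mul_cancel])), by group⟩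

theorem cm_eq (hk : π.ker = center G) {a a' : G} (b : G) (e : π a = π a') : ⁅a, b⁆ = ⁅a', b⁆ := by
  obtain ⟨c, hc, rfl⟩ := cen_of hk e
  have k := mem_center_iff.1 hc b
  simp only [commutatorElement_def]
  calc a' * c * b * (a' * c)⁻¹ * b⁻¹ = a' * (c * b) * c⁻¹ * a'⁻¹ * b⁻¹ := by group
    _ = _ := by rw [← k]; group

theorem comm_le (hk : π.ker = center G) {P N : Subgroup G} (B : Subgroup G)
    (e : P.map π ≤ N.map π) : ⁅P, B⁆ ≤ ⁅N, B⁆ :=
  commutator_le.2 fun a ha b hb => by
    obtain ⟨a', ha', e1⟩ := e ⟨a, ha, rfl⟩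
    rw [← cm_eq hk b e1]
    exact commutator_mem_commutator ha' hb

theorem map_ln (g : G) : (ln A g).map π = ln (A.map π) (π g) := by
  unfold ln
  rw [Subgroup.map_sup]
  exact congrArg _ (map_cj π g A)

theorem map_kl (g : G) : (kl A g).map π = kl (A.map π) (π g) := by
  unfold kl
  rw [map_commutator, map_ln]

variable [Finite G]

/-- A point inside `A Z` is `A`. -/
theorem pt (hL : Lin p r A) {h : G} (e : cj h A ≤ A ⊔ center G) : cj h A = A := by
  have := Fact.mk hL.hp
  have := isCyclic_of_prime_card hL.card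
  have a1 : A ≤ centralizer (A : Set G) := le_centralizer_iff_isMulCommutative.2 inferInstance
  have a2 : A ⊔ center G ≤ centralizer ((A ⊔ center G : Subgroup G) : Set G) := by
    rw [H98.centralizer_sup]
    refine le_inf (sup_le a1 (center_le_centralizer _)) ?_
    exact le_centralizer_iff.1 (center_le_centralizer _)
  have a3 : ln A h ≤ A ⊔ center G := sup_le le_sup_left e
  have a4 : kl A h = ⊥ := commutator_eq_bot_iff_le_centralizer.2
    (a3.trans (a2.trans (centralizer_anti a3)))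
  have a5 := hL.sub h
  rw [a4, bot_sup_eq] at a5
  exact eq_of_le_of_card_ge a5 (card_cj h A).ge

theorem inf_bot (hL : Lin p r A) (hA : ¬ A ≤ center G) {a : G} (ha : a ∈ A) (hc : a ∈ center G) :
    a = 1 := by
  have := Fact.mk (hL.card ▸ hL.hp : (Nat.card A).Prime)
  rcases ((center G).subgroupOf A).eq_bot_or_eq_top_of_prime_card with e | e
  · have : (⟨a, ha⟩ : A) ∈ (center G).subgroupOf A := hc
    rw [e, mem_bot] at this
    exact congrArg Subtype.val this
  · exact absurd (subgroupOf_eq_top.1 e) hA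

omit [Finite G] in
theorem le_sup_of (hk : π.ker = center G) {B L : Subgroup G} (e : B.map π ≤ L.map π) :
    B ≤ L ⊔ center G := by
  rw [← hk, ← comap_map_eq]
  exact map_le_iff_le_comap.1 e

theorem pt_le (hL : Lin p r A) {g h : G} (e : cj h A ≤ ln A g ⊔ center G) : cj h A ≤ ln A g := by
  have := Fact.mk hL.hp
  have := Fact.mk hL.hr
  have pA : IsPGroup p A := IsPGroup.of_card (n := 1) (by rw [hL.card, pow_one])
  have aL : A ≤ ln A g := le_sup_left
  have nK : A ≤ normalizer (kl A g : Set G) :=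
    le_normalizer_commutator (le_normalizer_of_le aL) (le_normalizer_of_le aL)
  have hS : IsSyl p A (ln A g) := ⟨aL, pA, fun Q hQ a b => by
    have b' : Q ≤ A ⊔ kl A g := b.trans (sup_le le_sup_left ((hL.sub g).trans (sup_comm _ _).le))
    have d : kl A g ⊓ Q = ⊥ := (IsPGroup.disjoint_of_ne r p hL.pr _ _ (hL.line g) hQ).eq_bot
    rw [← inf_eq_right.2 b', sup_inf_of_le_left nK a, d, sup_bot_eq]⟩
  have nZ : ln A g ≤ normalizer (center G : Set G) := le_normalizer_of_normal
  obtain ⟨P, hP, aP⟩ := exists_isSyl_le pA (aL.trans (le_sup_left : _ ≤ ln A g ⊔ center G))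
  have h1 : P ≤ A ⊔ center G := hS.le_sup_of_normal nZ hP.isPGroup aP hP.le
  obtain ⟨x, hx, h2⟩ := hP.exists_cj_le (isPGroup_cj h pA) e
  obtain ⟨l, hl, z, hz, rfl⟩ := (mem_sup_left_norm nZ).1 hx
  have h3 : H98.cj z (H98.cj h A) = H98.cj h A :=
    cj_eq_self (centralizer_le_normalizer _ (center_le_centralizer _ hz))
  rw [← cj_cj, h3, cj_cj] at h2
  have h4 : H98.cj (l * h) A = A := pt hL (h2.trans h1)
  have h5 : H98.cj h A = H98.cj l⁻¹ A := by
    conv_rhs => rw [← h4, cj_cj, inv_mul_cancel_left]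
  change H98.cj h A ≤ _
  rw [h5]
  exact cj_le_of_le_of_mem aL (inv_mem hl)

theorem main (hs : Function.Surjective π) (hk : π.ker = center G) (hU : Uni p r A)
    (hA : ¬ A ≤ center G) : Lin p r (A.map π) ∧ Lr (A.map π) ∧ (Loc r A → Loc r (A.map π)) ∧
    ((∀ R, Sp r A R → Cls r A R) → ∀ R, Sp r (A.map π) R → Cls r (A.map π) R) ∧
    (Iso A → Iso (A.map π)) := by
  have hL := hU.lin
  have := Fact.mk hL.hr
  have mc : ∀ g, (cj g A).map π = cj (π g) (A.map π) := fun g => map_cj π g A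
  have sp : ∀ R, Sp r A R → Sp r (A.map π) (R.map π) := fun R h =>
    ⟨h.1.map π, map_le_normalizer_map π h.2.1, by rw [← map_commutator, h.2.2]⟩
  refine ⟨⟨hL.hp, hL.p2, hL.hr, hL.pr, ?_, ?_, fun g => ?_, fun g => ?_⟩, fun g h h1 h2 => ?_,
    fun hl K k1 k2 => ?_, fun hc R hR => ?_, fun hi g hg => ?_⟩
  · rw [← hL.card]
    refine (Nat.card_eq_of_bijective (fun a : A => (⟨π a, a, a.2, rfl⟩ : A.map π))
      ⟨fun a b e => ?_, ?_⟩).symm
    · obtain ⟨c, hc, e1⟩ := cen_of hk (congrArg Subtype.val e)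
      have : c ∈ A := (mul_mem_cancel_left b.2).1 (e1 ▸ a.2)
      exact Subtype.ext (by rw [e1, inf_bot hL hA this hc, mul_one])
    · rintro ⟨_, a, ha, rfl⟩
      exact ⟨⟨a, ha⟩, rfl⟩
  · rw [coe_map, ← map_normalClosure _ _ hs, hL.gen]
    exact map_top_of_surjective _ hs
  · obtain ⟨g, rfl⟩ := hs g
    rw [← map_kl]; exact (hL.line g).map π
  · obtain ⟨g, rfl⟩ := hs g
    rw [← map_kl, ← mc, ← Subgroup.map_sup]
    exact map_mono (hL.sub g)
  · obtain ⟨g, rfl⟩ := hs g
    obtain ⟨h, rfl⟩ := hs h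
    rw [← mc, ← map_ln] at h2 ⊢
    refine map_mono ?_
    have h3 : cj h A ≠ A := fun e => h1 (by rw [← mc, e])
    by_cases h4 : cj g A = A
    · rw [h4]; exact le_sup_left
    · have h5 : ln A h ≤ ln A g := sup_le le_sup_left (pt_le hL (le_sup_of hk h2))
      rw [eq_of_le_of_card_ge h5 (hU.eq g h h4 h3).le]
      exact le_sup_right
  · have e := map_comap_eq_self_of_surjective hs K
    obtain ⟨R, a, b, c, d⟩ := hl (K.comap π) (fun t => k1 (by
      rw [← e, t]; exact map_top_of_surjective _ hs)) (map_le_iff_le_comap.1 k2)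
    refine ⟨R.map π, sp R a, map_le_iff_le_comap.2 b, e ▸ map_le_normalizer_map π c, fun g hg => ?_⟩
    obtain ⟨g, rfl⟩ := hs g
    rw [← mc] at hg
    obtain ⟨y, hy, e1⟩ := d g (map_le_iff_le_comap.1 hg)
    exact ⟨π y, ⟨y, hy, rfl⟩, by rw [← mc, ← mc, e1]⟩
  · have e := map_comap_eq_self_of_surjective hs R
    set W := R.comap π with hW
    have aW : A ≤ normalizer (W : Set G) :=
      (le_comap_map π A).trans (comap_le_normalizer_comap π hR.2.1)
    obtain ⟨S, hS⟩ := exists_isSyl r W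
    have e1 : S.map π = R := by
      have := hS.map π
      rw [e] at this
      exact this.eq_of_isPGroup hR.1
    have wS : W ≤ normalizer (S : Set G) := (le_sup_of hk (e.trans e1.symm).le).trans
      (sup_le le_normalizer ((center_le_centralizer _).trans (centralizer_le_normalizer _)))
    have aS : A ≤ normalizer (S : Set G) := fun a ha => by
      obtain ⟨x, hx, e2⟩ := hS.exists_cj_eq (hS.cj_of_mem_normalizer (aW ha))
      rw [cj_eq_self (wS hx)] at e2
      exact cj_eq_self_iff.1 e2.symm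
    have e2 : (⁅W, A⁆ : Subgroup G).map π = R := by rw [map_commutator, e, hR.2.2]
    have hsp : Sp r A ⁅W, A⁆ := ⟨hS.isPGroup.to_le ((comm_le hk A (e.trans e1.symm).le).trans
      (commutator_le_left' aS)), le_normalizer_commutator aW le_normalizer,
      le_antisymm (commutator_mono (commutator_le_left' aW) le_rfl)
        (comm_le hk A (e.trans e2.symm).le)⟩
    obtain ⟨c1, c2, c3⟩ := hc _ hsp
    generalize (⁅W, A⁆ : Subgroup G) = T at e2 c1 c2 c3
    subst e2
    refine ⟨?_, ?_, ?_⟩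
    · rw [← map_commutator, c1]
      refine le_antisymm (le_inf (map_mono inf_le_left) (map_le_centralizer_map π inf_le_right)) ?_
      rintro _ ⟨⟨y, hy, rfl⟩, h2⟩
      refine ⟨y, ⟨hy, fun a ha => ?_⟩, rfl⟩
      have h3 : ∀ a ∈ A, π (y * a * y⁻¹) = π a := fun a ha => by
        rw [map_mul, map_mul, ← h2 _ ⟨a, ha, rfl⟩, map_inv, mul_inv_cancel_right]
      have h4 : cj y A = A := pt hL (le_sup_of hk (by
        rintro _ ⟨_, ⟨b, hb, rfl⟩, rfl⟩
        exact ⟨b, hb, (h3 b hb).symm⟩))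
      obtain ⟨c, hc, e3⟩ := cen_of hk (h3 a ha)
      have h5 : y * a * y⁻¹ ∈ A := conj_mem_of_mem_normalizer (cj_eq_self_iff.1 h4) ha
      have h6 : c ∈ A := (mul_mem_cancel_left ha).1 (e3 ▸ h5)
      rw [inf_bot hL hA h6 hc, mul_one] at e3
      exact (mul_inv_eq_iff_eq_mul.1 e3).symm
    · rw [← map_commutator]; exact map_le_centralizer_map π c2
    · rintro _ ⟨y, hy, rfl⟩
      rw [← map_commutator, ← map_pow]
      exact ⟨_, c3 y hy, rfl⟩
  · obtain ⟨g, rfl⟩ := hs g
    have h1 : cj g A = A := pt hL (le_sup_of hk ((mc g).trans (cj_eq_self hg)).le)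
    exact map_le_centralizer_map π hi ⟨g, cj_eq_self_iff.1 h1, rfl⟩

theorem jobRedB : JobRedB.{u} := fun _ _ _ _ _ _ hU hA =>
  main (QuotientGroup.mk'_surjective _) (QuotientGroup.ker_mk' _) hU hA

end H52.FSRedB
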