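import Cfsg.Agent.H52.TeK
import Cfsg.Agent.H78.XS
import Cfsg.Agent.H15.BGKit

/-! TE2, job S6: the extraspecial group `Q`. -/

set_option autoImplicit false
set_option linter.unusedSectionVars false

namespace H52.TeS6

open Subgroup Cfsg H98 H1.Gold H86.L34 H88.AS H88.TE H52.TeK
open H6 (F4)

universe u
variable {G : Type u} [Group G] [Finite G] {s : SD G} {g g' x j X q q' t z : G} {y y' : V4} {e e' : F4}

def Fx (y : V4) : Prop := Xs y = y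
instance : DecidablePred Fx := fun _ => by unfold Fx; infer_instance
def ψ : V4 → V4 := W₁ 1 ∘ W₂ F4.w
abbrev B (t : F4) : Prop := t = 0 ∨ t = 1

def J (x : F4 × F4) : F4 × F4 := (F4.w * (x.1 + x.1 ^ 2) + x.2 + x.2 ^ 2, F4.v * x.1 ^ 2 + x.2 ^ 2)
def Xv (x : F4 × F4) : F4 × F4 := (x.1 ^ 2, x.2 ^ 2 + x.1)
def Pv (b : F4) (x : F4 × F4) : F4 × F4 := (x.1, x.2 + b * x.1)

/-- The action on `V₁`. -/
def AV (s : SD G) (g : G) (φ : F4 × F4 → F4 × F4) : Prop :=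
  ∀ x : F4 × F4, g * s.u x.1 0 x.2 * g⁻¹ = s.u (φ x).1 0 (φ x).2

theorem AV.mul {φ φ' : F4 × F4 → F4 × F4} (a : AV s g φ) (b : AV s g' φ') : AV s (g * g') (φ ∘ φ') :=
  fun x => by rw [Function.comp, ← a, ← b]; group

theorem AV.inv {φ φ' : F4 × F4 → F4 × F4} (a : AV s g φ) (i : ∀ x, φ (φ' x) = x) : AV s g⁻¹ φ' :=
  fun x => by rw [← mul_right_inj g, ← mul_left_inj g⁻¹, a, i]; group

section
set_option maxRecDepth 100000
theorem d1 : ∀ y : V4, ψ^[5] y = y := by decide +kernel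
theorem d2 : ∀ y : V4, Fx y → ∃ x, Fx x ∧ y + ψ^[4] x = x := by decide +kernel
theorem d3 : ∀ y : V4, (∀ x, Fx x → B (bf y x)) → Fx y := by decide +kernel
theorem d4 : ∀ y : V4, (∀ x, Fx x → bf y x = 0) → y = 0 := by decide +kernel
theorem d5 : ∀ y : V4, Fx y → ∃ x, Xs x + x = y := by decide +kernel
theorem d6 : ∀ y : V4, Fx y → qf y = 0 → y ≠ 0 → VT y := by decide +kernel
theorem d7 : ∀ y : V4, VT y → y.2.2.2 = 1 → Fx y := by decide +kernel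
theorem d8 : ∀ y : V4, Fx y → ∃ x, Fx x ∧ qf x = 0 ∧ qf (x + y) = 0 := by decide +kernel
theorem d9 : ∀ y : V4, Fx y → ψ^[4] y = y → qf y = 0 := by decide +kernel
theorem d10 : ∀ x : V4, Fx x → ∀ y, Fx y → B (bf x y) ∧ Fx (x + y) := by decide +kernel
theorem d11 : Fintype.card {y : V4 // Fx y} = 16 := by decide +kernel
theorem d12 : ∃ y : V4, Fx y ∧ qf (ψ^[48] y + y) = 1 := by decide +kernel
theorem d13 : ∀ y : V4, Fx y → B (qf y) ∧ B y.2.2.1 ∧ B y.2.2.2 := by decide +kernel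
theorem d14 : ∀ y : V4, Xs (Xs y) = y := by decide +kernel
theorem d15 : ∀ y : V4, Fx y → ∃ i j k l : Bool, y = cond i (1, 1, 0, 0) 0 + cond j (F4.w, F4.v, 0, 0) 0 +
    cond k (0, 0, 1, 0) 0 + cond l (0, 0, 0, 1) 0 := by decide +kernel
theorem d16 : ∀ e1 e2 e4 : F4, ∃ c d a : F4, B (e1 + bf (c, d, a, 0) (1, 1, 0, 0) ^ 2) ∧
    B (e2 + bf (c, d, a, 0) (F4.w, F4.v, 0, 0) ^ 2) ∧ B (e4 + bf (c, d, a, 0) (0, 0, 0, 1) ^ 2) := by
  decide +kernel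
theorem d17 : ∀ y : V4, ∃ x x', Fx x ∧ Fx x' ∧ y = x + F4.w • x' := fun y =>
  ⟨y + F4.w • (Xs y + y), Xs y + y, by revert y; decide +kernel⟩
theorem f1 : ∀ t t' c : F4, B t → B t' → B (t + t' + c + c ^ 2) := by decide
theorem f2 : ∀ t : F4, B t → t + t ^ 2 = 0 := by decide
theorem f3 : ∀ e : F4, e ^ 2 = e → (e * F4.w) ^ 2 + e + e * F4.w = 0 := by decide
theorem f4 : ∀ t e : F4, B t → B (t + e ^ 2 + e) := by decide
theorem f5 : ∀ t c : F4, B t → B (t + c) → B c := by decide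
theorem f6 : ∀ a b c : F4, a + c = 0 → a + (b + b ^ 2) + c = 0 → False ∨
    ∃ ε : F4, ε ^ 2 + ε = b := by decide
theorem f7 : ∀ a ν : F4, W₁ a (Rho ν (W₁ a (Rho ν (1, 0, 0, 0)))) = (1, 0, 0, 0) → ν = 1 := by decide
theorem f8 : ∀ x, J (J (J x)) = x := by decide
theorem f9 : ∀ x, J (J (Xv (Pv 0 (J x)))) = Pv 1 x := by decide
theorem f10 : ∀ x, J (Xv (Pv 1 (J (J x)))) = Pv 1 x := by decide
theorem f11 : ∀ x y, J (x + y) = J x + J y := by decide +kernel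
end

theorem ind (P : V4 → Prop) (h0 : P 0) (m : ∀ x y, Fx x → Fx y → P x → P y → P (x + y))
    (h1 : P (1, 1, 0, 0)) (h2 : P (F4.w, F4.v, 0, 0)) (h3 : P (0, 0, 1, 0)) (h4 : P (0, 0, 0, 1))
    (hy : Fx y) : P y := by
  obtain ⟨i, j, k, l, rfl⟩ := d15 y hy
  have c : ∀ (i : Bool) (v : V4), Fx v → P v → Fx (cond i v 0) ∧ P (cond i v 0) := fun i v a b => by
    cases i
    exacts [⟨(by decide : Fx 0), h0⟩, ⟨a, b⟩]
  have m' : ∀ x y, Fx x ∧ P x → Fx y ∧ P y → Fx (x + y) ∧ P (x + y) := fun x y a b =>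
    ⟨(d10 x a.1 y b.1).2, m x y a.1 b.1 a.2 b.2⟩
  exact (m' _ _ (m' _ _ (m' _ _ (c i _ (by decide) h1) (c j _ (by decide) h2)) (c k _ (by decide) h3))
    (c l _ (by decide) h4)).2

theorem KI.conj {K : Subgroup G} (a : KI K x) (g : G) : KI K (g * x * g⁻¹) := by
  obtain ⟨o, k, m⟩ := a
  exact ⟨by rwa [← MulAut.conj_apply, MulEquiv.orderOf_eq], g * k, cj_cj g k K ▸ conj_mem_cj m⟩

/-- `g` fixes `q` modulo `z`. -/
def Cm (z g q : G) : Prop := g * q * g⁻¹ = q ∨ g * q * g⁻¹ = q * z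

theorem Cm.right (zz : z * z = 1) (c : Commute z q') (a : Cm z g q) (b : Cm z g q') :
    Cm z g (q * q') := by
  unfold Cm
  rw [← conj_mul]
  rcases a with a | a <;> rcases b with b | b <;> rw [a, b]
  · exact Or.inl rfl
  · exact Or.inr (mul_assoc _ _ _).symm
  · exact Or.inr (by rw [mul_assoc, c.eq, mul_assoc])
  · exact Or.inl (by rw [mul_assoc, ← mul_assoc z, c.eq, mul_assoc, zz, mul_one])

theorem Cm.left (zz : z * z = 1) (c : g * z * g⁻¹ = z) (a : Cm z g q) (b : Cm z g' q) :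
    Cm z (g * g') q := by
  unfold Cm
  rw [show g * g' * q * (g * g')⁻¹ = g * (g' * q * g'⁻¹) * g⁻¹ by group]
  rcases b with b | b <;> rw [b]
  · exact a
  · rw [← conj_mul, c]
    exact a.symm.imp (fun a => by rw [a, mul_assoc, zz, mul_one]) fun a => by rw [a]

theorem Cm.symm (c : Commute z g) (a : Cm z g q⁻¹) : Cm z q g := a.imp
  (fun a => by rw [mul_assoc, mul_inv_eq_iff_eq_mul.1 a]; group)
  fun a => by rw [mul_assoc, mul_inv_eq_iff_eq_mul.1 a, ← c.eq]; group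

theorem pow12 {d : Dt G} (F : Fr d) (ht : t ∈ d.K) (tt : t * t = 1) (t1 : t ≠ 1) (hz : z ∈ d.A)
    (oz : orderOf z = 2) (o : Odd (orderOf g)) (c : Commute g t) (c' : Commute g z) : g ^ 12 ∈ d.K := by
  have n := H69.Std.nor_of_inv F.std ht tt t1 c
  obtain ⟨i, hi⟩ := o
  have m := F.osq g (subset_closure ⟨g ^ (i + 1), pow_mem n _, by
    rw [← pow_add, show i + 1 + (i + 1) = 2 * i + 1 + 1 by ring, pow_succ, ← hi, pow_orderOf_eq_one,
      one_mul]⟩)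
  obtain ⟨k, hk, a, ha, e⟩ := (mem_sup_left_norm (centralizer_le_normalizer _)).1 m
  obtain ⟨b, hb, rfl⟩ := F.cls z hz oz
  have c1 : Commute a (b * d.z 1 * b⁻¹) := by
    have := (show Commute k⁻¹ _ from (inv_mem hk _ hz).symm).mul_left (c'.pow_left 3)
    rwa [e, inv_mul_cancel_left] at this
  obtain ⟨k', hk', a', b', c', e'⟩ := F.cenz (b⁻¹ * a * b) (mul_mem (mul_mem (inv_mem hb) ha) hb) (by
    rw [commute_iff_eq]
    calc _ = b⁻¹ * (a * (b * d.z 1 * b⁻¹)) * b := by group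
      _ = _ := by rw [c1.eq]; group)
  have e2 : g ^ 3 = k * k' * (b * d.u a' b' c' * b⁻¹) := by
    calc _ = k * b * (b⁻¹ * a * b) * b⁻¹ := by rw [e]; group
      _ = k * (b * k') * d.u a' b' c' * b⁻¹ := by rw [e']; group
      _ = _ := by rw [hk' b hb]; group
  have c2 : Commute (k * k') (b * d.u a' b' c' * b⁻¹) :=
    (mul_mem hk hk' _ (mul_mem (mul_mem hb (F.uA _ _ _)) (inv_mem hb))).symm
  rw [show 12 = 3 * 4 from rfl, pow_mul, e2, c2.mul_pow, conj_pow, show 4 = 2 * 2 from rfl,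
    pow_mul (d.u a' b' c'), F.hm.sq, F.hm.sq, zero_mul, F.hm.one, mul_one, mul_inv_cancel, mul_one]
  exact pow_mem (mul_mem hk hk') _

/-- `x` acts like the field-graph element. -/
structure G0 (s : SD G) (x : G) : Prop where
  xO : x ∈ cen s.O
  xa : s.Act x Xs
  xv : ∀ a e, x * s.u a 0 e * x⁻¹ = s.u (a ^ 2) 0 (e ^ 2 + a)

structure GX (s : SD G) (X : G) : Prop extends G0 s X where
  xx : X * X = 1
  xq : ∀ y e, Fx y → Cm (s.z 1) X (s.p y e)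

theorem G0.xz (a : G0 s x) (e : F4) : x * s.z e * x⁻¹ = s.z (e ^ 2) := by simpa using a.xv 0 e

variable (h : Sz s)
include h

theorem G0.nZ (a : G0 s x) : x ∈ nor s.Z := mem_normalizer_fintype fun z hz => by
  obtain ⟨e, rfl⟩ := (mem_Z h).1 hz
  exact a.xz e ▸ zZ h _

theorem cj_mul (a b c : G) : a * b * c * (a * b)⁻¹ = a * (b * c * b⁻¹) * a⁻¹ := by group

theorem pu (y : V4) (e a e' : F4) :
    s.p y e * s.u a 0 e' * (s.p y e)⁻¹ = s.u a 0 (e' + y.2.2.2 * a) := by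
  rw [up h, p_conj h, up h]; simp [bf]

theorem G0.mulp (a : G0 s x) (c d b e : F4) : G0 s (x * s.p (c, d, b, 0) e) :=
  ⟨mul_mem a.xO (p_cO h _ _), act_mul h a.xa (a.nZ h) (act_p h _ _), fun a' e' => by
    rw [cj_mul h, pu h, zero_mul, add_zero, a.xv]⟩

theorem G0.cp (a : G0 s x) (b : x * s.p y 0 * x⁻¹ = s.p y' e') (e : F4) :
    x * s.p y e * x⁻¹ = s.p y' (e' + e ^ 2) := by
  rw [← pz h, ← b, ← a.xz, conj_mul, pz h, zero_add]

theorem G0.xx (a : G0 s x) : x * x ∈ cen s.Z ∧ s.Act (x * x) id :=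
  ⟨(mem_cZ h).2 fun e => by rw [cj_mul h, a.xz, a.xz]; congr 1; revert e; decide,
    fun y => by simpa [d14] using act_mul h a.xa (a.nZ h) a.xa y⟩

theorem ex1 (A : SA s) (a : G0 s x) : ∃ x, G0 s x ∧ x * x ∈ s.P := by
  obtain ⟨o, ho, y, e, b⟩ := A.ker _ (a.xx h).1 (a.xx h).2
  obtain ⟨k, hk⟩ := oddO h ho
  have oc : o ∈ cen s.O := eq_mul_inv_of_mul_eq b.symm ▸
    mul_mem (mul_mem a.xO a.xO) (inv_mem (p_cO h y e))
  have c : ∀ y e, o ^ k * s.p y e * (o ^ k)⁻¹ = s.p y e := fun y e => by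
    rw [p_cO h y e _ (pow_mem ho k), mul_inv_cancel_right]
  refine ⟨o ^ k * x, ⟨mul_mem (pow_mem oc k) a.xO, fun y => ?_, fun a' e' => ?_⟩, ?_⟩
  · obtain ⟨e, b⟩ := a.xa y
    exact ⟨e, by rw [cj_mul h, b, c]⟩
  · rw [cj_mul h, a.xv, up h, c]
  · rw [mul_assoc, ← mul_assoc x, ← a.xO _ (pow_mem ho k), mul_assoc, b, ← mul_assoc, ← mul_assoc,
      ← pow_add, ← pow_succ, ← two_mul, ← hk, pow_orderOf_eq_one, one_mul]
    exact pP h _ _

theorem cm_p (b : g * s.p y e * g⁻¹ = s.p y e') : Cm (s.z 1) g (s.p y e) ↔ B (e' + e) := by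
  unfold Cm
  rw [b, pz h]
  refine or_congr ⟨fun a => ?_, fun a => ?_⟩ ⟨fun a => ?_, fun a => ?_⟩
  · rw [(p_ext h a).2, F4.add_self]
  · rw [← add_zero e', ← F4.add_self e, ← add_assoc, a, zero_add]
  · rw [(p_ext h a).2, add_right_comm, F4.add_self, zero_add]
  · rw [← add_zero e', ← F4.add_self e, ← add_assoc, a, add_comm]

theorem exX (A : SA s) (a : G0 s x) : ∃ X, GX s X := by
  obtain ⟨x, a, xx⟩ := ex1 h A a
  choose ε hε using a.xa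
  obtain ⟨c, d, b, h1, h2, h4⟩ := d16 (ε (1, 1, 0, 0)) (ε (F4.w, F4.v, 0, 0)) (ε (0, 0, 0, 1))
  have a' := a.mulp h c d b 0
  have k : ∀ y, Fx y → ∃ t, B t ∧ x * s.p (c, d, b, 0) 0 * s.p y 0 * (x * s.p (c, d, b, 0) 0)⁻¹ =
      s.p y t := by
    have k0 : ∀ y, Fx y → x * s.p (c, d, b, 0) 0 * s.p y 0 * (x * s.p (c, d, b, 0) 0)⁻¹ =
        s.p y (ε y + bf (c, d, b, 0) y ^ 2) := fun y hy => by
      rw [cj_mul h, p_conj h, a.cp h (hε y), zero_add, hy]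
    intro y hy
    refine ind (fun y => ∃ t, B t ∧ _ * s.p y 0 * _ = s.p y t) ⟨0, Or.inl rfl, by simp [p0 h]⟩ ?_
      ⟨_, h1, k0 _ (by decide)⟩ ⟨_, h2, k0 _ (by decide)⟩
      ⟨1, Or.inr rfl, by simpa [up h] using a'.xv 1 0⟩ ⟨_, h4, k0 _ (by decide)⟩ hy
    rintro y y' - - ⟨t, b1, b2⟩ ⟨t', b3, b4⟩
    refine ⟨t + t' + cc y y' + cc y y' ^ 2, ?_, ?_⟩
    · exact f1 _ _ _ b1 b3
    · rw [← pz h, ← p_mul h, ← b2, ← b4, ← a'.xz, conj_mul, conj_mul, p_mul h, pz h]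
      simp
  have sq : x * s.p (c, d, b, 0) 0 * (x * s.p (c, d, b, 0) 0) ∈ s.P := by
    have := mul_mem (mul_mem xx (conj_mem_of_mem_normalizer' (act_nor h a.xa (a.nZ h))
      (pP h (c, d, b, 0) 0))) (pP h (c, d, b, 0) 0)
    rwa [show ∀ p : G, x * x * (x⁻¹ * p * x) * p = x * p * (x * p) from fun p => by group] at this
  generalize x * s.p (c, d, b, 0) 0 = x at a' k sq
  obtain ⟨y, e, b⟩ := (mem_P h).1 sq
  obtain rfl : y = 0 := d4 y fun y' hy => by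
    obtain ⟨t, b1, b2⟩ := k y' hy
    have := p_conj h y y' e 0
    rw [b, cj_mul h, b2, a'.cp h b2, zero_add] at this
    rw [← (p_ext h this).2, f2 t b1]
  rw [← zp h] at b
  have ee : e ^ 2 = e := z_inj h (by rw [← a'.xz, b]; group)
  refine ⟨x * s.p (0, 0, 0, 0) (e * F4.w), a'.mulp h 0 0 0 _, ?_, fun y e' hy => ?_⟩
  · rw [← up h, show ∀ z : G, x * z * (x * z) = x * z * x⁻¹ * (x * x) * z from fun z => by group,
      a'.xz, ← b, zz h, zz h, z_eq_one h]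
    exact f3 e ee
  · obtain ⟨t, b1, b2⟩ := k y hy
    refine (cm_p h (by rw [cj_mul h, p_conj h, a'.cp h b2])).2 ?_
    simpa [bf] using f4 t e' b1

/-- The subgroup `Q₀`. -/
def Q0 : Subgroup G where
  carrier := {g | ∃ y e, Fx y ∧ s.p y e = g}
  one_mem' := ⟨0, 0, by decide, p0 h⟩
  mul_mem' := by
    rintro _ _ ⟨y, e, a, rfl⟩ ⟨y', e', a', rfl⟩
    exact ⟨_, _, (d10 y a y' a').2, (p_mul h _ _ _ _).symm⟩
  inv_mem' := by
    rintro _ ⟨y, e, a, rfl⟩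
    exact ⟨_, _, a, (p_inv h _ _).symm⟩

theorem pQ0 (a : Fx y) (e : F4) : s.p y e ∈ Q0 h := ⟨y, e, a, rfl⟩
theorem zQ0 (e : F4) : s.z e ∈ Q0 h := zp h e ▸ pQ0 h (by decide) e
theorem Q0P : Q0 h ≤ s.P := by rintro _ ⟨y, e, -, rfl⟩; exact pP h y e

theorem cardQ0 : Nat.card (Q0 h) = 64 := by
  rw [← Nat.card_congr (Equiv.ofBijective (fun x : {y // Fx y} × F4 => (⟨_, pQ0 h x.1.2 x.2⟩ : Q0 h))
    ⟨fun a b c => Prod.ext (Subtype.ext (p_ext h (congrArg Subtype.val c)).1)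
      (p_ext h (congrArg Subtype.val c)).2, fun ⟨_, y, e, a, rfl⟩ => ⟨(⟨y, a⟩, e), rfl⟩⟩),
    Nat.card_prod, Nat.card_eq_fintype_card, Nat.card_eq_fintype_card, d11]
  rfl

theorem z1c (a : g ∈ cen s.Z) : Commute (s.z 1) g := a _ (zZ h 1)

theorem mem_cZ' : g ∈ cen s.Z ↔ g * s.z 1 * g⁻¹ = s.z 1 ∧ g * s.z F4.w * g⁻¹ = s.z F4.w := by
  refine (mem_cZ h).trans ⟨fun a => ⟨a _, a _⟩, fun a e => ?_⟩
  cases e
  · simp [show F4.o = 0 from rfl, z0 h]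
  · exact a.1
  · exact a.2
  · rw [show F4.v = 1 + F4.w from rfl, ← zz h, ← conj_mul, a.1, a.2]

theorem czx (xz : ∀ e, X * s.z e * X⁻¹ = s.z (e ^ 2)) (n : g ∈ nor s.Z) (c : g ∈ cen1 (s.z 1)) :
    g ∈ cen s.Z ∨ g * X ∈ cen s.Z := by
  obtain ⟨e, b⟩ := (mem_Z h).1 (conj_mem_of_mem_normalizer n (zZ h F4.w))
  have c := mc1.1 c
  cases e
  · rw [show F4.o = 0 from rfl, z0 h, eq_comm, conj_eq_one_iff, z_eq_one h] at b
    exact absurd b (by decide)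
  · rw [show F4.i = 1 from rfl, ← c, mul_left_inj, mul_right_inj] at b
    exact absurd (z_inj h b) (by decide)
  · exact Or.inl ((mem_cZ' h).2 ⟨c, b.symm⟩)
  · refine Or.inr ((mem_cZ' h).2 ⟨by rw [cj_mul h, xz, one_pow, c], ?_⟩)
    rw [cj_mul h, xz, show F4.w ^ 2 = 1 + F4.w from rfl, ← zz h, ← conj_mul, c, ← b, zz h]
    rfl

section
variable (a : GX s X)
include a

theorem GX.inv : X⁻¹ = X := inv_eq_of_mul_eq_one_right a.xx
theorem GX.z1 : X * s.z 1 * X⁻¹ = s.z 1 := by rw [a.xz, one_pow]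
theorem GX.zw : X * s.z F4.w * X⁻¹ = s.z F4.v := a.xz _

theorem GX.nQ0 : X ∈ nor (Q0 h) := mem_normalizer_fintype (by
  rintro _ ⟨y, e, b, rfl⟩
  rcases a.xq y e b with c | c <;> rw [c]
  exacts [pQ0 h b e, mul_mem (pQ0 h b e) (zQ0 h 1)])

theorem GX.mem : g ∈ Q0 h ⊔ zpowers X ↔ ∃ y e, Fx y ∧ (g = s.p y e ∨ g = X * s.p y e) := by
  rw [H15.BG.mem_sup_inv a.xx (a.nQ0 h)]
  refine ⟨?_, ?_⟩
  · rintro (⟨y, e, b, c⟩ | ⟨y, e, b, c⟩)
    exacts [⟨y, e, b, Or.inl c.symm⟩, ⟨y, e, b, Or.inr (by rw [c, ← mul_assoc, a.xx, one_mul])⟩]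
  · rintro ⟨y, e, b, rfl | rfl⟩
    exacts [Or.inl (pQ0 h b e), Or.inr (by rw [← mul_assoc, a.xx, one_mul]; exact pQ0 h b e)]

theorem GX.ncZ (m : q ∈ s.P) : X * q ∉ cen s.Z := fun b => by
  have := (mem_cZ h).1 ((mul_mem_cancel_right (P_cZ h m)).1 b) F4.w
  rw [a.zw h] at this
  exact absurd (z_inj h this) (by decide)

theorem GX.memc (m : g ∈ Q0 h ⊔ zpowers X) (c : g ∈ cen s.Z) : g ∈ Q0 h := by
  obtain ⟨y, e, b, rfl | rfl⟩ := (a.mem h).1 m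
  exacts [pQ0 h b e, (a.ncZ h (pP h _ _) c).elim]

theorem GX.cm (m : q ∈ Q0 h ⊔ zpowers X) (m' : q' ∈ Q0 h ⊔ zpowers X) : Cm (s.z 1) q q' := by
  have cX : Commute (s.z 1) X := (mul_inv_eq_iff_eq_mul.1 (a.z1 h)).symm
  have k : ∀ y e, Fx y → Cm (s.z 1) X (s.p y e) ∧ Cm (s.z 1) (s.p y e) X := fun y e b =>
    ⟨a.xq y e b, Cm.symm cX (p_inv h y e ▸ a.xq y _ b)⟩
  have k' : ∀ y e y' e', Fx y → Fx y' → Cm (s.z 1) (s.p y e) (s.p y' e') := fun y e y' e' b b' =>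
    (cm_p h (p_conj h _ _ _ _)).2 (by rw [add_right_comm, F4.add_self, zero_add]; exact (d10 y b y' b').1)
  have kX : Cm (s.z 1) X X := Or.inl (mul_inv_cancel_right _ _)
  obtain ⟨y, e, b, rfl | rfl⟩ := (a.mem h).1 m <;> obtain ⟨y', e', b', rfl | rfl⟩ := (a.mem h).1 m'
  · exact k' _ _ _ _ b b'
  · exact (k y e b).2.right (z2 h 1) (z1c h (p_cZ h _ _)) (k' _ _ _ _ b b')
  · exact (k y' e' b').1.left (z2 h 1) (a.z1 h) (k' _ _ _ _ b b')
  · exact (kX.left (z2 h 1) (a.z1 h) (k y e b).2).right (z2 h 1) (z1c h (p_cZ h _ _))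
      ((k y' e' b').1.left (z2 h 1) (a.z1 h) (k' _ _ _ _ b b'))

theorem GX.sqX (y : V4) (e : F4) : X * s.p y e * (X * s.p y e) = X * s.p y e * X⁻¹ * s.p y e := by
  rw [a.inv h, mul_assoc _ X]

theorem GX.sqq (m : q ∈ Q0 h ⊔ zpowers X) : q * q = 1 ∨ q * q = s.z 1 := by
  obtain ⟨y, e, b, rfl | rfl⟩ := (a.mem h).1 m
  · rw [p_sq h]
    exact (d13 y b).1.imp (fun c => by rw [c, z0 h]) fun c => by rw [c]
  · rw [a.sqX h]
    rcases a.xq y e b with c | c <;> rcases (d13 y b).1 with d | d <;> rw [c]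
    · exact Or.inl (by rw [p_sq h, d, z0 h])
    · exact Or.inr (by rw [p_sq h, d])
    · exact Or.inr (by rw [mul_assoc, (z1c h (p_cZ h _ _)).eq, ← mul_assoc, p_sq h, d, z0 h, one_mul])
    · exact Or.inl (by rw [mul_assoc, (z1c h (p_cZ h _ _)).eq, ← mul_assoc, p_sq h, d, z2 h])

/-- One of `X p`, `X p z(ω)` is an involution. -/
theorem GX.exi (b : Fx y) (e : F4) : ∃ ε, (ε = 0 ∨ ε = F4.w) ∧
    X * s.p y (e + ε) * (X * s.p y (e + ε)) = 1 := by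
  rcases a.sqq h ((a.mem h).2 ⟨y, e, b, Or.inr rfl⟩) with c | c
  · exact ⟨0, Or.inl rfl, by rwa [add_zero]⟩
  refine ⟨F4.w, Or.inr rfl, ?_⟩
  rw [← zpm h]
  calc _ = X * s.z F4.w * X⁻¹ * (X * s.p y e * X) * (s.z F4.w * s.p y e) := by group
    _ = s.z F4.v * (X * s.p y e * (X * s.p y e)) * s.z F4.w := by
      rw [a.zw h, p_cZ h y e _ (zZ h _)]; group
    _ = _ := by rw [c, zz h, zz h]; exact z0 h

theorem GX.le : Q0 h ⊔ zpowers X ≤ cen s.O ⊓ nor s.Z ⊓ nor s.V₁ := sup_le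
  (le_inf (le_inf ((Q0P h).trans (P_cO h)) ((Q0P h).trans ((P_cZ h).trans
    (centralizer_le_normalizer _)))) (by
      rintro _ ⟨y, e, -, rfl⟩
      refine mem_normalizer_fintype fun v hv => ?_
      obtain ⟨c, e', rfl⟩ := (mem_V h).1 hv
      exact pu h y e c e' ▸ uV h _ _))
  (zpowers_le.2 ⟨⟨a.xO, a.nZ h⟩, mem_normalizer_fintype fun v hv => by
    obtain ⟨c, e', rfl⟩ := (mem_V h).1 hv
    exact a.xv c e' ▸ uV h _ _⟩)

theorem GX.fx (c : ∀ y', Fx y' → Cm (s.z 1) (s.p y e * X) (s.p y' 0)) : Fx y := d3 y fun y' b => by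
  obtain ⟨t, b1⟩ := a.xa y'
  rw [b] at b1
  have := (cm_p h (by rw [cj_mul h, b1, p_conj h])).1 (c y' b)
  exact f5 t _ (by simpa using (cm_p h b1).1 (a.xq y' 0 b)) (by simpa using this)

variable (A : SA s) (Bs : SB s) (hN : nor s.Z ≤ nor s.P)
include A Bs hN

omit a A in
theorem norQ0 (c : g ∈ cen s.Z) : g ∈ nor (Q0 h) := mem_normalizer_fintype (by
  rintro _ ⟨y, e, b, rfl⟩
  have n := centralizer_le_normalizer _ c
  obtain ⟨φ, h1, h2⟩ := Bs.lin g ⟨c, hN n⟩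
  obtain ⟨e', h3⟩ := act_e h h1 n y e
  exact h3 ▸ pQ0 h (by rw [Fx, ← h2, b]) _)

theorem GX.cjX (c : g ∈ cen s.Z) : ∃ y e, g * X * g⁻¹ = s.p y e * X := by
  have n := centralizer_le_normalizer _ c
  obtain ⟨φ, h1, h2⟩ := Bs.lin g ⟨c, hN n⟩
  obtain ⟨φ', h3, -⟩ := Bs.lin g⁻¹ (inv_mem ⟨c, hN n⟩)
  have i : ∀ y, φ (φ' y) = y := act_uniq h (act_mul h h1 n h3)
    (by rw [mul_inv_cancel, ← p0 h]; exact act_p h _ _)
  have n1 := mul_mem n (a.nZ h)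
  obtain ⟨o, ho, y, e, b⟩ := A.ker (g * X * g⁻¹ * X) ((mem_cZ h).2 fun e => by
      rw [cj_mul h, cj_mul h, cj_mul h, a.xz, (mem_cZ h).1 (inv_mem c), a.xz, (mem_cZ h).1 c]
      congr 1; revert e; decide)
    fun y => by
      have := act_mul h (act_mul h (act_mul h h1 n a.xa) n1 h3) (mul_mem n1 (inv_mem n)) a.xa y
      rwa [show (((φ ∘ Xs) ∘ φ') ∘ Xs) y = id y by simp [h2, i, d14]] at this
  have b' : g * X * g⁻¹ = o * (s.p y e * X) := by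
    rw [← mul_assoc, ← b, mul_assoc (g * X * g⁻¹), a.xx, mul_one]
  obtain rfl : o = 1 := by
    obtain ⟨y', e', b1⟩ := (mem_P h).1 (mul_mem (pP h y e)
      (conj_mem_of_mem_normalizer (hN (a.nZ h)) (pP h y e)))
    refine H69.eq_one_of_odd_of_mul_self (oddO h ho) (two_elt h (mul_mem ho ho) (x := y') (e := e')
      (k := 0) ?_)
    have c1 : Commute o (s.p y e * X) := mul_mem (p_cO h y e) a.xO o ho
    rw [pow_zero, pow_one, b1, a.inv h, ← mul_assoc (s.p y e), ← mul_assoc (s.p y e), mul_assoc _ _ X,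
      ← sq, ← sq, ← c1.mul_pow, ← b', conj_pow, sq, a.xx, mul_one, mul_inv_cancel]
  exact ⟨y, e, b'.trans (one_mul _)⟩

theorem GX.nZ0 (c : g ∈ cen s.Z) : g ∈ nor (Q0 h ⊔ zpowers X) := by
  obtain ⟨y, e, b'⟩ := a.cjX h A Bs hN c
  have k := norQ0 h Bs hN c
  have fy : Fx y := a.fx h (e := e) fun y' c' => by
    have := a.cm h (mem_sup_right (mem_zpowers X))
      (mem_sup_left (conj_mem_of_mem_normalizer' k (pQ0 h c' 0)))
    rw [← b']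
    refine this.imp (fun d => ?_) fun d => ?_
    · calc _ = g * (X * (g⁻¹ * s.p y' 0 * g) * X⁻¹) * g⁻¹ := by group
        _ = _ := by rw [d]; group
    · calc _ = g * (X * (g⁻¹ * s.p y' 0 * g) * X⁻¹) * g⁻¹ := by group
        _ = s.p y' 0 * (g * s.z 1 * g⁻¹) := by rw [d]; group
        _ = _ := by rw [(mem_cZ h).1 c]
  have m : g * X * g⁻¹ ∈ Q0 h ⊔ zpowers X := by
    rw [b']; exact mul_mem (mem_sup_left (pQ0 h fy e)) (mem_sup_right (mem_zpowers X))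
  refine mem_normalizer_fintype fun q hq => ?_
  obtain ⟨y, e, b, rfl | rfl⟩ := (a.mem h).1 hq
  · exact mem_sup_left (conj_mem_of_mem_normalizer k (pQ0 h b e))
  · rw [← conj_mul]
    exact mul_mem m (mem_sup_left (conj_mem_of_mem_normalizer k (pQ0 h b e)))

theorem GX.nZ1 : nor s.Z ⊓ cen1 (s.z 1) ≤ nor (Q0 h ⊔ zpowers X) := fun _ c =>
  (czx h a.xz c.1 c.2).elim (a.nZ0 h A Bs hN) fun b =>
    (mul_mem_cancel_right (le_normalizer (mem_sup_right (mem_zpowers X)))).1 (a.nZ0 h A Bs hN b)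

theorem GX.cq0 (c : g ∈ cen s.Z) (b : ∀ q ∈ Q0 h ⊔ zpowers X, Cm (s.z 1) g q) :
    ∃ o ∈ s.O, ∃ q ∈ Q0 h, g = o * q := by
  have n := centralizer_le_normalizer _ c
  obtain ⟨φ, h1, -⟩ := Bs.lin g ⟨c, hN n⟩
  have k : ∀ y, Fx y → φ y = y := fun y d => by
    obtain ⟨e, h2⟩ := h1 y
    rcases b _ (mem_sup_left (pQ0 h d 0)) with f | f
    · exact (p_ext h (h2.symm.trans f)).1
    · exact (p_ext h (h2.symm.trans (f.trans (pz h _ _ _)))).1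
  obtain ⟨o, ho, y, e, rfl⟩ := A.ker g c fun y => by
    obtain ⟨x, x', b1, b2, d⟩ := d17 y
    have := h1 y
    rwa [show φ y = y by rw [d, map_add, map_smul, k x b1, k x' b2]] at this
  refine ⟨o, ho, _, pQ0 h (d3 y fun y' d => ?_) e, rfl⟩
  simpa using (cm_p h (e' := 0 + bf y y')
    (by rw [cj_mul h, p_conj h, p_cO h _ _ o ho, mul_inv_cancel_right])).1
    (b _ (mem_sup_left (pQ0 h d 0)))

omit A Bs hN in
theorem GX.conjX (b : Fx y) (c : X * s.p y e * (X * s.p y e) = 1) :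
    ∃ g ∈ s.P, g * X * g⁻¹ = X * s.p y e := by
  obtain ⟨x, rfl⟩ := d5 y b
  obtain ⟨e1, h1⟩ := a.xa x
  have k : ∀ ε, s.p x ε * X * (s.p x ε)⁻¹ =
      X * s.p (Xs x + x) (e1 + qf x + cc (Xs x) x + (ε ^ 2 + ε)) := fun ε => by
    calc _ = X * (X * s.p x ε * X⁻¹) * (s.p x ε)⁻¹ := by
          rw [a.inv h, ← mul_assoc X, ← mul_assoc X, a.xx, one_mul]
      _ = _ := by rw [a.cp h h1, p_inv h, mul_assoc, p_mul h]; congr 2; ring
  generalize e1 + qf x + cc (Xs x) x = e2 at k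
  have c' : X * s.p (Xs x + x) e2 * (X * s.p (Xs x + x) e2) = 1 := by
    have := k 0
    rw [zero_pow two_ne_zero, add_zero, add_zero] at this
    rw [← this, conj_mul, a.xx, mul_one, mul_inv_cancel]
  obtain ⟨e3, h3⟩ := a.xa (Xs x + x)
  rw [a.sqX h, a.cp h h3, b, p_mul h] at c c'
  obtain ⟨ε, d⟩ := (f6 (e3 + e2 ^ 2 + e2) (e2 + e) _ (p_one h c').2 (by
    rw [← (p_one h c).2]
    linear_combination (e2 + e2 ^ 2 + e2 * e) * two)).resolve_left id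
  exact ⟨_, pP h x ε, by rw [k, d, ← add_assoc, F4.add_self, zero_add]⟩

omit A Bs hN a in
theorem avJ (S : SX s x j) : AV s j J := by
  have m : ∀ x y : F4 × F4, j * s.u x.1 0 x.2 * j⁻¹ = s.u (J x).1 0 (J x).2 →
      j * s.u y.1 0 y.2 * j⁻¹ = s.u (J y).1 0 (J y).2 →
      j * s.u (x + y).1 0 (x + y).2 * j⁻¹ = s.u (J (x + y)).1 0 (J (x + y)).2 := fun x y a b => by
    have := congrArg₂ (· * ·) a b
    simp only [conj_mul, h.fr.hm.mul, add_zero, mul_zero] at this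
    rw [f11]; exact this
  have h1 : j * s.u ((0, 1) : F4 × F4).1 0 ((0, 1) : F4 × F4).2 * j⁻¹ = _ := S.j₁
  have h2 : j * s.u ((0, F4.w) : F4 × F4).1 0 ((0, F4.w) : F4 × F4).2 * j⁻¹ = _ := S.j₂
  have h3 : j * s.u ((1, 0) : F4 × F4).1 0 ((1, 0) : F4 × F4).2 * j⁻¹ = _ := S.j₃
  have h4 : j * s.u ((F4.w, 0) : F4 × F4).1 0 ((F4.w, 0) : F4 × F4).2 * j⁻¹ = _ := S.j₄
  have k1 : ∀ e : F4, j * s.u ((0, e) : F4 × F4).1 0 ((0, e) : F4 × F4).2 * j⁻¹ =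
      s.u (J (0, e)).1 0 (J (0, e)).2 := fun e => by
    cases e
    exacts [m (0, 1) (0, 1) h1 h1, h1, h2, m (0, 1) (0, F4.w) h1 h2]
  have k2 : ∀ e : F4, j * s.u ((e, 0) : F4 × F4).1 0 ((e, 0) : F4 × F4).2 * j⁻¹ =
      s.u (J (e, 0)).1 0 (J (e, 0)).2 := fun e => by
    cases e
    exacts [m (1, 0) (1, 0) h3 h3, h3, h4, m (1, 0) (F4.w, 0) h3 h4]
  rintro ⟨a, e⟩
  simpa using m _ _ (k2 a) (k1 e)

omit A Bs hN in
theorem GX.av (y : V4) (e : F4) : AV s (X * s.p y e) (Xv ∘ Pv y.2.2.2) :=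
  AV.mul (fun x => a.xv x.1 x.2) fun x => pu h y e x.1 x.2

omit A Bs hN a in
theorem av_cZ (b : AV s g (Pv 1)) : g ∈ cen s.Z := (mem_cZ h).2 fun e => by simpa [Pv] using b (0, e)

omit A Bs hN in
theorem GX.av0 (S : SX s x j) (b : y.2.2.2 = 0) : AV s (j⁻¹ * (X * s.p y e) * j) (Pv 1) := fun x => by
  have := (((avJ h S).inv (φ' := J ∘ J) f8).mul (a.av h y e)).mul (avJ h S) x
  rwa [b, show (((J ∘ J) ∘ Xv ∘ Pv 0) ∘ J) x = Pv 1 x from f9 x] at this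

omit A Bs hN in
theorem GX.av1 (S : SX s x j) (b : y.2.2.2 = 1) : AV s (j * (X * s.p y e) * j⁻¹) (Pv 1) := fun x => by
  have := ((avJ h S).mul (a.av h y e)).mul ((avJ h S).inv (φ' := J ∘ J) f8) x
  rwa [b, show ((J ∘ Xv ∘ Pv 1) ∘ J ∘ J) x = Pv 1 x from f10 x] at this

omit hN a in
theorem nv (S : SX s x j) (b : AV s g (Pv 1)) (gg : g * g = 1) (n : ¬ KI s.K g) :
    ∃ y e, Fx y ∧ y.2.2.2 = 1 ∧ g = s.p y e := by
  have cZ := av_cZ h b
  have cv : g * s.p (0, 0, 0, 1) 0 ∈ cen s.V₁ := (mem_cV h).2 fun a e => by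
    have := b (a, e + 1 * a)
    rw [cj_mul h, pu h, this]
    simp [Pv, add_assoc]
  obtain ⟨c, ν, -, d⟩ := S.cV _ cv
  have d' := act_mul h d (centralizer_le_normalizer _ (mul_mem cZ (p_cZ h _ _))) (act_p h (0, 0, 0, 1) 0)
  rw [mul_assoc, p_sq h, show qf (0, 0, 0, 1) = 0 from rfl, z0 h, mul_one] at d'
  obtain rfl : ν = 1 := f7 c ν (act_uniq h (φ' := id) (act_mul h d' (centralizer_le_normalizer _ cZ) d')
    (by rw [gg, ← p0 h]; exact act_p h _ _) (1, 0, 0, 0))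
  have d2 : s.Act g (W₁ c) := fun y => by simpa [Rho] using d' y
  obtain ⟨y, e, rfl⟩ := Bs.wa g cZ c d2 ⟨1, by rw [pow_one, sq, gg]⟩
  obtain rfl : c = 0 := by
    by_contra c0
    obtain ⟨t, -, e', k⟩ := Bs.wc _ cZ c c0 d2 (gg ▸ one_mem _)
    have := KI.conj (k ▸ Bs.wk c c0 e') t⁻¹
    exact n (by simpa [mul_assoc] using this)
  rw [w₁0 h, one_mul] at *
  have b1 : y.2.2.2 = 1 := by
    have := b (1, 0)
    rw [pu h] at this
    simpa [Pv] using (h.fr.hm.ext this).2.2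
  refine ⟨y, e, d7 y ?_ b1, b1, rfl⟩
  by_contra v
  exact n ((A.ki y e).2 ⟨(z_eq_one h).1 (p_sq h y e ▸ gg), fun c => by simp [c] at b1, v⟩)

omit Bs hN a in
theorem ff : (s.w₁ 1 * s.w₂ F4.w) ^ 4 ∈ cen s.Z ∧ s.Act ((s.w₁ 1 * s.w₂ F4.w) ^ 4) ψ^[4] ∧
    s.Act (((s.w₁ 1 * s.w₂ F4.w) ^ 4) ^ 12) ψ^[48] ∧ ((s.w₁ 1 * s.w₂ F4.w) ^ 4) ^ 5 ∈ s.O := by
  have c := mul_mem (w₁_cZ h 1) (w₂_cZ h F4.w)
  have n := centralizer_le_normalizer _ c
  have a : s.Act _ ψ := act_mul h (act_w₁ h 1) (centralizer_le_normalizer _ (w₁_cZ h 1)) (act_w₂ h F4.w)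
  refine ⟨pow_mem c 4, act_pow h a n 4, pow_mul (s.w₁ 1 * s.w₂ F4.w) 4 12 ▸ act_pow h a n 48, ?_⟩
  obtain ⟨o, ho, y, e, b⟩ := A.ker _ (pow_mem c 5) fun y => by simpa only [d1, id] using act_pow h a n 5 y
  rw [← pow_mul, mul_comm, pow_mul, b, (show Commute o (s.p y e) from p_cO h y e o ho).mul_pow, p4 h,
    mul_one]
  exact pow_mem ho 4

theorem GX.nki0 (S : SX s x j) : ¬ KI s.K X := fun ki => by
  obtain ⟨c, a4, a48, o⟩ := ff h A
  generalize (s.w₁ 1 * s.w₂ F4.w) ^ 4 = f at c a4 a48 o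
  have n := centralizer_le_normalizer _ c
  obtain ⟨y1, e1, b1, h1⟩ := (a.mem h).1 (conj_mem_of_mem_normalizer (a.nZ0 h A Bs hN c)
    (mem_sup_right (mem_zpowers X)))
  replace h1 := h1.resolve_left fun d => a.ncZ h (one_mem _) (by
    have := mul_mem (mul_mem (inv_mem c) (show f * X * f⁻¹ ∈ cen s.Z by rw [d]; exact p_cZ h y1 e1)) c
    rwa [show f⁻¹ * (f * X * f⁻¹) * f = X * 1 by group] at this)
  obtain ⟨y, b, d⟩ := d2 y1 b1
  obtain ⟨ε, -, tt⟩ := a.exi h b 0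
  obtain ⟨e2, h2⟩ := act_e h a4 n y (0 + ε)
  generalize 0 + ε = e at tt h2
  have c1 : f * (X * s.p y e) * f⁻¹ = X * s.p y e * s.z (e + (e1 + e2 + cc y1 (ψ^[4] y))) := by
    rw [← conj_mul, h1, h2, mul_assoc, p_mul h, d, mul_assoc, pz h, ← add_assoc, F4.add_self, zero_add]
  have ki' : KI s.K (X * s.p y e) := by
    obtain ⟨g, -, d⟩ := a.conjX h b tt
    exact d ▸ KI.conj ki g
  have av : ∃ i, i * s.z 1 * i⁻¹ = s.z 1 ∧ i⁻¹ * (X * s.p y e) * i ∈ cen s.Z :=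
    (d13 y b).2.2.elim (fun d => ⟨j, S.j₁, av_cZ h (a.av0 h S d)⟩) fun d =>
      ⟨j⁻¹, mc1.1 (inv_mem (mc1.2 S.j₁)), by simpa using av_cZ h (a.av1 h S d)⟩
  have tO : X * s.p y e ∈ cen s.O := mul_mem a.xO (p_cO h _ _)
  have cq : ∀ y', Fx y' → ∃ ε, Commute (s.p y' ε) (X * s.p y e) := fun y' b' => by
    have tw : X * s.p y e * s.z F4.w * (X * s.p y e)⁻¹ = s.z F4.v := by
      rw [cj_mul h, (mem_cZ h).1 (p_cZ h _ _), a.zw h]
    rcases a.cm h ((a.mem h).2 ⟨y, e, b, Or.inr rfl⟩) (mem_sup_left (pQ0 h b' 0)) with d | d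
    · exact ⟨0, (mul_inv_eq_iff_eq_mul.1 d).symm⟩
    · refine ⟨0 + F4.w, (mul_inv_eq_iff_eq_mul.1 ?_).symm⟩
      rw [← pz h, ← conj_mul, d, tw, mul_assoc, zz h]; rfl
  generalize X * s.p y e = t at c1 ki' av tO cq tt
  generalize e + _ = e at c1
  have c2 : ∀ k : ℕ, f ^ k * t * (f ^ k)⁻¹ = t * s.z e ^ k := fun k => by
    induction k with
    | zero => simp
    | succ k ih => rw [pow_succ', cj_mul h, ih, ← conj_mul, c1, ← conj_pow, (mem_cZ h).1 c, mul_assoc,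
        ← pow_succ']
  have c3 := c2 5
  rw [tO _ o, mul_inv_cancel_right, left_eq_mul, show 5 = 2 * 2 + 1 from rfl, pow_succ, pow_mul, sq (s.z e),
    z2 h, one_pow, one_mul] at c3
  rw [c3, mul_one, mul_inv_eq_iff_eq_mul] at c1
  obtain ⟨i, i1, i2⟩ := av
  obtain ⟨k, k1, k2⟩ := Bs.k1 _ ⟨i2, hN (centralizer_le_normalizer _ i2)⟩
    (by simpa using KI.conj ki' i⁻¹)
  have k3 : t ∈ cj (i * k) s.K := by rw [← cj_cj, mem_cj]; exact k1
  have k4 : s.z 1 ∈ cj (i * k) s.A := by rw [← cj_cj, ← i1]; exact conj_mem_cj (k2 (zZ h 1))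
  generalize i * k = k at k3 k4
  rw [mem_cj] at k3 k4
  have cj' : ∀ {a b : G}, Commute a b → Commute (k⁻¹ * a * k) (k⁻¹ * b * k) := fun {a b} c => by
    simpa using c.map (MulAut.conj k⁻¹)
  have t2 : k⁻¹ * t * k * (k⁻¹ * t * k) = 1 := by simp [mul_assoc, ← mul_assoc t, tt]
  have t1 : k⁻¹ * t * k ≠ 1 := fun d => by
    have := ki'.1
    rw [show t = 1 by simpa [mul_assoc] using congrArg (fun x => k * x * k⁻¹) d, orderOf_one] at this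
    omega
  have oc : ∀ a : G, orderOf (k⁻¹ * a * k) = orderOf a := fun a => by
    simpa using (MulAut.conj k⁻¹).orderOf_eq a
  have oz : orderOf (k⁻¹ * s.z 1 * k) = 2 := by
    rw [oc]
    exact orderOf_eq_prime (by rw [sq, z2 h]) fun d => one_ne_zero ((z_eq_one h).1 d)
  have m := pow12 h.fr k3 t2 t1 k4 oz (g := k⁻¹ * f * k) (by
    rw [oc]
    refine (Odd.mul (by decide : Odd 5) (oddO h o)).of_dvd_nat (orderOf_dvd_of_pow_eq_one ?_)
    rw [pow_mul, pow_orderOf_eq_one]) (cj' c1) (cj' (z1c h c).symm)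
  obtain ⟨y', b', d'⟩ := d12
  obtain ⟨ε, c4⟩ := cq y' b'
  obtain ⟨e3, h3⟩ := act_e h a48 (pow_mem n 12) y' ε
  have m2 := mul_mem m (H69.Std.conj_mem_cen
    (H69.Std.nor_of_inv h.fr.std k3 t2 t1 (cj' c4)) (inv_mem m))
  have e4 : (k⁻¹ * f * k) ^ 12 * (k⁻¹ * s.p y' ε * k * ((k⁻¹ * f * k) ^ 12)⁻¹ * (k⁻¹ * s.p y' ε * k)⁻¹) =
      k⁻¹ * (f ^ 12 * s.p y' ε * (f ^ 12)⁻¹ * (s.p y' ε)⁻¹) * k := by
    rw [show (k⁻¹ * f * k) ^ 12 = k⁻¹ * f ^ 12 * k by simpa using conj_pow (i := 12) (a := k⁻¹) (b := f)]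
    generalize f ^ 12 = f
    group
  rw [e4, h3, p_inv h, p_mul h] at m2
  have m3 := mul_mem m2 m2
  rw [show ∀ a : G, k⁻¹ * a * k * (k⁻¹ * a * k) = k⁻¹ * (a * a) * k from fun a => by group, p_sq h,
    d'] at m3
  exact absurd (oz ▸ h.fr.zodd _ k4 m3) (by decide)

theorem GX.nki (S : SX s x j) (b : Fx y) (c : X * s.p y e * (X * s.p y e) = 1) (g : G) :
    ¬ KI s.K (g * (X * s.p y e) * g⁻¹) := fun ki => by
  obtain ⟨g', -, d⟩ := a.conjX h b c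
  refine a.nki0 h A Bs hN S ?_
  simpa [← d, mul_assoc] using KI.conj ki (g * g')⁻¹

theorem GX.jQ (S : SX s x j) : j ∈ nor (Q0 h ⊔ zpowers X) := by
  rw [← inv_mem_iff]
  refine mem_normalizer_of_cj_le (cj_le_iff.2 ?_)
  rw [inv_inv]
  have k0 : ∀ y e, Fx y → y.2.2.2 = 0 → X * s.p y e * (X * s.p y e) = 1 →
      X * s.p y e ∈ cj j (Q0 h ⊔ zpowers X) := fun y e b b0 c => by
    obtain ⟨y', e', d1, -, d2⟩ := nv h A Bs S (a.av0 h S (e := e) b0)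
      (by rw [show ∀ t : G, j⁻¹ * t * j * (j⁻¹ * t * j) = j⁻¹ * (t * t) * j from fun t => by group, c,
        mul_one, inv_mul_cancel])
      (by simpa using a.nki h A Bs hN S b c j⁻¹)
    exact mem_cj.2 (d2 ▸ mem_sup_left (pQ0 h d1 _))
  have kX : X ∈ cj j (Q0 h ⊔ zpowers X) := by
    simpa [p0 h] using k0 0 0 (by decide) rfl (by simpa [p0 h] using a.xx)
  have kw : s.z F4.w ∈ cj j (Q0 h ⊔ zpowers X) := by
    have : j * s.u 1 0 1 * j⁻¹ = s.z F4.w := avJ h S (1, 1)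
    exact this ▸ conj_mem_cj (mem_sup_left (up h 1 0 1 ▸ pQ0 h (by decide) _))
  have k1 : ∀ y e, Fx y → y.2.2.2 = 0 → s.p y e ∈ cj j (Q0 h ⊔ zpowers X) := fun y e b b0 => by
    obtain ⟨ε, d, c⟩ := a.exi h b e
    have := (mul_mem_cancel_left kX).1 (k0 y _ b b0 c)
    rcases d with rfl | rfl
    · rwa [add_zero] at this
    · exact (mul_mem_cancel_right kw).1 (pz h y e _ ▸ this)
  obtain ⟨ε, -, c⟩ := a.exi h (y := (0, 0, 0, 1)) (by decide) 0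
  obtain ⟨y1, e1, d1, d2, d3⟩ := nv h A Bs S (a.av1 h S (y := (0, 0, 0, 1)) (e := 0 + ε) rfl)
    (by rw [conj_mul, c, mul_one, mul_inv_cancel]) (a.nki h A Bs hN S (by decide) c j)
  have k2 : s.p y1 e1 ∈ cj j (Q0 h ⊔ zpowers X) :=
    d3 ▸ conj_mem_cj ((a.mem h).2 ⟨_, _, by decide, Or.inr rfl⟩)
  refine sup_le ?_ (zpowers_le.2 kX)
  rintro _ ⟨y, e, b, rfl⟩
  rcases (d13 y b).2.2 with c | c
  · exact k1 y e b c
  · refine (mul_mem_cancel_right k2).1 (p_mul h _ _ _ _ ▸ k1 _ _ (d10 y b y1 d1).2 ?_)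
    simp [c, d2]

theorem GX.tr0 (S : SX s x j) (m : q ∈ Q0 h) (qq : q * q = 1) (q1 : q ≠ 1) (qz : q ≠ s.z 1) :
    ∃ g ∈ nor (Q0 h ⊔ zpowers X), g * s.z F4.w * g⁻¹ = q := by
  obtain ⟨y, e, b, rfl⟩ := m
  by_cases y0 : y = 0
  · subst y0
    rw [← zp h] at *
    cases e
    · exact (q1 (z0 h)).elim
    · exact (qz rfl).elim
    · exact ⟨1, one_mem _, by simp⟩
    · exact ⟨X, le_normalizer (mem_sup_right (mem_zpowers X)), a.zw h⟩
  obtain ⟨g, hg, c, e', d⟩ := A.vt y e (d6 y b ((z_eq_one h).1 (p_sq h y e ▸ qq)) y0)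
  have gc := Y_cZ h hg
  obtain ⟨y', e2, b', d'⟩ := conj_mem_of_mem_normalizer (norQ0 h Bs hN gc) (pQ0 h b e)
  rw [d, up h] at d'
  obtain ⟨rfl, rfl⟩ := p_ext h d'
  obtain rfl : c = 1 := (d13 _ b').2.1.resolve_left fun c0 => y0 (by
    rw [show c = 0 from c0] at d
    have := d.trans ((mem_cZ h).1 gc _).symm
    rw [mul_left_inj, mul_right_inj, zp h] at this
    exact (p_ext h this).1)
  refine ⟨g⁻¹ * s.p (0, 0, 0, e2 + F4.v) 0 * j, mul_mem (mul_mem (inv_mem (a.nZ0 h A Bs hN gc))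
    (a.nZ0 h A Bs hN (p_cZ h _ _))) (a.jQ h A Bs hN S), ?_⟩
  rw [cj_mul h, cj_mul h, S.j₂, pu h, mul_one, add_left_comm, F4.add_self, add_zero, ← d]
  group

theorem GX.tr (S : SX s x j) (m : q ∈ Q0 h ⊔ zpowers X) (qq : q * q = 1) (q1 : q ≠ 1)
    (qz : q ≠ s.z 1) : ∃ g ∈ nor (Q0 h ⊔ zpowers X), g * s.z F4.w * g⁻¹ = q := by
  obtain ⟨y, e, b, rfl | rfl⟩ := (a.mem h).1 m
  · exact a.tr0 h A Bs hN S (pQ0 h b e) qq q1 qz
  obtain ⟨g, hg, d⟩ := a.conjX h b qq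
  have jq := a.jQ h A Bs hN S
  have c : j⁻¹ * X * j ∈ cen s.Z := by simpa [p0 h] using av_cZ h (a.av0 h S (y := 0) (e := 0) rfl)
  have n : X ∉ cen s.Z := by simpa using a.ncZ h (one_mem _)
  obtain ⟨g', h1, h2⟩ := a.tr0 h A Bs hN S (a.memc h (conj_mem_of_mem_normalizer' jq
    (mem_sup_right (mem_zpowers X))) c) (by simp [mul_assoc, ← mul_assoc X, a.xx])
    (fun d => n (by
      rw [show X = 1 by simpa [mul_assoc] using congrArg (fun x => j * x * j⁻¹) d]; exact one_mem _))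
    (fun d => n (by
      rw [show X = s.z 1 by rw [← S.j₁, ← d]; group, zp h]
      exact p_cZ h _ _))
  refine ⟨g * j * g', mul_mem (mul_mem (a.nZ0 h A Bs hN (P_cZ h hg)) jq) h1, ?_⟩
  rw [cj_mul h, h2, ← d]; group

end

theorem jobS6 : JobS6.{u} := by
  intro G _ _ s x j h A Bs hN S
  obtain ⟨X, a⟩ := exX h A ⟨S.xO, S.xa, S.xv⟩
  have mX : X ∈ Q0 h ⊔ zpowers X := mem_sup_right (mem_zpowers X)
  have mz := fun e => (mem_sup_left (zQ0 h e) : s.z e ∈ Q0 h ⊔ zpowers X)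
  have n : X ∉ cen s.Z := by simpa using a.ncZ h (one_mem _)
  have zc : ∀ q ∈ Q0 h ⊔ zpowers X, (∀ q' ∈ Q0 h ⊔ zpowers X, Commute q q') → q = 1 ∨ q = s.z 1 :=
    fun q m c => by
      obtain ⟨y, e, b, rfl⟩ := a.memc h m ((mem_cZ h).2 fun e => by
        rw [(c _ (mz e)).eq, mul_inv_cancel_right])
      obtain rfl : y = 0 := d4 y fun y' b' => by
        have := p_conj h y y' e 0
        rw [(c _ (mem_sup_left (pQ0 h b' 0))).eq, mul_inv_cancel_right, zero_add] at this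
        exact (p_ext h this).2.symm
      have := a.xz e
      rw [← zp h] at *
      rw [← (c _ mX).eq, mul_inv_cancel_right] at this
      exact (show ∀ e : F4, e = e ^ 2 → B e by decide) e (z_inj h this) |>.imp
        (fun d => by rw [d, z0 h]) fun d => by rw [d]
  have z1 : ∀ q ∈ Q0 h ⊔ zpowers X, s.z 1 * q = q * s.z 1 := fun q m => by
    obtain ⟨y, e, b, rfl | rfl⟩ := (a.mem h).1 m
    · exact z1c h (p_cZ h y e)
    · exact Commute.mul_right (mul_inv_eq_iff_eq_mul.1 (a.z1 h)).symm (z1c h (p_cZ h y e))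
  obtain ⟨c, a4, -, o⟩ := ff h A
  refine ⟨Q0 h ⊔ zpowers X, H78.XS.isExtraspecial (z := s.z 1) ⟨mz 1,
      fun d => one_ne_zero ((z_eq_one h).1 d), z2 h 1, z1, zc, fun q m => a.sqq h m,
      fun q m q' m' => (a.cm h m m').imp mul_inv_eq_iff_eq_mul.1 fun d => by
        rw [mul_inv_eq_iff_eq_mul.1 d, mul_assoc, z1 q m, mul_assoc],
      X, mX, _, mz F4.w, fun d => absurd (z_inj h ((a.zw h).symm.trans
        (mul_inv_eq_iff_eq_mul.2 d))) (by decide)⟩,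
    by rw [H15.BG.card_sup_inv a.xx (a.nQ0 h) fun d => n (P_cZ h (Q0P h d)), cardQ0 h]; rfl,
    zc, fun q m => a.sqq h m, fun q m q' m' => a.cm h m m',
    fun b e c => mem_sup_left (up h b 0 e ▸ pQ0 h (by rcases c with rfl | rfl <;> decide) e),
    a.le h, ⟨X, mX, a.zw h⟩, a.nZ1 h A Bs hN, a.jQ h A Bs hN S,
    fun v m => a.tr h A Bs hN S m, sup_le ?_ (zpowers_le.2 (subset_closure ⟨mX, a.xx⟩)),
    fun g m b => ?_, _, a.nZ0 h A Bs hN c, fun q m => ((a.le h m).1.1 _ o : _), Q0 h, le_sup_left,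
    fun q m q' m' => ?_, ?_⟩
  · rintro _ ⟨y, e, b, rfl⟩
    obtain ⟨y', b1, b2, b3⟩ := d8 y b
    have k : ∀ y e, Fx y → qf y = 0 → s.p y e ∈ closure {v | v ∈ Q0 h ⊔ zpowers X ∧ v * v = 1} :=
      fun y e b c => subset_closure ⟨mem_sup_left (pQ0 h b e), by rw [p_sq h, c, z0 h]⟩
    exact (mul_mem_cancel_left (k y' 0 b1 b2)).1 (p_mul h _ _ _ _ ▸ k _ _ (d10 y' b1 y b).2 b3)
  · rcases czx h a.xz m.1 m.2 with c | c
    · obtain ⟨o, ho, q, hq, d⟩ := a.cq0 h A Bs hN c b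
      exact ⟨o, ho, q, mem_sup_left hq, d⟩
    · obtain ⟨o, ho, q, hq, d⟩ := a.cq0 h A Bs hN c fun q hq =>
        Cm.left (z2 h 1) (mc1.1 m.2) (b q hq) (a.cm h mX hq)
      exact ⟨o, ho, q * X, mul_mem (mem_sup_left hq) mX, by
        rw [← mul_assoc, ← d, mul_assoc, a.xx, mul_one]⟩
  · obtain ⟨y, e, b, rfl | rfl⟩ := (a.mem h).1 m
    · exact Or.inl (pQ0 h b e)
    obtain ⟨y', e', b', rfl | rfl⟩ := (a.mem h).1 m'
    · exact Or.inr (Or.inl (pQ0 h b' e'))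
    · have := mul_mem (conj_mem_of_mem_normalizer (a.nQ0 h) (pQ0 h b e)) (pQ0 h b' e')
      rw [a.inv h, mul_assoc] at this
      exact Or.inr (Or.inr this)
  · rintro _ ⟨y, e, b, rfl⟩ d
    obtain ⟨e', d'⟩ := act_e h a4 (centralizer_le_normalizer _ c) y e
    rw [d', pz h] at d
    rw [p_sq h, d9 y b (d.elim (fun d => (p_ext h d).1) fun d => (p_ext h d).1), z0 h]

end H52.TeS6
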