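import Cfsg.Agent.H52.TeS6
import Cfsg.Agent.H21.TEGold
import Cfsg.Agent.H88.TEBase
import Cfsg.Agent.H3.BgS2

/-! TE2, job S7: the centralizer of `z 1` normalizes `Q`. -/

set_option autoImplicit false
set_option linter.unusedSectionVars false

namespace H52.TeS7

open Subgroup Cfsg H98 H1.Gold H86.L34 H88.AS H88.TE H52.TeK H52.TeS6
open H6 (F4)

universe u
variable {G : Type u} [Group G] [Finite G] {s : SD G} {g x j q t z a b : G} {Q S H B B' : Subgroup G}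

theorem four (hx : a ∈ H) (hy : b ∈ H) (n : ¬ Commute a b) :
    4 * Nat.card ↥(H ⊓ cen1 a ⊓ cen1 b) ≤ Nat.card H := by
  have h1 := H3.Bg.half (X := H ⊓ cen1 a) inf_le_left hy fun c => n (H3.Bg.mc.1 c.2).symm
  have h2 := H3.Bg.half (X := H ⊓ cen1 a ⊓ cen1 b) (V := H ⊓ cen1 a) inf_le_left
    ⟨hx, H3.Bg.mc.2 rfl⟩ fun c => n (H3.Bg.mc.1 c.2)
  omega

theorem mem_V1 (zz : z * z = 1) : q ∈ zpowers z ↔ q = 1 ∨ q = z := by
  have := H15.BG.mem_sup_inv (X := ⊥) (x := q) zz (le_normalizer_bot ⊤ trivial)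
  rw [bot_sup_eq, mem_bot, mem_bot] at this
  rw [this, mul_eq_one_iff_inv_eq, inv_eq_of_mul_eq_one_right zz, eq_comm (a := z)]

theorem d20 : ∀ y : V4, (∀ x, TeS6.B (bf y x)) → y = 0 := by decide +kernel
theorem d21 : ∀ y : V4, ∀ a ≠ 0, VT y → bf y (0, 0, a, 0) = 0 → y = (0, 0, y.2.2.1, 0) := by
  decide +kernel

variable (h : Sz s) (q0 : SQ s j Q)
include h q0

theorem zQ (e : F4) : s.z e ∈ Q := q0.v0 0 e (Or.inl rfl)

theorem Qc : Q ≤ cen1 (s.z 1) := fun q m => TeK.mc1.2 ((q0.cm q m _ (zQ h q0 1)).resolve_right fun c => by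
  rw [z2 h, conj_eq_one_iff, z_eq_one h] at c; exact one_ne_zero c)

theorem nQc : nor Q ≤ cen1 (s.z 1) := fun g m => TeK.mc1.2
  ((q0.zc _ (conj_mem_of_mem_normalizer m (zQ h q0 1)) fun q hq => by
    have := H3.Bg.mc.1 (Qc h q0 (conj_mem_of_mem_normalizer' m hq))
    rw [commute_iff_eq]
    calc _ = g * (s.z 1 * (g⁻¹ * q * g)) * g⁻¹ := by group
      _ = _ := by rw [← this]; group).resolve_left fun c => by
    rw [conj_eq_one_iff, z_eq_one h] at c; exact one_ne_zero c)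

theorem twoQ : IsPGroup 2 Q := q0.ex.1.1

theorem noGW (k : H21.TE.GW (cen1 (s.z 1)) (zpowers (s.z 1)) Q B B') : False := by
  have z1 : s.z 1 ≠ 1 := fun c => one_ne_zero ((z_eq_one h).1 c)
  have mv := fun q => mem_V1 (q := q) (z2 h 1)
  have cz : ∀ q ∈ Q, ∀ v ∈ zpowers (s.z 1), Commute q v := fun q m v hv =>
    (mv v).1 hv |>.elim (fun c => c ▸ Commute.one_right q) fun c => c ▸ H3.Bg.mc.1 (Qc h q0 m)
  have cen : ∀ a ∈ B, (∀ b ∈ B, Commute a b) → a ∈ zpowers (s.z 1) := fun a ha c =>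
    (mv a).2 (q0.zc a (k.le ha) fun q m => by
      obtain ⟨b, hb, b', hb', rfl⟩ := k.dec q m
      exact (c b hb).mul_right (k.cb hb' a ha))
  have bb : ∀ a ∈ B, a ∈ B' ↔ a ∈ zpowers (s.z 1) := fun a ha =>
    ⟨fun c => cen a ha fun b hb => (k.cb c b hb).symm, fun c => k.vb' c⟩
  have same : ∀ a ∈ B, ∀ b ∈ B, a ∉ zpowers (s.z 1) → b ∉ zpowers (s.z 1) → a * a = b * b :=
    fun a ha b hb n n' => by
      obtain ⟨c, hc, e⟩ := k.tr a ha b hb (mt (bb a ha).1 n) (mt (bb b hb).1 n')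
      have m := (bb c hc.1).1 hc.2
      rw [e, mul_assoc, ← mul_assoc b, (cz b (k.le hb) c m).eq, ← mul_assoc, ← mul_assoc]
      rcases (mv c).1 m with rfl | rfl
      · simp
      · rw [z2 h, one_mul]
  have sq : ∀ a ∈ B, a ∉ zpowers (s.z 1) → a * a = s.z 1 := fun a ha n =>
    (q0.sq a (k.le ha)).resolve_left fun e => n (cen a ha fun b hb => by
      by_cases h1 : b ∈ zpowers (s.z 1)
      · exact cz a (k.le ha) b h1
      by_cases h2 : a * b ∈ zpowers (s.z 1)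
      · simpa using (Commute.refl a).inv_right.mul_right (cz a (k.le ha) _ h2)
      have e1 := (same b hb a ha h1 n).trans e
      have e2 := (same _ (mul_mem ha hb) a ha h2 n).trans e
      rw [commute_iff_eq, ← inv_eq_of_mul_eq_one_right e2, mul_inv_rev, inv_eq_of_mul_eq_one_right e,
        inv_eq_of_mul_eq_one_right e1])
  have K : ∀ a ∈ B, ∀ b ∈ B, a ∉ zpowers (s.z 1) → b ∉ zpowers (s.z 1) →
      (Commute a b ↔ a * b ∈ zpowers (s.z 1)) := fun a ha b hb n n' =>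
    ⟨fun c => by
      by_contra m
      have := sq _ (mul_mem ha hb) m
      rw [mul_assoc, ← mul_assoc b, ← c.eq, mul_assoc, ← mul_assoc a, sq a ha n, sq b hb n', z2 h] at this
      exact z1 this.symm,
    fun c => by simpa using (Commute.refl a).inv_right.mul_right (cz a (k.le ha) _ c)⟩
  obtain ⟨x, hx, y, hy, nx, ny, nxy⟩ := k.two
  rw [bb _ hx] at nx
  rw [bb _ hy] at ny
  have nc : ¬ Commute x y := fun c => nxy (k.vb' ((K _ (inv_mem hx) y hy (by simpa using nx) ny).1 c.inv_left))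
  obtain ⟨f, hf, f5, Q0, -, i2, fx⟩ := q0.five
  have cf : ∀ (i : ℕ) {a b : G}, Commute (f ^ i * a * (f ^ i)⁻¹) (f ^ i * b * (f ^ i)⁻¹) ↔ Commute a b :=
    fun i a b => by simp only [commute_iff_eq, conj_mul, mul_left_inj, mul_right_inj]
  have ad : ∀ (i j : ℕ) (a : G), f ^ i * (f ^ j * a * (f ^ j)⁻¹) * (f ^ i)⁻¹ =
    f ^ (i + j) * a * (f ^ (i + j))⁻¹ := fun i j a => by group
  have n5 : f ^ 5 ∈ nor B := centralizer_le_normalizer _ fun b hb => (f5 b (k.le hb)).eq.symm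
  by_cases fB : f ∈ nor B
  · obtain ⟨q, hq, nq, m⟩ : ∃ q ∈ B, q ∉ zpowers (s.z 1) ∧ q ∈ Q0 := by
      rcases i2 x (k.le hx) y (k.le hy) with c | c | c
      exacts [⟨x, hx, nx, c⟩, ⟨y, hy, ny, c⟩, ⟨_, mul_mem hx hy, mt (K x hx y hy nx ny).2 nc, c⟩]
    have qB : ∀ i : ℕ, f ^ i * q * (f ^ i)⁻¹ ∈ B := fun i => conj_mem_of_mem_normalizer (pow_mem fB i) hq
    have qn : ∀ i : ℕ, f ^ i * q * (f ^ i)⁻¹ ∉ zpowers (s.z 1) := fun i c => nq (by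
      rcases (mv _).1 c with c | c
      · rw [conj_eq_one_iff.1 c]; exact one_mem _
      · rw [← TeK.mc1.1 (nQc h q0 (pow_mem hf i)), mul_left_inj, mul_right_inj] at c
        exact c ▸ mem_zpowers _)
    have q5 : f ^ 5 * q * (f ^ 5)⁻¹ = f ^ 0 * q * (f ^ 0)⁻¹ := by
      rw [(f5 q (k.le hq)).eq]; simp
    have sh : ∀ i j l : ℕ, Commute (f ^ (i + j) * q * (f ^ (i + j))⁻¹) (f ^ (i + l) * q * (f ^ (i + l))⁻¹) ↔
        Commute (f ^ j * q * (f ^ j)⁻¹) (f ^ l * q * (f ^ l)⁻¹) := fun i j l => by rw [← ad, ← ad, cf]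
    have q1 : f ^ 1 * q * (f ^ 1)⁻¹ = f * q * f⁻¹ := by rw [pow_one]
    have q2 : f ^ 0 * q * (f ^ 0)⁻¹ = q := by simp
    have c01 : Commute (f ^ 0 * q * (f ^ 0)⁻¹) (f ^ 1 * q * (f ^ 1)⁻¹) := by
      have s1 := sh 1 0 1
      have s2 := sh 2 0 1
      have s3 := sh 4 0 1
      have s4 := sh 1 0 2
      have s5 := sh 2 0 2
      have s6 := sh 3 0 2
      simp only [Nat.reduceAdd, q5] at s1 s2 s3 s4 s5 s6
      have b0 := qB 0; have b1 := qB 1; have b2 := qB 2; have b3 := qB 3; have b4 := qB 4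
      have n0 := qn 0; have n1 := qn 1; have n2 := qn 2; have n3 := qn 3; have n4 := qn 4
      generalize f ^ 0 * q * (f ^ 0)⁻¹ = a0, f ^ 1 * q * (f ^ 1)⁻¹ = a1, f ^ 2 * q * (f ^ 2)⁻¹ = a2,
        f ^ 3 * q * (f ^ 3)⁻¹ = a3, f ^ 4 * q * (f ^ 4)⁻¹ = a4 at *
      have tr : ∀ a ∈ B, ∀ b ∈ B, ∀ c ∈ B, b ∉ zpowers (s.z 1) → c ∉ zpowers (s.z 1) → Commute a b →
          Commute b c → Commute a c := fun a ha b hb c hc n n' c1 c2 => by
        simpa using c1.inv_right.mul_right (cz a (k.le ha) _ ((K b hb c hc n n').1 c2))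
      have an : ∀ a ∈ B, ∀ b ∈ B, ∀ c ∈ B, ¬ Commute a b → ¬ Commute a c → Commute a (b * c) :=
        fun a ha b hb c hc c1 c2 => by
          have e1 := (q0.cm a (k.le ha) b (k.le hb)).resolve_left fun e => c1 (mul_inv_eq_iff_eq_mul.1 e)
          have e2 := (q0.cm a (k.le ha) c (k.le hc)).resolve_left fun e => c2 (mul_inv_eq_iff_eq_mul.1 e)
          rw [commute_iff_eq, ← mul_inv_eq_iff_eq_mul, ← conj_mul, e1, e2, mul_assoc, ← mul_assoc (s.z 1),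
            ← H3.Bg.mc.1 (Qc h q0 (k.le hc)), mul_assoc, z2 h, mul_one]
      by_contra c
      by_cases c2 : Commute a0 a2
      · exact c (s3.1 (tr a4 b4 a2 b2 a0 b0 n2 n0 (s5.2 c2).symm c2.symm))
      · have n01 := mt (K a0 b0 a1 b1 n0 n1).2 c
        exact c (s2.1 (tr a2 b2 _ (mul_mem b0 b1) a3 b3 n01 n3
          (an a2 b2 a0 b0 a1 b1 (fun d => c2 d.symm) fun d => c (s1.1 d.symm))
          (an a3 b3 a0 b0 a1 b1 (fun d => c2 (s6.1 d)) fun d => c2 (s4.1 d.symm)).symm))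
    have := (mv _).1 ((K _ (qB 0) _ (qB 1) (qn 0) (qn 1)).1 c01)
    rw [q1, q2] at this
    refine z1 ((sq q hq nq).symm.trans (fx q m (this.symm.imp (fun e => ?_) fun e => ?_)))
    · exact mul_left_cancel (e.trans (sq q hq nq).symm)
    · refine mul_left_cancel (e.trans ?_)
      rw [← mul_assoc, sq q hq nq, z2 h]
  · have le : ∀ i : ℕ, i = 1 ∨ i = 2 ∨ i = 3 → ∀ a ∈ B, ∀ b ∈ B, Commute a (f ^ i * b * (f ^ i)⁻¹) :=
      fun i hi a ha b hb => k.cb ((k.cj _ ⟨nQc h q0 (pow_mem hf i), pow_mem hf i⟩).resolve_left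
        (fun e => fB (by
          have m := cj_eq_self_iff.1 e
          have : f ^ 6 ∈ nor B := by
            rcases hi with rfl | rfl | rfl
            exacts [by simpa [← pow_mul] using pow_mem m 6, by simpa [← pow_mul] using pow_mem m 3,
              by simpa [← pow_mul] using pow_mem m 2]
          exact (mul_mem_cancel_left n5).1 (pow_succ f 5 ▸ this))) (conj_mem_cj hb)) a ha
    have mQ : ∀ (i : ℕ), ∀ a ∈ B, f ^ i * a * (f ^ i)⁻¹ ∈ Q := fun i a ha =>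
      conj_mem_of_mem_normalizer (pow_mem hf i) (k.le ha)
    have cc : ∀ i d : ℕ, d = 1 ∨ d = 2 ∨ d = 3 → ∀ a ∈ B, ∀ b ∈ B,
        f ^ (i + d) * b * (f ^ (i + d))⁻¹ ∈ cen1 (f ^ i * a * (f ^ i)⁻¹) := fun i d hd a ha b hb =>
      H3.Bg.mc.2 (ad i d b ▸ ((cf i).2 (le d hd a ha b hb)).symm.eq)
    have st : ∀ (i d : ℕ) (H : Subgroup G), d = 1 ∨ d = 2 ∨ d = 3 → ∀ b ∈ B,
        f ^ (i + d) * b * (f ^ (i + d))⁻¹ ∈ H → f ^ (i + d) * b * (f ^ (i + d))⁻¹ ∈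
          H ⊓ cen1 (f ^ i * x * (f ^ i)⁻¹) ⊓ cen1 (f ^ i * y * (f ^ i)⁻¹) := fun i d H hd b hb m =>
      ⟨⟨m, cc i d hd x hx b hb⟩, cc i d hd y hy b hb⟩
    have h0 := four (mQ 0 x hx) (mQ 0 y hy) (mt (cf 0).1 nc)
    have h1 := four (st 0 1 _ (by simp) x hx (mQ _ x hx)) (st 0 1 _ (by simp) y hy (mQ _ y hy))
      (mt (cf 1).1 nc)
    have h2 := four (st 1 1 _ (by simp) x hx (st 0 2 _ (by simp) x hx (mQ _ x hx)))
      (st 1 1 _ (by simp) y hy (st 0 2 _ (by simp) y hy (mQ _ y hy))) (mt (cf 2).1 nc)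
    have h3 := four (st 2 1 _ (by simp) x hx (st 1 2 _ (by simp) x hx (st 0 3 _ (by simp) x hx (mQ _ x hx))))
      (st 2 1 _ (by simp) y hy (st 1 2 _ (by simp) y hy (st 0 3 _ (by simp) y hy (mQ _ y hy))))
      (mt (cf 3).1 nc)
    have h4 := (Nat.mul_le_mul_left 4 (Nat.succ_le_of_lt Nat.card_pos)).trans h3
    rw [q0.card] at h0
    simp only [Nat.reduceAdd] at h1 h2 h4
    omega

theorem exX : ∃ X ∈ Q, ∀ e, X * s.z e * X⁻¹ = s.z (e ^ 2) := by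
  obtain ⟨X, m, a⟩ := q0.mv
  have b := TeK.mc1.1 (Qc h q0 m)
  refine ⟨X, m, fun e => ?_⟩
  cases e
  · exact (show _ = (1 : G) by rw [show F4.o = 0 from rfl, z0 h]; simp).trans (z0 h).symm
  · exact b
  · exact a
  · rw [show F4.v = 1 + F4.w from rfl, ← zz h, ← conj_mul, a, b, zz h]; rfl

omit q0 in
theorem cmZ (n : g ∈ nor s.Z) (c : g ∈ cen1 (s.z 1)) (e : F4) : Cm (s.z 1) g (s.z e) := by
  have c := TeK.mc1.1 c
  have w : Cm (s.z 1) g (s.z F4.w) := by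
    obtain ⟨e, b⟩ := (mem_Z h).1 (conj_mem_of_mem_normalizer n (zZ h F4.w))
    cases e
    · rw [show F4.o = 0 from rfl, z0 h, eq_comm, conj_eq_one_iff, z_eq_one h] at b
      exact absurd b (by decide)
    · rw [show F4.i = 1 from rfl, ← c, mul_left_inj, mul_right_inj] at b
      exact absurd (z_inj h b) (by decide)
    · exact Or.inl b.symm
    · exact Or.inr (by rw [← b, zz h]; rfl)
  cases e
  · exact Or.inl (by rw [show F4.o = 0 from rfl, z0 h]; simp)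
  · exact Or.inl c
  · exact w
  · rw [show F4.v = F4.w + 1 from rfl, ← zz h]
    exact w.right (z2 h 1) (Commute.refl _) (Or.inl c)

/-- A Sylow subgroup of `N(Z)`. -/
structure SS (s : SD G) (Q S : Subgroup G) : Prop where
  syl : IsSyl 2 S (nor s.Z)
  QS : Q ≤ S
  PS : s.P ≤ S
  wS : ∀ a, s.w₁ a ∈ S

variable (A : SA s) (Bs : SB s) (hN : nor s.Z ≤ nor s.P)
include A Bs hN

theorem exS : ∃ S, SS s Q S := by
  have mW : ∀ g, g ∈ closure {g | ∃ a, s.w₁ a = g} ↔ ∃ a, s.w₁ a = g := fun g =>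
    mem_cl (S := {g | ∃ a, s.w₁ a = g}) ⟨0, w₁0 h⟩ (by
      rintro _ ⟨a, rfl⟩ _ ⟨b, rfl⟩
      exact ⟨a + b, by simp only [SD.w₁, conj_mul, h.loc.add]⟩)
  have cW : closure {g | ∃ a, s.w₁ a = g} ≤ cen s.Z := fun g m => by
    obtain ⟨a, rfl⟩ := (mW g).1 m; exact w₁_cZ h a
  have c : closure {g | ∃ a, s.w₁ a = g} ⊔ s.P ≤ cen s.Z := sup_le cW (P_cZ h)
  have t1 : IsPGroup 2 ↥(closure {g | ∃ a, s.w₁ a = g} ⊔ s.P) :=
    IsPGroup.to_sup_of_normal_right' (H15.BG.two_of_sq fun g m => by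
      obtain ⟨a, rfl⟩ := (mW g).1 m; exact ww₁ h a) (fun ⟨g, m⟩ => ⟨2, Subtype.ext (by
      obtain ⟨y, e, rfl⟩ := (mem_P h).1 m; exact p4 h y e)⟩)
      ((cW.trans (centralizer_le_normalizer _)).trans hN)
  obtain ⟨S, hS, le⟩ := exists_isSyl_le (H := nor s.Z) (IsPGroup.to_sup_of_normal_right' t1 (twoQ h q0)
    fun g m => q0.nZ ⟨centralizer_le_normalizer _ (c m), (z1c h (c m)).symm.eq |> H3.Bg.mc.2⟩)
    (sup_le (c.trans (centralizer_le_normalizer _)) fun q m => (q0.le m).1.2)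
  exact ⟨S, hS, le_sup_right.trans le, (le_sup_right.trans le_sup_left).trans le,
    fun a => le (mem_sup_left (mem_sup_left ((mW _).2 ⟨a, rfl⟩)))⟩

variable (T : SS s Q S)
include T

theorem Sc : S ≤ cen1 (s.z 1) := by
  obtain ⟨X, m, a⟩ := exX h q0
  obtain ⟨z, hz, z1, -, c⟩ := H15.BG.ex_cen_inv T.syl.isPGroup (V := s.Z) (fun z hz => by
    obtain ⟨e, rfl⟩ := (mem_Z h).1 hz
    exact T.QS (zQ h q0 e)) T.syl.le fun e => one_ne_zero ((z_eq_one h).1 (mem_bot.1 (e ▸ zZ h 1)))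
  obtain ⟨e, rfl⟩ := (mem_Z h).1 hz
  obtain rfl : e = 1 := (show ∀ e : F4, e ≠ 0 → e ^ 2 = e → e = 1 by decide) e
    (fun b => z1 (b ▸ z0 h)) (z_inj h ((a e).symm.trans (TeK.mc1.1 (c (T.QS m)))))
  exact c

theorem SV : S ≤ nor s.V₁ := fun g m => by
  obtain ⟨X, mX, a⟩ := exX h q0
  have k := Bs.syl (S ⊓ cen s.Z) (fun g m => ⟨m.2, hN (T.syl.le m.1)⟩) (T.syl.isPGroup.to_le inf_le_left)
    fun a => ⟨T.wS a, w₁_cZ h a⟩
  exact (czx h a (T.syl.le m) (Sc h q0 A Bs hN T m)).elim (fun c => k ⟨m, c⟩) fun c =>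
    (mul_mem_cancel_right (mem_inf.1 (q0.le mX)).2).1 (k ⟨mul_mem m (T.QS mX), c⟩)

theorem big : 2 ^ 13 ∣ Nat.card S := by
  obtain ⟨X, mX, a⟩ := exX h q0
  have h1 := H3.Bg.half (X := S ⊓ cen s.Z) inf_le_left (T.QS mX) fun c =>
    absurd (z_inj h ((a F4.w).symm.trans ((mem_cZ h).1 c.2 _))) (by decide)
  have h2 := Nat.card_le_card_of_injective (fun x : F4 × V4 × F4 => (⟨s.w₁ x.1 * s.p x.2.1 x.2.2,
      mul_mem (T.wS _) (T.PS (pP h _ _)), mul_mem (w₁_cZ h _) (p_cZ h _ _)⟩ : ↥(S ⊓ cen s.Z))) (by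
    rintro ⟨a, y, e⟩ ⟨a', y', e'⟩ b
    have b := congrArg Subtype.val b
    simp only at b
    have k : ∀ a y e, s.Act (s.w₁ a * s.p y e) (W₁ a) := fun a y e =>
      act_mul h (act_w₁ h a) (centralizer_le_normalizer _ (w₁_cZ h a)) (act_p h y e)
    obtain rfl : a = a' := by
      have := congrArg (·.2.1) (act_uniq h (k a y e) (b ▸ k a' y' e') (0, 0, 0, 1))
      simpa only [W₁, zero_add, mul_one] using this
    obtain ⟨rfl, rfl⟩ := p_ext h (mul_left_cancel b)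
    rfl)
  simp only [Nat.card_eq_fintype_card, Fintype.card_prod, F4.card_eq] at h2
  obtain ⟨n, hn⟩ := T.syl.isPGroup.exists_card_eq
  rw [hn] at h1 ⊢
  exact pow_dvd_pow 2 ((Nat.pow_le_pow_iff_right one_lt_two).1 (by omega))

theorem inZ (m : a ∈ S) (c : ∀ b ∈ S, Cm (s.z 1) a b) : a ∈ s.Z := by
  have sq : ∀ y e, a * s.z (qf y) * a⁻¹ = s.z (qf y) := fun y e => by
    rw [← p_sq h y e, ← conj_mul]
    rcases c _ (T.PS (pP h y e)) with d | d <;> rw [d]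
    rw [pz h, p_sq h, p_sq h]
  have cz : a ∈ cen s.Z := (mem_cZ h).2 fun e => by simpa [qf] using sq (1, e, 0, 0) 0
  obtain ⟨o, ho, y, e, rfl⟩ := A.ker a cz fun y => (c _ (T.PS (pP h y 0))).elim (fun d => ⟨_, d⟩)
    fun d => ⟨_, d.trans (pz h _ _ _)⟩
  obtain ⟨k, hk⟩ := H15.BG.e2_of_mem T.syl.isPGroup m
  obtain rfl := two_elt h ho hk
  rw [one_mul] at *
  obtain rfl := d20 y fun x => by simpa using (cm_p h (p_conj h y x e 0)).1 (c _ (T.PS (pP h x 0)))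
  exact zp h e ▸ zZ h e

theorem sylG : IsSyl 2 S ⊤ := by
  have n : nor S ≤ nor s.Z := fun g m => by
    obtain ⟨X, mX, a⟩ := exX h q0
    have z1 : g * s.z 1 * g⁻¹ = s.z 1 := TeK.mc1.1 (by
      have c : ∀ b ∈ S, Commute (g * s.z 1 * g⁻¹) b := fun b hb => by
        have := H3.Bg.mc.1 (Sc h q0 A Bs hN T (conj_mem_of_mem_normalizer' m hb))
        rw [commute_iff_eq]
        calc _ = g * (s.z 1 * (g⁻¹ * b * g)) * g⁻¹ := by group
          _ = _ := by rw [← this]; group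
      obtain ⟨e, b⟩ := (mem_Z h).1 (inZ h q0 A Bs hN T (conj_mem_of_mem_normalizer m (T.QS (zQ h q0 1)))
        fun b hb => Or.inl (mul_inv_eq_iff_eq_mul.2 (c b hb).eq))
      rw [TeK.mc1, ← b, (show ∀ e : F4, e ≠ 0 → e ^ 2 = e → e = 1 by decide) e
        (fun d => one_ne_zero ((z_eq_one h).1 (conj_eq_one_iff.1 (b ▸ d ▸ z0 h))))
        (z_inj h (by rw [← a, b, ← (c X (T.QS mX)).eq, mul_inv_cancel_right]))])
    refine mem_normalizer_fintype fun z hz => ?_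
    obtain ⟨e, rfl⟩ := (mem_Z h).1 hz
    refine inZ h q0 A Bs hN T (conj_mem_of_mem_normalizer m (T.QS (zQ h q0 e))) fun b hb => ?_
    have m' := conj_mem_of_mem_normalizer' m hb
    have := Cm.symm (q := s.z e) (H3.Bg.mc.1 (Sc h q0 A Bs hN T m')).symm
      ((zi h e).symm ▸ cmZ h (T.syl.le m') (Sc h q0 A Bs hN T m') e)
    refine this.imp (fun d => ?_) fun d => ?_
    · calc _ = g * (s.z e * (g⁻¹ * b * g) * (s.z e)⁻¹) * g⁻¹ := by group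
        _ = _ := by rw [d]; group
    · calc _ = g * (s.z e * (g⁻¹ * b * g) * (s.z e)⁻¹) * g⁻¹ := by group
        _ = b * (g * s.z 1 * g⁻¹) := by rw [d]; group
        _ = _ := by rw [z1]
  obtain ⟨S', hS, le⟩ := exists_isSyl_le T.syl.isPGroup le_top
  by_contra hn
  exact (lt_inf_normalizer hS.isPGroup (lt_of_le_of_ne le fun e => hn (e ▸ hS))).ne'
    (T.syl.eq_of_le (hS.isPGroup.to_le inf_le_left) (le_inf le le_normalizer) (inf_le_right.trans n))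

variable (X : SX s x j)
include X

theorem l3 (m : t ∈ S) (tt : t * t = 1) : ∃ i ∈ cen s.O ⊓ nor Q, i * t * i⁻¹ ∈ cen s.Z := by
  have c := Sc h q0 A Bs hN T m
  have c1 := TeK.mc1.1 c
  rcases cmZ h (T.syl.le m) c F4.w with d | d
  · exact ⟨1, one_mem _, by simpa using (mem_cZ' h).2 ⟨c1, d⟩⟩
  obtain ⟨a, e, a1, b⟩ := X.hyp t (SV h q0 A Bs hN T m) (H3.Bg.mc.1 c) 1 0 (Or.inr rfl)
  obtain rfl : a = 1 := a1.resolve_left (by
    rintro rfl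
    obtain ⟨e', b'⟩ := (mem_Z h).1 ((mem_normalizer_iff.1 (T.syl.le m) (s.u 1 0 0)).2
      (by rw [b]; exact zZ h e))
    exact zero_ne_one (h.fr.hm.ext b').1)
  have uz : ∀ e e', s.u 1 0 e * s.z e' = s.u 1 0 (e + e') := fun e e' => h.fr.toFr0.uz e' 1 0 e
  have k : ∀ {i : G}, i * s.z 1 * i⁻¹ = s.z 1 → t * (i * s.z F4.w * i⁻¹) * t⁻¹ = i * s.z F4.w * i⁻¹ →
      i⁻¹ * t * i⁻¹⁻¹ ∈ cen s.Z := fun {i} i1 i2 => (mem_cZ' h).2
    ⟨by calc _ = i⁻¹ * (t * (i * s.z 1 * i⁻¹) * t⁻¹) * i := by group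
        _ = i⁻¹ * (i * s.z 1 * i⁻¹) * i := by rw [i1, c1]
        _ = _ := by group,
     by calc _ = i⁻¹ * (t * (i * s.z F4.w * i⁻¹) * t⁻¹) * i := by group
        _ = _ := by rw [i2]; group⟩
  have tz : ∀ e, t * s.z e * t⁻¹ = s.z (e ^ 2) := fun e => by
    cases e
    · exact (show _ = (1 : G) by rw [show F4.o = 0 from rfl, z0 h]; simp).trans (z0 h).symm
    · exact c1
    · rw [d, zz h]; rfl
    · rw [show F4.v = 1 + F4.w from rfl, ← zz h, ← conj_mul, d, c1, zz h, zz h]; rfl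
  have tu : ∀ e', t * s.u 1 0 e' * t⁻¹ = s.u 1 0 (e + e' ^ 2) := fun e' => by
    rw [← uz, ← b, ← tz, conj_mul, uz, zero_add]
  have ee := tu e
  rw [← b, ← cj_mul h, tt, one_mul, inv_one, mul_one] at ee
  rcases (show ∀ e : F4, 0 = e + e ^ 2 → TeS6.B e by decide) e (h.fr.hm.ext ee).2.2 with rfl | rfl
  · refine ⟨j⁻¹⁻¹, inv_mem (inv_mem ⟨X.jO, q0.jQ⟩), k (TeK.mc1.1 (inv_mem (TeK.mc1.2 X.j₁))) ?_⟩
    have : j * s.u 1 0 1 * j⁻¹ = s.z F4.w := avJ h X (1, 1)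
    rw [← this, show j⁻¹ * (j * s.u 1 0 1 * j⁻¹) * j⁻¹⁻¹ = s.u 1 0 1 by group, tu]; rfl
  · exact ⟨j⁻¹, inv_mem ⟨X.jO, q0.jQ⟩, k X.j₁ (by rw [X.j₂, tu]; rfl)⟩

theorem k1' (c : t ∈ cen1 (s.z 1)) (ki : KI s.K t) : ∃ k, t ∈ cj k s.K ∧ s.z 1 ∈ cj k s.A := by
  obtain ⟨g, hg, m⟩ := ((sylG h q0 A Bs hN T).of_le (Sc h q0 A Bs hN T) le_top).exists_cj_le
    (H15.BG.two_zpowers (KI.sq ki)) (zpowers_le.2 c)
  obtain ⟨i, hi, d⟩ := l3 h q0 A Bs hN T X (m (conj_mem_cj (mem_zpowers t))) (KI.sq (KI.cj ki g))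
  obtain ⟨k, k1, k2⟩ := Bs.k1 _ ⟨d, hN (centralizer_le_normalizer _ d)⟩ (KI.cj (KI.cj ki g) i)
  refine ⟨(i * g)⁻¹ * k, ?_, ?_⟩ <;> rw [← cj_cj, mem_cj, inv_inv]
  · rwa [cj_mul h]
  · rw [TeK.mc1.1 (mul_mem (nQc h q0 hi.2) hg)]; exact k2 (zZ h 1)

theorem toV (c : t ∈ cen s.Z) (e : IsConj (s.z 1) t) : ∃ y ∈ s.Y, ∃ a e, y * t * y⁻¹ = s.u a 0 e := by
  refine (Bs.cl t ⟨c, hN (centralizer_le_normalizer _ c)⟩
    (H15.BG.IsConj.sq_one e (z2 h 1))).resolve_right ?_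
  rintro ⟨k, t', k1, o, c', n⟩
  obtain ⟨g, rfl⟩ := isConj_iff.1 e
  obtain ⟨k', k2, k3⟩ := k1' h q0 A Bs hN T X (t := g⁻¹ * t' * g⁻¹⁻¹) (H3.Bg.mc.2 (by
    calc _ = g⁻¹ * (t' * (g * s.z 1 * g⁻¹)) * g := by group
      _ = _ := by rw [c'.eq]; group)) (KI.cj ⟨o, k, k1⟩ _)
  have k4 : t' ∈ cj (g * k') s.K := by rw [← cj_cj, mem_cj]; simpa using k2
  exact n (h.fr.toFr0.cjA (same h.fr.toFr0.te o k4 k1) ▸ cj_cj g k' s.A ▸ conj_mem_cj k3)

omit q0 A Bs hN T X in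
theorem cjV {a e : F4} (n : s.u a 0 e ≠ 1) : ∃ b ∈ s.A, b * s.z 1 * b⁻¹ = s.u a 0 e :=
  h.fr.cls _ (h.fr.uA _ _ _) (orderOf_eq_prime (by rw [h.fr.hm.sq, mul_zero, h.fr.hm.one]) n)

theorem red (m : t ∈ S) (e : IsConj (s.z 1) t) :
    ∃ g ∈ cen s.O ⊓ nor Q, ∃ a e, g * t * g⁻¹ = s.u a 0 e := by
  obtain ⟨i, hi, d⟩ := l3 h q0 A Bs hN T X m (H15.BG.IsConj.sq_one e (z2 h 1))
  obtain ⟨y, hy, a, e, b⟩ := toV h q0 A Bs hN T X d (e.trans (H15.BG.isConj_conj _ _))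
  exact ⟨y * i, mul_mem ⟨Y_cO h hy, q0.nZ ⟨centralizer_le_normalizer _ (Y_cZ h hy),
    H3.Bg.mc.2 (z1c h (Y_cZ h hy)).symm.eq⟩⟩ hi, a, e, by rw [cj_mul h, b]⟩

theorem a01 {a e : F4} (c : g ∈ cen1 (s.z 1)) (b : g * s.u a 0 e * g⁻¹ = s.z F4.w) : TeS6.B a := by
  have k : ∀ a' e', g * s.u a' 0 e' * g⁻¹ ∈ cen s.Z := fun a' e' => by
    have : ∀ a e, g * s.u a' 0 e' * g⁻¹ * (g * s.u a 0 e * g⁻¹) * (g * s.u a' 0 e' * g⁻¹)⁻¹ =
        g * s.u a 0 e * g⁻¹ := fun a e => by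
      rw [conj_inv, conj_mul, conj_mul, h.fr.hm.conj]; simp
    exact (mem_cZ' h).2 ⟨TeK.mc1.1 c ▸ this 0 1, b ▸ this a e⟩
  have k1 : ∀ a' e', s.u a' 0 e' ≠ 1 → ∃ y ∈ s.Y, ∃ a e, y * (g * s.u a' 0 e' * g⁻¹) * y⁻¹ = s.u a 0 e :=
    fun a' e' n => by
      obtain ⟨b, -, d⟩ := cjV h n
      exact toV h q0 A Bs hN T X (k a' e') ((isConj_iff.2 ⟨b, d⟩).trans (H15.BG.isConj_conj _ _))
  obtain ⟨y, hy, n⟩ : ∃ y ∈ s.Y, y * g ∈ nor s.V₁ := by
    by_cases d : ∀ a' e', g * s.u a' 0 e' * g⁻¹ ∈ s.Z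
    · refine ⟨1, one_mem _, mem_normalizer_fintype fun v hv => ?_⟩
      obtain ⟨a', e', rfl⟩ := (mem_V h).1 hv
      exact h.fr.toFr0.Z_le₁ (by simpa using d a' e')
    obtain ⟨a1, e1, n1⟩ : ∃ a' e', g * s.u a' 0 e' * g⁻¹ ∉ s.Z := by simpa using d
    obtain ⟨y, hy, a2, e2, b2⟩ := k1 a1 e1 fun d => n1 (by simp [d])
    have yn := centralizer_le_normalizer _ (Y_cZ h hy)
    have a0 : a2 ≠ 0 := by
      rintro rfl
      exact n1 ((mem_normalizer_iff.1 yn _).2 (b2 ▸ zZ h e2))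
    refine ⟨y, hy, mem_normalizer_fintype fun v hv => ?_⟩
    obtain ⟨a', e', rfl⟩ := (mem_V h).1 hv
    by_cases n : s.u a' 0 e' = 1
    · simp [n]
    obtain ⟨y', hy', a3, e3, b3⟩ := k1 a' e' n
    obtain ⟨x, e4, b4⟩ := (mem_P h).1 (conj_mem_of_mem_normalizer (hN yn)
      ((mem_normalizer_iff.1 (hN (centralizer_le_normalizer _ (Y_cZ h hy'))) _).2
        (b3 ▸ up h a3 0 e3 ▸ pP h _ _)))
    rw [cj_mul h, ← b4]
    by_cases x0 : x = 0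
    · rw [x0, ← zp h]; exact uV h _ _
    have vt : VT x := by
      by_contra vt
      refine h.pr.noKI _ (h.fr.uA a' 0 e') (ki_cj.1 (ki_cj.1 (b4 ▸ (A.ki x e4).2 ⟨(z_eq_one h).1 ?_, x0, vt⟩)))
      rw [← p_sq h x e4, b4, conj_mul, conj_mul, h.fr.toFr0.uu, mul_zero, z0 h]; simp
    have := p_conj h x (0, 0, a2, 0) e4 e2
    rw [← up h, b4, ← b2, conj_inv, conj_mul, conj_mul, conj_inv, conj_mul, conj_mul, h.fr.hm.conj,
      mul_zero, zero_mul, add_zero, add_zero, b2, up h] at this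
    rw [d21 x a2 a0 vt (left_eq_add.1 (p_ext h this).2), ← up h]
    exact uV h _ _
  have c' := mul_mem (H3.Bg.mc.2 (z1c h (Y_cZ h hy)).symm.eq) c
  obtain ⟨a', e', b1, b2⟩ := X.hyp _ (inv_mem n) (H3.Bg.mc.1 (inv_mem c')) 0 F4.w (Or.inl rfl)
  rw [show s.u 0 0 F4.w = y * g * s.u a 0 e * (y * g)⁻¹ by rw [cj_mul h, b, (mem_cZ h).1 (Y_cZ h hy)],
    show (y * g)⁻¹ * (y * g * s.u a 0 e * (y * g)⁻¹) * (y * g)⁻¹⁻¹ = s.u a 0 e by group] at b2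
  exact (h.fr.hm.ext b2).1 ▸ b1

theorem sh : H21.TE.Sh (cen1 (s.z 1)) (zpowers (s.z 1)) Q
    fun d => ∃ g ∈ cen1 (s.z 1), g * s.z F4.w * g⁻¹ = d where
  two := twoQ h q0
  le := Qc h q0
  vw := zpowers_le.2 (zQ h q0 1)
  cv := le_centralizer_iff.1 (zpowers_le.2 fun _ c => H3.Bg.mc.1 c)
  cm := fun a ha b hb => (q0.cm a ha b hb).elim (fun d => by simp [d]) fun d => by
    rw [d, H3.Bg.mc.1 (Qc h q0 hb)]; simp
  dc := fun g hg _ ⟨g', m, d⟩ => ⟨g * g', mul_mem hg m, by rw [cj_mul h, d]⟩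
  gen := q0.gen.trans ((closure_le _).2 fun v ⟨m, vv⟩ => by
    by_cases v1 : v ∈ zpowers (s.z 1)
    · exact mem_sup_right v1
    obtain ⟨g, hg, d⟩ := q0.tr v m vv (fun d => v1 (d ▸ one_mem _)) fun d => v1 (d ▸ mem_zpowers _)
    exact mem_sup_left (subset_closure ⟨m, g, nQc h q0 hg, d⟩))
  wk := by
    rintro _ m ⟨g, hg, rfl⟩
    obtain ⟨b, -, hb⟩ := cjV h (a := 0) (e := F4.w) fun d => absurd ((z_eq_one h).1 d) (by decide)
    have e : IsConj (s.z 1) (g * s.z F4.w * g⁻¹) := (isConj_iff.2 ⟨b, hb⟩).trans (H15.BG.isConj_conj _ _)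
    obtain ⟨c, hc, m'⟩ := ((sylG h q0 A Bs hN T).of_le (K := nor Q)
      (fun x m => q0.nZ ⟨T.syl.le m, Sc h q0 A Bs hN T m⟩) le_top).exists_cj_le
      (H15.BG.two_zpowers (H15.BG.IsConj.sq_one e (z2 h 1))) (zpowers_le.2 m.2)
    obtain ⟨i, hi, a, e', d⟩ := red h q0 A Bs hN T X (m' (conj_mem_cj (mem_zpowers _)))
      (e.trans (H15.BG.isConj_conj _ _))
    have n := mul_mem hi.2 hc
    rw [mem_normalizer_iff.1 n, cj_mul h, d]
    exact q0.v0 a e' (a01 h q0 A Bs hN T X (inv_mem (mul_mem (nQc h q0 n) hg)) (by rw [← d]; group))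

omit h q0 A Bs hN T X in
theorem jobS7 : JobS7.{u} := by
  intro G _ _ s x j Q h A Bs hN X q0
  obtain ⟨S, T⟩ := exS h q0 A Bs hN
  have sc := Sc h q0 A Bs hN T
  have k := sh h q0 A Bs hN T X
  refine ⟨S, sylG h q0 A Bs hN T, le_inf T.syl.le sc, big h q0 A Bs hN T, ?_, fun v m e => ?_⟩
  · refine (H21.TE.goldW ((sylG h q0 A Bs hN T).of_le sc le_top) T.QS k.vw k.cv
      (fun x m => (mem_V1 (z2 h 1)).2 (q0.sq x m)) (fun w hw g hg m => k.mem hg hw (zQ h q0 F4.w)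
        ⟨1, one_mem _, by simp⟩ (fun c hc d => q0.nZ ⟨mem_normalizer_fintype fun z hz => ?_, hc⟩) ?_)
      fun Y h1 h2 h3 => (A.odd Y h1 h2 (le_trans ?_ h3)).trans
        (le_centralizer_iff.1 fun q m => (q0.le m).1.1)).resolve_right fun ⟨_, _, k⟩ => noGW h q0 k
    · have w : c * s.z F4.w * c⁻¹ ∈ s.Z := (mul_mem_cancel_right (inv_mem (zZ h F4.w))).1
        (zpowers_le.2 (zZ h 1) d)
      obtain ⟨e, rfl⟩ := (mem_Z h).1 hz
      cases e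
      · simp [show F4.o = 0 from rfl, z0 h]
      · exact (TeK.mc1.1 hc).symm ▸ zZ h 1
      · exact w
      · rw [show F4.v = 1 + F4.w from rfl, ← zz h, ← conj_mul, TeK.mc1.1 hc]
        exact mul_mem (zZ h 1) w
    · rcases cmZ h (T.syl.le m) (sc m) F4.w with d | d <;> rw [d]
      · simp
      · rw [zz h, add_comm, ← zz h]; simp
    · refine le_trans (sup_le (fun g m => ?_) fun g m => ?_) (T.PS.trans sc)
      · obtain ⟨c, -, rfl⟩ := (h.pr.mem g).1 m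
        exact rp h c ▸ pP h _ _
      · obtain ⟨a, b, c, rfl⟩ := h.fr.toFr0.mem_U.1 m
        exact up h a b c ▸ pP h _ _
  · obtain ⟨g, hg, a, e', d⟩ := red h q0 A Bs hN T X m e
    obtain ⟨b, hb, d'⟩ := cjV h (a := a) (e := e') fun n => by
      rw [n, conj_eq_one_iff] at d
      exact one_ne_zero ((z_eq_one h).1 (isConj_one_left.1 (d ▸ e)))
    exact ⟨g⁻¹ * b, mul_mem (inv_mem hg.1) (A_cO h hb), by rw [cj_mul h, d', ← d]; group⟩

end H52.TeS7
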