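import Cfsg.Agent.H23.ST0a
import Cfsg.Agent.H11.Wr0
import Cfsg.Agent.H44.STAB

/-! STD-S (S3095): job 0b. -/

set_option autoImplicit false
set_option linter.unusedSectionVars false

namespace H52.ST0b

open H64.SG Subgroup H25.ST H23.ST
open H67.SA (cm conj_mem_cjs mem_cjs card_cjs cjs_inv_le)
open H7 (conj_mem_of_mem_normalizer)

universe u

variable {X : Type} [Group X] {G : Type u} [Group G] [Finite G] {e : X →* G}

theorem exists_even {L : Subgroup G} (hA : H99.Wr.AS G) (hL : Cfsg.IsStandardSubgroup L) {y : G}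
    (hy : y ∈ L) (hy2 : orderOf y = 2) {P : Subgroup G} (h1 : P ≤ L) (h2 : P ≤ Cz y)
    (h3 : P ≤ ⁅P, P⁆) (h4 : P ≠ ⊥) :
    ∃ g ∉ Ns (Cs L), Even (Nat.card ↥(cjs g (Cs L) ⊓ Ns (Cs L))) := by
  by_contra h
  push Not at h
  have hLF := (H11.Wr.std_le_layer hL (H11.Wr.as_oddCore hA)).trans H14.layer_le_fstar
  rcases Cfsg.Agent.S3121.result hA.1 hA.2 _ hL.2.1
    (fun g hg => Nat.not_even_iff_odd.1 (h g hg)) with hn | ⟨M, hM⟩
  · have h1 := hA.le_of_nor (X := Cs L) (fun e => by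
      have := hL.2.1.1
      rw [show centralizer (L : Set G) = ⊥ from e, card_bot] at this
      exact absurd this (by decide)) (le_top.trans (normalizer_eq_top _).ge)
    exact H14.quasi_sub_commutator_ne_bot hL.1
      (commutator_eq_bot_iff_le_centralizer.2 (hLF.trans h1))
  · have := hA.1
    have hs : Group.IsSolvable M := H99.se_isSolvable H82.hub hM (H99.se_twoRank_of_simple hM)
    obtain ⟨t, ht, ht2⟩ := H88.se_exists_involution hM
    obtain ⟨f, hf⟩ := isConj_iff.1 (H88.se_isConj hM (a := ⟨y, hLF hy⟩)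
      (by rw [← hy2]; exact (orderOf_coe _).symm) ht2)
    have h5 : H98.cj (f : G) P ≤ M.map (Cfsg.generalizedFittingSubgroup G).subtype := by
      rintro _ ⟨c, hc, rfl⟩
      refine ⟨f * ⟨c, hLF (h1 hc)⟩ * f⁻¹, H88.se_centralizer_le hM ht ht2 (mem_Cz.2 ?_), rfl⟩
      rw [← hf, conj_mul, conj_mul]
      exact congrArg (fun x => f * x * f⁻¹) (Subtype.ext (mem_Cz.1 (h2 hc)))
    have h6 := H14.eq_bot_of_perfect_of_le_solvable (L := H98.cj (f : G) P)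
      (by rw [← H98.cj_commutator,
        le_antisymm ((commutator_le_sup _ _).trans_eq (sup_idem _)) h3]) h5
      (Group.isSolvable_of_surjective
        (f := (Cfsg.generalizedFittingSubgroup G).subtype.subgroupMap M)
        (MonoidHom.subgroupMap_surjective _ _))
    exact h4 (H98.cj_eq_bot_iff.1 h6)

theorem eq_of_card {T : Subgroup G} (h : Nat.card T ≤ 2) {a b : G} (ha : a ∈ T) (hb : b ∈ T)
    (a1 : a ≠ 1) (b1 : b ≠ 1) : a = b := by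
  classical
  by_contra c
  have h1 : ({1, a, b} : Set G).ncard = 3 :=
    Set.ncard_eq_three.2 ⟨1, a, b, a1.symm, b1.symm, c, rfl⟩
  have h2 : ({1, a, b} : Set G) ⊆ T := by
    rintro x (rfl | rfl | rfl)
    exacts [T.one_mem, ha, hb]
  have h3 := Set.ncard_le_ncard h2 (Set.toFinite _)
  rw [h1, ← Nat.card_coe_set_eq] at h3
  exact absurd (h3.trans h) (by decide)

theorem inv2_e (hi : Function.Injective e) {y : X} (h : Inv2 y) : Inv2 (e y) :=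
  ⟨by rw [← map_mul, h.1, map_one], fun a => h.2 (hi (a.trans (map_one e).symm))⟩

/-- The smallness condition in terms of `N(A)`. -/
def Sm (e : X →* G) : Prop :=
  ∀ g ∉ Ns e.range, ∀ T ≤ cjs g (Cs e.range) ⊓ Ns e.range, IsPGroup 2 T → Nat.card T ≤ 2

theorem inner (hF : F0 X) (hW : FW X) (h : Sd e) (hs : Sm e) {g s : G} (hg : g ∉ Ns e.range)
    (s1 : s ∈ cjs g (Cs e.range)) (s2 : s ∈ Ns e.range) (s3 : Inv2 s) :
    ∃ g ∉ Ns e.range, ∃ k ∈ Cs e.range, ∃ y, k * e y ∈ cjs g (Cs e.range) ∧ Inv2 (k * e y) := by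
  have hi := h.inj
  obtain ⟨β, hβ⟩ := exists_ind hi s2
  by_cases c : Inn β
  · obtain ⟨v, rfl⟩ := c
    exact ⟨g, hg, _, ind_conj_iff.1 hβ, v, by rwa [inv_mul_cancel_right],
      by rwa [inv_mul_cancel_right]⟩
  obtain ⟨u, x, u2, uq, ex⟩ := hW β (by rw [← sq]; exact hβ.pow_eq_one hi (by rw [sq, s3.1])) c
  have h' := h.cje g
  have kk : Cs (cje g e).range = cjs g (Cs e.range) := by rw [range_cje, cj_Cs]
  have a1 : e x * s * (e x)⁻¹ = e u * s := by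
    rw [← ex, map_mul, map_inv, ← hβ]; group
  have a2 : ∀ a ∈ fx β, e a ∈ Cz s := fun a ha => mem_Cz.2 (hβ.comm (mem_fx.1 ha))
  have a3 : ∃ γ, Ind (cje g e) (e u) γ ∧ Inn γ := by
    refine closure_induction (p := fun w _ => ∃ γ, Ind (cje g e) (e w) γ ∧ Inn γ) ?_
      ⟨1, by rw [map_one]; exact ind_one, inn_one⟩ ?_ ?_ uq
    · rintro _ ⟨a, ha, rfl⟩
      obtain ⟨γ, hγ⟩ := exists_ind h'.inj (h'.cz (kk ▸ s1) s3 (a2 a ha))
      exact ⟨γ * γ, by rw [map_mul]; exact hγ.mul hγ, hF.inn_sq γ⟩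
    · rintro a b - - ⟨γ, p, q⟩ ⟨δ, p', q'⟩
      exact ⟨γ * δ, by rw [map_mul]; exact p.mul p', q.mul q'⟩
    · rintro a - ⟨γ, p, q⟩
      exact ⟨γ⁻¹, by rw [map_inv]; exact p.inv, q.inv⟩
  obtain ⟨_, p, v, rfl⟩ := a3
  have a4 := ind_conj_iff.1 p
  have us : s * e u = e u * s := mem_Cz.1 (a2 u (sqs_le _ uq))
  have a5 : e x ∉ Ns (cje g e).range := fun d => by
    have b1 := conj_mem_of_mem_normalizer (Ns_le_Ns_Cs _ d) (kk ▸ s1)
    rw [a1, mul_mem_cancel_right (kk ▸ s1), kk] at b1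
    have b2 := hs g hg (zpowers s ⊔ zpowers (e u))
      (sup_le (zpowers_le.2 ⟨s1, s2⟩) (zpowers_le.2 ⟨b1, le_normalizer ⟨u, rfl⟩⟩))
      ((H9.UF.pg_zp s3.1).to_sup_of_normal_left' (H9.UF.pg_zp (inv2_e hi u2).1)
        ((zpowers_le.2 (mem_Cs_zpowers.2 us)).trans (Cs_le_Ns _)))
    have b3 := eq_of_card b2 (mem_sup_left (mem_zpowers _)) (mem_sup_right (mem_zpowers _)) s3.2
      (inv2_e hi u2).2
    exact c ⟨u, hβ.unique hi (b3 ▸ ind_conj u)⟩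
  have a6 : g⁻¹ * (e u * (cje g e v)⁻¹ * s) * g * e v = g⁻¹ * (e x * s * (e x)⁻¹) * g := by
    rw [a1, mul_assoc (e u), ← map_inv, mem_Cs_range.1 (kk ▸ s1) v⁻¹, map_inv, cje_apply]; group
  refine ⟨g⁻¹ * e x * g, by rwa [range_cje, ← cj_Ns, mem_cjs] at a5,
    g⁻¹ * (e u * (cje g e v)⁻¹ * s) * g, mem_cjs.1 (kk ▸ mul_mem a4 (kk ▸ s1)), v, ?_, ?_⟩
  · rw [a6, mem_cjs]
    convert mem_cjs.1 s1 using 1
    group
  · rw [a6]
    exact H9.UF.inv2_conj s3 (isConj_iff.2 ⟨g⁻¹ * e x, by group⟩)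

theorem final (hF : F0 X) (h : Sd e) (hs : Sm e) {g k : G} {y : X} (hg : g ∉ Ns e.range)
    (hk : k ∈ Cs e.range) (s1 : k * e y ∈ cjs g (Cs e.range)) (s3 : Inv2 (k * e y)) :
    ∃ t y, CE e t ∧ Inv2 y ∧ IsConj t (t * e y) := by
  have := Fact.mk Nat.prime_two
  have hi := h.inj
  have hp := h.pr hg
  have kk : Cs (cje g e).range = cjs g (Cs e.range) := by rw [range_cje, cj_Cs]
  obtain ⟨k2, y2⟩ := pow_comp hi hF hk (n := 2) (by rw [sq, s3.1])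
  rw [sq] at k2 y2
  have y1 : y ≠ 1 := fun c => s3.2 (hp.kk _ (by rwa [c, map_one, mul_one]) (kk ▸ s1)
    (is2_of_sq s3.1))
  obtain ⟨R, hR, kR⟩ := H98.exists_isSyl_le (H9.UF.pg_zp k2) (zpowers_le.2 hk)
  have c1 : Nat.card ↥(R ⊓ Cz k) ≤ 2 := by
    rw [← card_cjs g⁻¹]
    refine hs g⁻¹ (fun d => hg (inv_mem_iff.1 d)) _
      (le_inf (map_mono (inf_le_left.trans hR.le)) (cjs_inv_le fun r hr => ?_))
      (hR.isPGroup.to_inf_left.map _)
    rw [cj_Ns, ← range_cje]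
    refine hp.s'.cz (kk ▸ s1) s3 (mem_Cz.2 ?_)
    rw [mul_assoc, mem_Cs_range.1 (hR.le hr.1) y, ← mul_assoc, mem_Cz.1 hr.2, mul_assoc]
  have c2 : Nat.card R ≤ 2 := by
    by_cases b : R = ⊥
    · rw [b, card_bot]; decide
    obtain ⟨z, hz, oz, zc⟩ := H14.exists_central_involution hR.isPGroup b
    refine (card_le_of_le (le_inf le_rfl fun r hr => mem_Cz.2 ?_)).trans c1
    by_cases d : k = 1
    · rw [d, one_mul, mul_one]
    · rw [eq_of_card c1 (a := k) (b := z) ⟨kR (mem_zpowers k), mem_Cz.2 rfl⟩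
        ⟨hz, mem_Cz.2 (zc k (kR (mem_zpowers k)))⟩ d (H14.ne_one_of_two oz)]
      exact (zc r hr).symm
  have ce : ∀ t ∈ Cs e.range, Inv2 t → CE e t := fun t ht t2 =>
    ⟨⟨hi, t2, ht, h.cz ht t2⟩, fun Q q1 q2 => (hR.card_le q2 q1).trans c2⟩
  have t2 : Inv2 (g⁻¹ * (k * e y) * g) := H9.UF.inv2_conj s3 (isConj_iff.2 ⟨g⁻¹, by group⟩)
  have t1 := mem_cjs.1 s1
  by_cases d : k = 1
  · obtain ⟨O, hO⟩ := H44.STAB.jobAB X G e _ hF (ce _ t1 t2)
    exact absurd (isConj_iff.2 ⟨g, by rw [d]; group⟩) (hO.nr y)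
  refine ⟨k, y, ce k hk ⟨k2, d⟩, ⟨y2, y1⟩, ?_⟩
  obtain ⟨a, -, ha⟩ := hR.exists_cj_le (H9.UF.pg_zp t2.1) (zpowers_le.2 t1)
  have b1 := eq_of_card c2 (ha ⟨_, mem_zpowers _, rfl⟩) (kR (mem_zpowers k))
    (H9.UF.inv2_conj t2 (isConj_iff.2 ⟨a, rfl⟩)).2 d
  refine (isConj_iff.2 ⟨a * g⁻¹, ?_⟩).symm
  calc _ = a * (g⁻¹ * (k * e y) * g) * a⁻¹ := by group
    _ = k := b1

theorem job0b : Job0b.{u} := by
  intro X _ G _ _ e _ hF hA hW hG hi hS hs
  have := hF.fin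
  have hN : Ns (Cs e.range) = Ns e.range := hS.2.2.2.symm
  have hs' : Sm e := fun g hg T hT => hs g (hN ▸ hg) T (hN ▸ hT)
  obtain ⟨z, hz⟩ := hF.ex
  have pv := (fa_facts hF hA).1 z hz.1
  have z2 := inv2_e hi hz.1
  obtain ⟨g, hg, he⟩ := exists_even hG hS (y := e z) ⟨z, rfl⟩
    (H14.orderOf_two_of_mul_self z2.1 z2.2) (P := (Py z).map e) (map_le_range _ _)
    (by rintro _ ⟨p, hp, rfl⟩; exact mem_Cz.2 ((e_comm hi).2 (mem_Cz.1 (Pf_le _ hp))))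
    (map_perf e (Pf_perf _)) (fun c => pv.ne ((map_eq_bot_iff_of_injective _ hi).1 c))
  obtain ⟨s, s1, s2⟩ := H14.exists_involution_mem (even_iff_two_dvd.1 he)
  rw [hN] at hg s1
  obtain ⟨g', hg', k, hk, y, a1, a2⟩ := inner hF hW (sd_of hi hS) hs' hg s1.1 s1.2
    ⟨H14.mul_self_of_two s2, H14.ne_one_of_two s2⟩
  exact final hF (sd_of hi hS) hs' hg' hk a1 a2

end H52.ST0b
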