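import Cfsg.Agent.H25.SQSpec2
import Cfsg.Agent.H25.SQBase
import Cfsg.Agent.H23.ST0a

/-! Tower SQ, jobs DA and DW: transfer of `FA`, `FW` to a central extension with odd kernel. -/

set_option autoImplicit false

namespace H52.SQDA

open H64.SG Subgroup H25.SQ
open scoped commutatorElement

variable {X Y : Type} [Group X] [Group Y] {p : X →* Y} (h : Ext p)
include h

theorem cen_of {a b : X} (e : p a = p b) : ∃ c ∈ center X, a = b * c :=
  ⟨b⁻¹ * a, h.ker ▸ (MonoidHom.mem_ker.2 (by rw [map_mul, map_inv, e, inv_mul_cancel])), by group⟩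

theorem p_cen {c : X} (hc : c ∈ center X) : p c = 1 := MonoidHom.mem_ker.1 (h.ker ▸ hc)

omit h in
theorem pow_m {c : X} (hc : c ∈ center X) : c ^ Nat.card (center X) = 1 := by
  exact congrArg Subtype.val (pow_card_eq_one' (x := (⟨c, hc⟩ : center X)))

theorem uniq {a b : X} (ha : Is2 a) (hb : Is2 b) (e : p a = p b) : a = b := by
  obtain ⟨c, hc, rfl⟩ := cen_of h e
  obtain ⟨i, hi⟩ := ha
  obtain ⟨j, hj⟩ := hb
  have cm : Commute b c := mem_center_iff.1 hc b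
  have h1 : c ^ 2 ^ (i + j) = 1 := by
    have e1 : (b * c) ^ 2 ^ (i + j) = 1 := by rw [pow_add, pow_mul, hi, one_pow]
    have e2 : b ^ 2 ^ (i + j) = 1 := by rw [pow_add, mul_comm, pow_mul, hj, one_pow]
    rwa [cm.mul_pow, e2, one_mul] at e1
  have h2 : (2 ^ (i + j)).Coprime (Nat.card (center X)) :=
    Nat.Coprime.pow_left _ (Nat.coprime_two_left.2 h.zo)
  have h3 : c = 1 := by
    rw [← orderOf_eq_one_iff]
    exact Nat.eq_one_of_dvd_coprimes h2 (orderOf_dvd_of_pow_eq_one h1)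
      (orderOf_dvd_of_pow_eq_one (pow_m hc))
  rw [h3, mul_one]

omit h in
theorem is2_conj {a : X} (ha : Is2 a) (g : X) : Is2 (g * a * g⁻¹) :=
  ha.imp fun k hk => by rw [conj_pow, hk]; group

omit h in
theorem is2_mul {a b : X} (ha : Is2 a) (hb : Is2 b) (c : Commute a b) : Is2 (a * b) := by
  obtain ⟨i, hi⟩ := ha
  obtain ⟨j, hj⟩ := hb
  refine ⟨i + j, ?_⟩
  have e1 : a ^ 2 ^ (i + j) = 1 := by rw [pow_add, pow_mul, hi, one_pow]
  have e2 : b ^ 2 ^ (i + j) = 1 := by rw [pow_add, mul_comm, pow_mul, hj, one_pow]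
  rw [c.mul_pow, e1, e2, one_mul]

omit h in
theorem is2_inv2 {a : X} (ha : Inv2 a) : Is2 a := ⟨1, by simpa [sq] using ha.1⟩

theorem lift {x : X} (hx : Is2 (p x)) : ∃ y ∈ zpowers x, Is2 y ∧ p y = p x := by
  obtain ⟨k, hk⟩ := hx
  have h2 : (Nat.card (center X)).Coprime (2 ^ k) :=
    Nat.Coprime.pow_right _ (Nat.coprime_two_right.2 h.zo)
  have h3 : 0 < (2 ^ k).totient := Nat.totient_pos.2 (by positivity)
  refine ⟨x ^ Nat.card (center X) ^ (2 ^ k).totient, pow_mem (mem_zpowers x) _, ⟨k, ?_⟩, ?_⟩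
  · obtain ⟨l, hl⟩ := Nat.exists_eq_succ_of_ne_zero h3.ne'
    have hc : x ^ 2 ^ k ∈ center X := h.ker ▸ MonoidHom.mem_ker.2 (by rw [map_pow, hk])
    rw [← pow_mul, mul_comm, pow_mul, hl, pow_succ', pow_mul, pow_m hc, one_pow]
  · rw [map_pow]
    exact (pow_eq_pow_of_modEq (Nat.ModEq.pow_totient h2) hk).trans (pow_one _)

theorem inv2_iff {y : X} (hy : Is2 y) : Inv2 y ↔ Inv2 (p y) := by
  constructor
  · rintro ⟨a, b⟩
    exact ⟨by rw [← map_mul, a, map_one], fun c => b (uniq h hy ⟨0, by simp⟩ (c.trans (map_one p).symm))⟩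
  · rintro ⟨a, b⟩
    exact ⟨uniq h (is2_mul hy hy rfl) ⟨0, by simp⟩ (by rw [map_mul, a, map_one]),
      fun c => b (by rw [c, map_one])⟩

theorem lift2 {A : Subgroup X} {u : Y} (hu : u ∈ A.map p) (h2 : Inv2 u) :
    ∃ v ∈ A, Inv2 v ∧ p v = u := by
  obtain ⟨x, hx, rfl⟩ := hu
  obtain ⟨y, hy, a, b⟩ := lift h (x := x) ⟨1, by simpa [sq] using h2.1⟩
  exact ⟨y, zpowers_le.2 hx hy, (inv2_iff h a).2 (b ▸ h2), b⟩

theorem cz {y : X} (hy : Is2 y) : Cz y = (Cz (p y)).comap p := by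
  ext g
  rw [mem_comap, mem_centralizer_singleton_iff, mem_centralizer_singleton_iff]
  refine ⟨fun c => by rw [← map_mul, c, map_mul], fun c => ?_⟩
  rw [← mul_inv_eq_iff_eq_mul]
  exact uniq h (is2_conj hy g) hy (by rw [map_mul, map_mul, c, map_inv, mul_inv_cancel_right])

theorem map_cz {y : X} (hy : Is2 y) : (Cz y).map p = Cz (p y) := by
  rw [cz h hy, map_comap_eq_self_of_surjective h.surj]

theorem I_iff {y : X} (hy : Is2 y) : I y ↔ H25.ST.I (p y) := by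
  unfold I H25.ST.I
  rw [inv2_iff h hy, cz h hy, index_comap_of_surjective _ h.surj]

theorem cm_eq {a b a' b' : X} (e1 : p a = p a') (e2 : p b = p b') : ⁅a, b⁆ = ⁅a', b'⁆ := by
  obtain ⟨c, hc, rfl⟩ := cen_of h e1
  obtain ⟨d, hd, rfl⟩ := cen_of h e2
  have k1 := mem_center_iff.1 hc
  have k2 := mem_center_iff.1 hd
  simp only [commutatorElement_def]
  calc a' * c * (b' * d) * (a' * c)⁻¹ * (b' * d)⁻¹
      = a' * (c * (b' * d)) * c⁻¹ * a'⁻¹ * d⁻¹ * b'⁻¹ := by group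
    _ = a' * b' * (d * a'⁻¹) * d⁻¹ * b'⁻¹ := by rw [← k1]; group
    _ = _ := by rw [← k2]; group

theorem comm_le {P N : Subgroup X} (e : P.map p ≤ N.map p) : ⁅P, P⁆ ≤ ⁅N, N⁆ :=
  commutator_le.2 fun a ha b hb => by
    obtain ⟨a', ha', e1⟩ := e ⟨a, ha, rfl⟩
    obtain ⟨b', hb', e2⟩ := e ⟨b, hb, rfl⟩
    rw [← cm_eq h e1 e2]
    exact commutator_mem_commutator ha' hb'

theorem eq_on {N : Subgroup X} (hN : N ≤ ⁅N, N⁆) {f g : X →* X} (e : ∀ n ∈ N, p (f n) = p (g n)) :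
    N ≤ f.eqLocus g := hN.trans (commutator_le.2 fun a ha b hb => by
  change f ⁅a, b⁆ = g ⁅a, b⁆
  rw [map_commutatorElement, map_commutatorElement]
  exact cm_eq h (e a ha) (e b hb))

theorem map_Py {y : X} (hy : Is2 y) : (Py y).map p = H25.ST.Py (p y) := by
  change (Py y).map p = Py (p y)
  refine le_antisymm ((map_Pf_le p _).trans (by rw [map_cz h hy])) ?_
  set M := (Py (p y)).comap p with hM
  have e1 : M.map p = Py (p y) := map_comap_eq_self_of_surjective h.surj _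
  have e2 : Py (p y) ≤ ⁅M, M⁆.map p := by rw [map_commutator, e1]; exact Pf_perf _
  have e3 : ⁅M, M⁆ ≤ M := commutator_le.2 fun a ha b hb =>
    mul_mem (mul_mem (mul_mem ha hb) (inv_mem ha)) (inv_mem hb)
  refine e2.trans (map_mono (le_Pf (e3.trans ?_) (comm_le h (e1 ▸ e2))))
  rw [cz h hy]
  exact comap_mono (Pf_le _)

theorem cs_iff {y v : X} (hy : Is2 y) : v ∈ Cs (Py y) ↔ p v ∈ Cs (H25.ST.Py (p y)) := by
  rw [← map_Py h hy]
  refine ⟨fun c => ?_, fun c n hn => ?_⟩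
  · rintro _ ⟨n, hn, rfl⟩
    rw [← map_mul, c n hn, map_mul]
  · have := eq_on h (Pf_perf (Cz y)) (f := (MulAut.conj v).toMonoidHom) (g := MonoidHom.id X)
      (fun n hn => by
        change p (v * n * v⁻¹) = p n
        rw [map_mul, map_mul, ← c _ ⟨n, hn, rfl⟩, map_inv, mul_inv_cancel_right]) hn
    exact (mul_inv_eq_iff_eq_mul.1 this).symm

theorem mem_Vy {y : X} (hy : Is2 y)
    (hc : Nat.card (H25.ST.Vy (p y)) = 2 ∨ Nat.card (H25.ST.Vy (p y)) = 4) {v : X} :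
    v ∈ Vy y ↔ p v ∈ H25.ST.Vy (p y) ∧ Is2 v := by
  have := Fact.mk Nat.prime_two
  have ab : IsMulCommutative (H25.ST.Vy (p y)) := by
    rcases hc with c | c
    · have := isCyclic_of_prime_card c
      infer_instance
    · exact IsPGroup.isMulCommutative_of_card_eq_prime_sq (p := 2) c
  have mm : ∀ v, v ∈ Cs (Py y) ⊓ Cz y ↔ p v ∈ H25.ST.Vy (p y) := fun v => by
    rw [mem_inf, mem_inf, cs_iff h hy, cz h hy, mem_comap]
  refine ⟨fun hv => ?_, fun hv => mem_t2 ((mm v).2 hv.1) hv.2⟩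
  induction hv using closure_induction with
  | mem x hx => exact ⟨(mm x).1 hx.1, hx.2⟩
  | one => exact ⟨by rw [map_one]; exact one_mem _, 0, by simp⟩
  | mul a b _ _ ha hb =>
    refine ⟨by rw [map_mul]; exact mul_mem ha.1 hb.1, is2_mul ha.2 hb.2 ?_⟩
    have : a ∈ Cz b := by
      rw [cz h hb.2, mem_comap, mem_centralizer_singleton_iff]
      exact congrArg Subtype.val (ab.is_comm.comm ⟨_, ha.1⟩ ⟨_, hb.1⟩)
    exact mem_centralizer_singleton_iff.1 this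
  | inv a _ ha =>
    exact ⟨by rw [map_inv]; exact inv_mem ha.1, ha.2.imp fun k hk => by rw [inv_pow, hk, inv_one]⟩

theorem card_Vy {y : X} (hy : Is2 y)
    (hc : Nat.card (H25.ST.Vy (p y)) = 2 ∨ Nat.card (H25.ST.Vy (p y)) = 4) :
    Nat.card (Vy y) = Nat.card (H25.ST.Vy (p y)) := by
  refine Nat.card_eq_of_bijective (fun v => ⟨p v, ((mem_Vy h hy hc).1 v.2).1⟩) ⟨fun a b e => ?_, ?_⟩
  · exact Subtype.ext (uniq h ((mem_Vy h hy hc).1 a.2).2 ((mem_Vy h hy hc).1 b.2).2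
      (congrArg Subtype.val e))
  · rintro ⟨w, hw⟩
    obtain ⟨x, rfl⟩ := h.surj w
    have h4 : (p x) ^ 2 ^ 2 = 1 := by
      have h1 := congrArg Subtype.val (pow_card_eq_one' (x := (⟨p x, hw⟩ : H25.ST.Vy (p y))))
      have h2 : p x ^ Nat.card (H25.ST.Vy (p y)) = 1 := by simpa using h1
      rcases hc with c | c <;> rw [c] at h2
      · rw [show 2 ^ 2 = 2 * 2 from rfl, pow_mul, h2, one_pow]
      · exact h2
    obtain ⟨v, -, a, b⟩ := lift h ⟨2, h4⟩
    exact ⟨⟨v, (mem_Vy h hy hc).2 ⟨b ▸ hw, a⟩⟩, Subtype.ext b⟩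

theorem bar0 (β : MulAut X) : ∃ f : Y →* Y, ∀ x, f (p x) = p (β x) := by
  refine ⟨p.liftOfSurjective h.surj ⟨p.comp β.toMonoidHom, fun x hx => ?_⟩, fun x => by simp⟩
  rw [h.ker] at hx
  refine p_cen h (mem_center_iff.2 fun g => ?_)
  obtain ⟨g, rfl⟩ := β.surjective g
  change β g * β x = β x * β g
  rw [← map_mul, mem_center_iff.1 hx g, map_mul]

theorem bar (β : MulAut X) : ∃ γ : MulAut Y, (∀ x, γ (p x) = p (β x)) ∧ (H25.ST.Inn γ → Inn β) := by
  obtain ⟨f, hf⟩ := bar0 h β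
  obtain ⟨g, hg⟩ := bar0 h β⁻¹
  refine ⟨MonoidHom.toMulEquiv f g (MonoidHom.ext fun y => ?_) (MonoidHom.ext fun y => ?_), hf, ?_⟩
  · obtain ⟨x, rfl⟩ := h.surj y
    simp [hf, hg]
  · obtain ⟨x, rfl⟩ := h.surj y
    simp [hf, hg]
  · rintro ⟨g', e⟩
    obtain ⟨a, rfl⟩ := h.surj g'
    refine ⟨a, MulEquiv.ext fun x => ?_⟩
    exact eq_on h h.perf (f := β.toMonoidHom) (g := (MulAut.conj a).toMonoidHom) (fun n _ => by
      have := DFunLike.congr_fun e (p n)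
      change f (p n) = p a * p n * (p a)⁻¹ at this
      change p (β n) = p (a * n * a⁻¹)
      rw [← hf, this, map_mul, map_mul, map_inv]) (mem_top x)

theorem pv {y : X} (hy : Inv2 y) (P : H25.ST.PV (p y)) : PV y := by
  have y2 := is2_inv2 hy
  have hm := map_Py h y2
  refine ⟨fun c => P.ne (by rw [← hm, c, Subgroup.map_bot]), fun β b1 b2 => ?_,
    by rw [card_Vy h y2 P.card]; exact P.card, ?_, fun Y0 a1 a2 a3 B b1 b2 => ?_,
    fun c N n1 n2 => ?_⟩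
  · obtain ⟨γ, hγ, hi⟩ := bar h β
    refine hi (P.cv γ (by rw [hγ, b1]) ?_)
    rw [← hm]
    rintro _ ⟨n, hn, rfl⟩
    change γ (p n) = p n
    rw [hγ]; exact congrArg p (b2 hn)
  · obtain ⟨s, hs, e⟩ := P.mv
    obtain ⟨s, rfl⟩ := h.surj s
    refine ⟨s, by rw [cz h y2]; exact hs, fun v hv hn => ?_⟩
    obtain ⟨v1, v2⟩ := (mem_Vy h y2 P.card).1 hv
    refine uniq h (is2_conj v2 s) (is2_mul v2 y2 (mem_centralizer_singleton_iff.1 (Vy_Cz hv))) ?_
    rw [map_mul, map_mul, map_mul, map_inv]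
    refine e _ v1 fun c => hn ?_
    obtain ⟨k, hk⟩ := mem_zpowers_iff.1 c
    have k2 : Is2 (y ^ k) := y2.imp fun j hj => by
      rw [← zpow_natCast, ← zpow_mul, mul_comm, zpow_mul, zpow_natCast, hj, one_zpow]
    exact uniq h k2 v2 (by rw [map_zpow, hk]) ▸ zpow_mem (mem_zpowers y) k
  · have e := P.g0 (Y0.map p) (hm ▸ map_mono a1)
      (by rw [← map_cz h y2]; exact (map_mono a2).trans (le_normalizer_map p))
      (fun c => a3 fun v hv => (cs_iff h y2).2 (c ⟨v, hv, rfl⟩)) (B.map p)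
      (by rw [← map_cz h y2]; exact map_mono b1) fun u hu u2 => by
        obtain ⟨v, hv, v2, rfl⟩ := lift2 h hu u2
        rw [← map_cz h (is2_inv2 v2)]
        exact map_mono (b2 v hv v2)
    have hk : p.ker ≤ B := h.ker ▸ fun c hc =>
      b1 (mem_centralizer_singleton_iff.2 (mem_center_iff.1 hc y).symm)
    rw [← comap_map_eq_self hk, e, comap_top]
  · rw [card_Vy h y2 P.card] at c
    rcases P.q8 c (N.map p) (hm ▸ map_mono n1)
      (by rw [← hm]; exact (map_mono n2).trans (le_normalizer_map p)) with e | e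
    · refine Or.inl (le_antisymm n1 ((Pf_perf _).trans ((comm_le h (hm.trans e.symm).le).trans
        (commutator_le.2 fun a ha b hb =>
          mul_mem (mul_mem (mul_mem ha hb) (inv_mem ha)) (inv_mem hb)))))
    · rw [← hm, ← relIndex_comap] at e
      exact Or.inr (e.trans (relIndex_dvd_of_le_left _ (le_comap_map p N)))

omit h in
theorem jobDA : JobDA := by
  intro X Y _ _ p h hF hA
  obtain ⟨h1, h2⟩ := H23.ST.fa_facts hF hA
  have i2 : ∀ y : X, Inv2 y → Inv2 (p y) := fun y hy => (inv2_iff h (is2_inv2 hy)).1 hy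
  refine ⟨fun y hy => pv h hy (h1 _ (i2 y hy)), h2.imp (fun c y hy => ?_)
    fun ⟨c1, c2⟩ => ⟨fun y hy => ?_, fun y hy c => ?_⟩⟩
  · obtain ⟨v, hv, v2, e⟩ := lift2 h (map_Py h (is2_inv2 hy) ▸ c _ (i2 y hy)) (i2 y hy)
    exact uniq h (is2_inv2 v2) (is2_inv2 hy) e ▸ hv
  · have y2 := is2_inv2 hy.1
    rw [card_Vy h y2 (h1 _ (i2 y hy.1)).card]
    exact c1 _ ((I_iff h y2).1 hy)
  · have y2 := is2_inv2 hy
    have hc := (h1 _ (i2 y hy)).card
    rw [card_Vy h y2 hc] at c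
    obtain ⟨d1, a, u0, d2, d3, d4, d5⟩ := c2 _ (i2 y hy) c
    obtain ⟨a, rfl⟩ := h.surj a
    obtain ⟨u, hu, u2, rfl⟩ := lift2 h (map_Py h y2 ▸ d2) d3
    refine ⟨fun w hw w2 => (I_iff h (is2_inv2 w2)).2
      (d1 _ (map_Py h y2 ▸ ⟨w, hw, rfl⟩) (i2 w w2)), a, u, hu, u2, ?_, ?_⟩
    · refine uniq h (is2_conj y2 a) (is2_mul y2 (is2_inv2 u2)
        (mem_centralizer_singleton_iff.1 (Pf_le _ hu)).symm) ?_
      rw [map_mul, map_mul, map_mul, map_inv, d4]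
    · rintro _ ⟨v, hv, rfl⟩
      rw [cz h y2, mem_comap]
      exact d5 ⟨p v, ((mem_Vy h y2 hc).1 hv).1, by simp⟩

omit h in
theorem jobDW : JobDW := by
  intro X Y _ _ p h _ hW β bb nb
  obtain ⟨γ, hγ, hi⟩ := bar h β
  have b2 : ∀ x, β (β x) = x := fun x => DFunLike.congr_fun bb x
  obtain ⟨u0, x, u20, hu0, e⟩ := hW γ (MulEquiv.ext fun y => by
    obtain ⟨x, rfl⟩ := h.surj y
    change γ (γ (p x)) = p x
    rw [hγ, hγ, b2]) fun c => nb (hi c)
  obtain ⟨j, hj⟩ := h.zo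
  have cj : ∀ c ∈ center X, c ^ j * c * c ^ j = 1 := fun c hc => by
    rw [← pow_m hc, hj]; group
  have fxs : ∀ w ∈ fx γ, w ∈ (fx β).map p := fun w hw => by
    obtain ⟨w, rfl⟩ := h.surj w
    obtain ⟨c, hc, e1⟩ := cen_of h ((hγ w).symm.trans hw)
    have e2 : β c = c⁻¹ := by
      have := b2 w
      rw [e1, map_mul, e1, mul_assoc, mul_eq_left] at this
      exact eq_inv_of_mul_eq_one_right this
    refine ⟨w * (c ^ j)⁻¹, ?_, by rw [map_mul, map_inv, map_pow, p_cen h hc]; simp⟩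
    change β (w * (c ^ j)⁻¹) = w * (c ^ j)⁻¹
    rw [map_mul, map_inv, map_pow, e1, e2, inv_pow, inv_inv, mul_assoc]
    congr 1
    exact eq_inv_of_mul_eq_one_right (by rw [← mul_assoc]; exact cj c hc)
  have hs : H25.ST.sqs (fx γ) ≤ (sqs (fx β)).map p := (closure_le _).2 (by
    rintro _ ⟨w, hw, rfl⟩
    obtain ⟨v, hv, rfl⟩ := fxs w hw
    exact ⟨v * v, sq_mem_sqs hv, map_mul p v v⟩)
  obtain ⟨u, hu, u2, rfl⟩ := lift2 h (hs hu0) u20
  obtain ⟨x, rfl⟩ := h.surj x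
  obtain ⟨c, hc, e1⟩ := cen_of h (a := x * (β x)⁻¹) (b := u) (by rw [map_mul, map_inv, ← hγ, e])
  have bu : β u = u := sqs_le _ hu
  have k1 := mem_center_iff.1 hc
  have e2 : β c = c⁻¹ := by
    have e3 : β (x * (β x)⁻¹) = (x * (β x)⁻¹)⁻¹ := by rw [map_mul, map_inv, b2]; group
    rw [e1, map_mul, bu, k1 u, mul_inv_rev, inv_eq_of_mul_eq_one_right u2.1] at e3
    exact mul_left_cancel e3
  refine ⟨u, x * c ^ j, u2, hu, ?_⟩
  have k2 := mem_center_iff.1 (mul_mem (pow_mem hc j) (pow_mem hc j)) (β x)⁻¹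
  rw [map_mul, map_pow, e2, inv_pow, mul_inv_rev, inv_inv]
  calc x * c ^ j * (c ^ j * (β x)⁻¹) = x * (c ^ j * c ^ j * (β x)⁻¹) := by group
    _ = x * (β x)⁻¹ * (c ^ j * c ^ j) := by rw [← k2]; group
    _ = u * (c ^ j * c * c ^ j) := by rw [e1]; group
    _ = u := by rw [cj c hc, mul_one]

end H52.SQDA
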