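import Cfsg.Agent.H52.NCBase
import Cfsg.Agent.H27.Zsigmondy
import Cfsg.Agent.H4.Hall
import Cfsg.Agent.H4.Product

/-! No transitive odd-order group on a section `M / C` of an invariant abelian `2`-group. -/

set_option autoImplicit false

namespace H52.NC

open Subgroup Cfsg H98 H26.FP
open scoped commutatorElement

theorem exists_prim {n : ℕ} (hn : 1 < n) : ∃ r k : ℕ, r.Prime ∧ r ^ k ∣ 2 ^ n - 1 ∧
    ∀ m, 0 < m → m < n → ¬ r ^ k ∣ 2 ^ m - 1 := by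
  by_cases h6 : n = 6
  · subst h6
    refine ⟨3, 2, Nat.prime_three, by norm_num, fun m h1 h2 => ?_⟩
    interval_cases m <;> decide
  · obtain ⟨r, h1, h2, h3⟩ := H27.zsigmondy 2 n one_lt_two hn (fun e => h6 e.2) (by
      rintro ⟨-, m, e⟩
      rcases m with _ | _ | m
      · omega
      · omega
      · rw [pow_add, pow_add] at e; omega)
    exact ⟨r, 1, h1, by rwa [pow_one], by simpa only [pow_one] using h3⟩

theorem dvd_card_of_stab {D X : Type*} [Group D] [Finite X] [MulAction D X] {m : ℕ}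
    (h : ∀ x : X, m ∣ (MulAction.stabilizer D x).index) : m ∣ Nat.card X := by
  classical
  have := Fintype.ofFinite (MulAction.orbitRel.Quotient D X)
  rw [Nat.card_congr (MulAction.selfEquivSigmaOrbits D X), Nat.card_sigma]
  exact Finset.dvd_sum fun ω _ => by
    rw [Nat.card_coe_set_eq, ← MulAction.index_stabilizer]; exact h _

variable {Γ : Type*} [Group Γ] [Finite Γ] {G A M D D' F P H T C : Subgroup Γ} {q : ℕ} {g : Γ}

/-- conjugation action on the non-identity elements of a normalised subgroup -/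
@[reducible] def actNe (h : D ≤ N[F]) : MulAction D {x : Γ // x ∈ F ∧ x ≠ 1} where
  smul d x := ⟨d * x * (d : Γ)⁻¹, conj_mem_of_mem_normalizer (h d.2) x.2.1, fun e =>
    x.2.2 (by simpa using e)⟩
  one_smul x := Subtype.ext (by change ((1 : Γ) * x * (1 : Γ)⁻¹) = x; simp)
  mul_smul a b x := Subtype.ext (by
    change ((a : Γ) * b) * x * ((a : Γ) * b)⁻¹ = a * (b * x * (b : Γ)⁻¹) * (a : Γ)⁻¹
    group)

omit [Finite Γ] in
theorem actNe_stab (h : D ≤ N[F]) (x : {x : Γ // x ∈ F ∧ x ≠ 1}) :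
    (letI := actNe h; (MulAction.stabilizer D x).index) = (C1[x.1]).relIndex D := by
  let _ := actNe h
  rw [relIndex]
  congr 1
  ext d
  rw [MulAction.mem_stabilizer_iff, mem_subgroupOf, mem_centralizer_singleton_iff, Subtype.ext_iff]
  exact mul_inv_eq_iff_eq_mul

omit [Finite Γ] in
theorem card_ne (F : Subgroup Γ) : Nat.card {x : Γ // x ∈ F ∧ x ≠ 1} = Nat.card F - 1 := by
  change Nat.card ((F : Set Γ) \ {1} : Set Γ) = Nat.card (F : Set Γ) - 1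
  rw [Nat.card_coe_set_eq, Nat.card_coe_set_eq, Set.ncard_sdiff_singleton_of_mem F.one_mem]

theorem dvd_card_sub_one (h : D ≤ N[F]) {m : ℕ}
    (hm : ∀ x ∈ F, x ≠ 1 → m ∣ (C1[x]).relIndex D) : m ∣ Nat.card F - 1 := by
  let _ := actNe h
  rw [← card_ne]
  exact dvd_card_of_stab (D := D) fun x => actNe_stab h x ▸ hm _ x.2.1 x.2.2

omit [Finite Γ] in
theorem relIndex_of_trans (h : D ≤ N[F]) {x : Γ} (hx : x ∈ F) (h1 : x ≠ 1)
    (tr : ∀ y ∈ F, y ≠ 1 → ∃ d ∈ D, d * x * d⁻¹ = y) : (C1[x]).relIndex D = Nat.card F - 1 := by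
  let _ := actNe h
  rw [← card_ne, ← actNe_stab h ⟨x, hx, h1⟩, MulAction.index_stabilizer, ← Set.ncard_univ]
  congr 1
  refine Set.eq_univ_of_forall fun y => ?_
  obtain ⟨d, hd, e⟩ := tr y y.2.1 y.2.2
  exact ⟨⟨d, hd⟩, Subtype.ext e⟩

theorem relIndex_pos : 0 < H.relIndex M := Nat.pos_of_ne_zero index_ne_zero_of_finite

/-- an abelian `2`-subgroup -/
structure Ab (M : Subgroup Γ) : Prop where
  ab : M ≤ C[M]
  two : IsPGroup 2 M

namespace Ab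

variable (hM : Ab M)
include hM

theorem cop (ho : Odd (Nat.card D)) : (Nat.card D).Coprime (Nat.card M) :=
  H1.coprime_card_of_isPGroup hM.two (Nat.coprime_two_right.2 ho)

theorem inf_eq (hn : D ≤ N[M]) (ho : Odd (Nat.card D)) : ⁅M, D⁆ ⊓ C[D] = ⊥ := by
  have : IsMulCommutative M := IsMulCommutative.of_setLike_mul_comm fun a ha b hb => hM.ab hb a ha
  rw [← H1.centralizer_inf_commutator_eq_bot hn (hM.cop ho), inf_comm, inf_comm M, inf_assoc,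
    inf_eq_right.2 (commutator_le_left' hn)]

theorem dec (hn : D ≤ N[M]) (ho : Odd (Nat.card D)) {m : Γ} (hm : m ∈ M) :
    ∃ c ∈ M ⊓ C[D], ∃ e ∈ ⁅M, D⁆, m = c * e :=
  H1.exists_centralizer_mul_commutator hn (hM.cop ho) (.inl (H42.odd_order ho)) hm

omit [Finite Γ] in
theorem nor (h1 : F ≤ M) (h2 : C ≤ M) : F ≤ N[C] :=
  le_normalizer_of_le_centralizer ((h1.trans hM.ab).trans (centralizer_anti h2))

theorem card_comm (hn : D ≤ N[M]) (ho : Odd (Nat.card D)) :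
    Nat.card (⁅M, D⁆ : Subgroup Γ) = (C[D]).relIndex M := by
  have h1 := H12.card_sup_mul_card_inf (hM.nor (commutator_le_left' hn) (inf_le_left (b := C[D])))
  rw [H1.commutator_sup_centralizer hn (hM.cop ho) (.inl (H42.odd_order ho)), ← inf_assoc,
    inf_eq_left.2 (commutator_le_left' hn), hM.inf_eq hn ho, card_bot, mul_one,
    ← H12.card_inf_mul_relIndex C[D] M, inf_comm, mul_comm] at h1
  exact (Nat.eq_of_mul_eq_mul_right Nat.card_pos h1).symm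

theorem step (hn : D ≤ N[M]) (ho : Odd (Nat.card D)) (h1 : F ≤ M) (h2 : F ≤ C[D]) :
    (⁅M, D⁆ ⊔ F) ⊓ C[D] = F ∧
      Nat.card (⁅M, D⁆ ⊔ F : Subgroup Γ) = (C[D]).relIndex M * Nat.card F := by
  have h3 := hM.nor (commutator_le_left' hn) h1
  refine ⟨by rw [sup_inf_of_le_right h3 h2, hM.inf_eq hn ho, bot_sup_eq], ?_⟩
  have := H12.card_sup_mul_card_inf h3
  rwa [eq_bot_iff.2 ((inf_le_inf_left _ h2).trans (hM.inf_eq hn ho).le), card_bot, mul_one,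
    hM.card_comm hn ho] at this

end Ab

/-- `D` acts irreducibly on `[M, D]`, a group of order `q` -/
structure Sm (M : Subgroup Γ) (q : ℕ) (D : Subgroup Γ) : Prop where
  nor : D ≤ N[M]
  odd : Odd (Nat.card D)
  idx : (C[D]).relIndex M = q
  irr : ∀ F ≤ ⁅M, D⁆, D ≤ N[F] → F = ⊥ ∨ F = ⁅M, D⁆

omit [Finite Γ] in
theorem cj_comm (hg : g ∈ N[M]) (D : Subgroup Γ) : cj g ⁅M, D⁆ = ⁅M, cj g D⁆ := by
  rw [cj_commutator, cj_eq_self hg]

omit [Finite Γ] in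
theorem cj_idx (hg : g ∈ N[M]) (D : Subgroup Γ) :
    (C[cj g D]).relIndex M = (C[D]).relIndex M := by
  conv_lhs => rw [← cj_centralizer, ← cj_eq_self hg]
  exact relIndex_map_map_of_injective _ _ (MulAut.conj g).injective

omit [Finite Γ] in
theorem Sm.conj (h : Sm M q D) (hg : g ∈ N[M]) : Sm M q (cj g D) := by
  refine ⟨cj_le_of_le_of_mem h.nor hg, by rw [card_cj]; exact h.odd, (cj_idx hg D).trans h.idx,
    fun F h1 h2 => ?_⟩
  rw [← cj_comm hg, le_cj_iff] at h1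
  rw [cj_le_iff, cj_normalizer] at h2
  rw [← cj_comm hg, ← cj_cj_inv g F, cj_eq_bot_iff, cj_inj]
  exact h.irr _ h1 h2

theorem Sm.cent_or (hM : Ab M) (h : Sm M q D) (h' : Sm M q D') (hn : D' ≤ N[⁅M, D⁆]) :
    ⁅M, D⁆ ≤ C[D'] ∨ ⁅M, D⁆ = ⁅M, D'⁆ :=
  (h'.irr ⁅⁅M, D⁆, D'⁆ (commutator_mono (commutator_le_left' h.nor) le_rfl)
    (H1.le_normalizer_commutator_right _ _)).imp commutator_eq_bot_iff_le_centralizer.1 fun e =>
    (eq_of_le_of_card_ge (e.ge.trans (commutator_le_left' hn)) (by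
      rw [hM.card_comm h.nor h.odd, hM.card_comm h'.nor h'.odd, h.idx, h'.idx])).symm

theorem odd_of_isPGroup {r : ℕ} (hr : r.Prime) (h2 : Odd r) (hP : IsPGroup r P) :
    Odd (Nat.card P) := by
  have := Fact.mk hr
  obtain ⟨k, e⟩ := IsPGroup.iff_card.1 hP
  exact e ▸ h2.pow

theorem Sm.nor_comm (hM : Ab M) {r : ℕ} (hr : r.Prime) (h2 : Odd r) (hP : IsPGroup r P)
    (hq : 1 < q) (h : Sm M q D) (h' : Sm M q D') (hD : D ≤ P) (hD' : D' ≤ P) :
    D' ≤ N[⁅M, D⁆] := by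
  by_contra h1
  have := Fact.mk hr
  have hX : D ⊔ D' ≤ N[M] := sup_le h.nor h'.nor
  set R := (D ⊔ D') ⊓ N[⁅M, D⁆] with hR
  have hDR : D ≤ R := le_inf le_sup_left (H1.le_normalizer_commutator_right _ _)
  obtain ⟨g, hg, h3⟩ := SetLike.exists_of_lt (lt_inf_normalizer (Q := R) (hP.to_le (sup_le hD hD'))
    (inf_le_left.lt_of_ne fun e => h1 (le_sup_right.trans (e.ge.trans inf_le_right))))
  have h4 : g * g ∉ R := fun e => by
    obtain ⟨m, hm⟩ := exists_pow_eq_self_of_coprime (n := 2) (Nat.coprime_two_left.2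
      ((odd_of_isPGroup hr h2 hP).of_dvd_nat (P.orderOf_dvd_natCard (sup_le hD hD' hg.1))))
    exact h3 (hm ▸ pow_mem (sq g ▸ e) m)
  have h5 : ∀ a ∈ (D ⊔ D') ⊓ N[R], ∀ b ∈ (D ⊔ D') ⊓ N[R], b⁻¹ * a ∉ R →
      ⁅M, cj a D⁆ ≤ C[cj b D] := fun a ha b hb hab => by
    refine ((h.conj (hX ha.1)).cent_or hM (h.conj (hX hb.1)) ?_).resolve_right fun e =>
      hab (mem_inf.2 ⟨mul_mem (inv_mem hb.1) ha.1, cj_eq_self_iff.1 ?_⟩)
    · rw [← cj_comm (hX ha.1), ← cj_normalizer]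
      exact (cj_le_of_le hDR hb.2).trans ((cj_eq_self ha.2).ge.trans (cj_mono a inf_le_right))
    · rw [← cj_cj, cj_comm (hX ha.1), e, ← cj_comm (hX hb.1), cj_inv_cj]
  have a1 := one_mem ((D ⊔ D') ⊓ N[R])
  have a2 := inv_mem hg
  have s0 := h.conj (hX a1.1)
  have s1 := h.conj (hX hg.1)
  have s2 := h.conj (hX a2.1)
  have l : ∀ {D}, Sm M q D → ⁅M, D⁆ ≤ M := fun s => commutator_le_left' s.nor
  obtain ⟨k1, k2⟩ := hM.step s1.nor s1.odd (l s2) (h5 _ a2 _ hg (by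
    rwa [← mul_inv_rev, inv_mem_iff]))
  obtain ⟨k3, k4⟩ := hM.step s0.nor s0.odd (sup_le (l s1) (l s2))
    (sup_le (h5 _ hg _ a1 (by simpa)) (h5 _ a2 _ a1 (by simpa)))
  rw [k2, hM.card_comm s2.nor s2.odd, s0.idx, s1.idx, s2.idx] at k4
  have c : ∀ a ∈ D ⊔ D', C[D] ⊓ C[D'] ≤ C[cj a D] := fun a ha => by
    rw [← centralizer_sup]
    exact centralizer_anti (cj_le_of_le_of_mem le_sup_left ha)
  have k5 : C[D] ⊓ C[D'] ⊓ (⁅M, cj 1 D⁆ ⊔ (⁅M, cj g D⁆ ⊔ ⁅M, cj g⁻¹ D⁆)) = ⊥ :=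
    eq_bot_iff.2 ((le_inf ((le_inf ((le_inf inf_le_right (inf_le_left.trans (c _ a1.1))).trans k3.le)
      (inf_le_left.trans (c _ hg.1))).trans k1.le) (inf_le_left.trans (c _ a2.1))).trans
      (hM.inf_eq s2.nor s2.odd).le)
  have k6 := relIndex_le_of_le_right (H := C[D] ⊓ C[D'])
    (sup_le (l s0) (sup_le (l s1) (l s2))) (relIndex_pos).ne'
  rw [← inf_relIndex_right, k5, relIndex_bot_left, k4] at k6
  have k7 := k6.trans relIndex_inf_le
  rw [h.idx, h'.idx] at k7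
  nlinarith

theorem inf_eq_of_relIndex {C' : Subgroup Γ} (h : C ≤ C') (e : C.relIndex M = C'.relIndex M) :
    M ⊓ C = M ⊓ C' := by
  refine eq_of_le_of_card_ge (inf_le_inf_left _ h) (le_of_eq ?_)
  have h1 := H12.card_inf_mul_relIndex C M
  rw [← H12.card_inf_mul_relIndex C' M, e, inf_comm C, inf_comm C'] at h1
  exact (Nat.eq_of_mul_eq_mul_right (relIndex_pos) h1).symm

theorem Sm.dich (hM : Ab M) {r : ℕ} (hr : r.Prime) (h2 : Odd r) (hP : IsPGroup r P)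
    (hq : 1 < q) (h : Sm M q D) (h' : Sm M q D') (hD : D ≤ P) (hD' : D' ≤ P) :
    ⁅M, D⁆ ≤ C[D'] ∨ M ⊓ C[D] = M ⊓ C[D'] := by
  refine (h.cent_or hM h' (h.nor_comm hM hr h2 hP hq h' hD hD')).imp_right fun e => ?_
  have e1 : ⁅M, D ⊔ D'⁆ = ⁅M, D⁆ := le_antisymm (commutator_sup_right_le
    (H1.le_normalizer_commutator_right _ _) (e ▸ H1.le_normalizer_commutator_right _ _) le_rfl e.ge)
    (commutator_mono le_rfl le_sup_left)
  have e2 := hM.card_comm (sup_le h.nor h'.nor) (odd_of_isPGroup hr h2 (hP.to_le (sup_le hD hD')))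
  rw [e1, hM.card_comm h.nor h.odd] at e2
  exact (inf_eq_of_relIndex (centralizer_anti le_sup_left) e2.symm).symm.trans
    (inf_eq_of_relIndex (centralizer_anti le_sup_right) (by rw [← e2, h.idx, h'.idx]))

/-- `T` is transitive on the non-trivial cosets of `C` in `M` -/
def TrC (M C T : Subgroup Γ) : Prop :=
  ∀ x ∈ M, x ∉ C → ∀ y ∈ M, y ∉ C → ∃ t ∈ T, (t * x * t⁻¹)⁻¹ * y ∈ C

/-- an odd-order group transitive on `(M / C_M(T))#` -/
structure Tr (M : Subgroup Γ) (q : ℕ) (T : Subgroup Γ) : Prop where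
  nor : T ≤ N[M]
  odd : Odd (Nat.card T)
  idx : (C[T]).relIndex M = q
  tr : TrC M C[T] T

omit [Finite Γ] in
theorem Tr.conj (h : Tr M q T) (hg : g ∈ N[M]) : Tr M q (cj g T) := by
  refine ⟨cj_le_of_le_of_mem h.nor hg, by rw [card_cj]; exact h.odd, (cj_idx hg T).trans h.idx,
    fun x hx hx' y hy hy' => ?_⟩
  rw [← cj_centralizer, mem_cj] at hx' hy'
  obtain ⟨t, ht, e⟩ := h.tr _ (conj_mem_of_mem_normalizer' hg hx) hx' _
    (conj_mem_of_mem_normalizer' hg hy) hy'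
  refine ⟨_, conj_mem_cj ht, ?_⟩
  rw [← cj_centralizer, mem_cj]
  convert e using 1
  group

omit [Finite Γ] in
theorem exists_third (hq : 2 < C.relIndex M) (x : Γ) : ∃ y ∈ M, y ∉ C ∧ x⁻¹ * y ∉ C := by
  by_contra e
  push Not at e
  obtain ⟨y, hy, hy'⟩ := SetLike.not_le_iff_exists.1 fun k : M ≤ C => by
    rw [relIndex_eq_one.2 k] at hq; omega
  have := Nat.card_le_card_of_surjective (α := Bool) (β := M ⧸ C.subgroupOf M)
    (fun b => if b then (⟨y, hy⟩ : M) else (1 : M)) fun z => by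
      obtain ⟨z, rfl⟩ := QuotientGroup.mk_surjective z
      by_cases k : z.1 ∈ C
      · exact ⟨false, QuotientGroup.eq.2 (by simpa [mem_subgroupOf] using k)⟩
      · refine ⟨true, QuotientGroup.eq.2 ?_⟩
        simpa [mem_subgroupOf, mul_assoc] using mul_mem (inv_mem (e y hy hy')) (e z z.2 k)
  rw [Nat.card_eq_fintype_card (α := Bool), Fintype.card_bool] at this
  exact absurd hq (not_lt.2 this)

theorem exists_tr (hM : Ab M) (hs : Group.IsSolvable T) (hC : C ≤ M) (h1 : T ≤ N[M])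
    (h2 : T ≤ C[C]) (hq : 2 < C.relIndex M) (tr : TrC M C T) :
    ∃ T' ≤ T, Tr M (C.relIndex M) T' := by
  obtain ⟨T', hT⟩ := H4.exists_isPiHallOf {2}ᶜ T
  obtain ⟨S, hS⟩ := exists_isSyl 2 T
  have nC : T ≤ N[C] := le_normalizer_of_le_centralizer h2
  obtain ⟨F, ⟨f1, f2, f3⟩, hF⟩ := exists_minimal_of_wellFoundedLT
    (fun F : Subgroup Γ => F ≤ M ∧ S ≤ N[F] ∧ ¬ F ≤ C) ⟨M, le_rfl, hS.le.trans h1, fun k => by
      rw [relIndex_eq_one.2 k] at hq; omega⟩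
  have lt := commutator_lt_of_isPGroup (hM.two.to_le f1) hS.isPGroup f2 fun e => f3 (e ▸ bot_le)
  have f4 : ⁅F, S⁆ ≤ C := by
    by_contra k
    exact lt.not_ge (hF ⟨lt.le.trans f1, H1.le_normalizer_commutator_right _ _, k⟩ lt.le)
  obtain ⟨x, hx, hx'⟩ := SetLike.not_le_iff_exists.1 f3
  have cop : (T'.relIndex T).Coprime (S.relIndex T) := Nat.coprime_of_dvd fun p hp k k' => by
    by_cases e : p = 2
    · exact hS.not_dvd_relIndex (e ▸ k')
    · exact hT.2.2 p hp e k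
  have t0 : ∀ y ∈ M, y ∉ C → ∃ t ∈ T', (t * x * t⁻¹)⁻¹ * y ∈ C := fun y hy hy' => by
    obtain ⟨t, ht, e⟩ := tr x (f1 hx) hx' y hy hy'
    obtain ⟨a, ha, s, hs, rfl⟩ := H4.exists_mul_of_coprime_relIndex cop ht
    refine ⟨a, ha.1, ?_⟩
    convert mul_mem (conj_mem_of_mem_normalizer (nC ha.2)
      (f4 (commutator_mem_commutator (inv_mem hx) hs.1))) e using 1
    simp only [commutatorElement_def]
    group
  have t1 : TrC M C T' := fun y hy hy' z hz hz' => by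
    obtain ⟨a, ha, e⟩ := t0 y hy hy'
    obtain ⟨b, hb, e'⟩ := t0 z hz hz'
    refine ⟨b * a⁻¹, mul_mem hb (inv_mem ha), ?_⟩
    convert mul_mem (inv_mem (conj_mem_of_mem_normalizer
      (nC (hT.1 (mul_mem hb (inv_mem ha)))) e)) e' using 1
    group
  have e : M ⊓ C[T'] = C := le_antisymm (fun y hy => by
    by_contra k
    obtain ⟨z, hz, z1, z2⟩ := exists_third hq y
    obtain ⟨t, ht, e⟩ := t1 y hy.1 k z hz z1
    rw [hy.2 t ht, mul_inv_cancel_right] at e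
    exact z2 e) (le_inf hC (le_centralizer_iff.1 (hT.1.trans h2)))
  have m : ∀ y ∈ M, y ∈ C[T'] ↔ y ∈ C := fun y hy => by rw [← e, mem_inf, and_iff_right hy]
  refine ⟨T', hT.1, hT.1.trans h1, Nat.odd_iff.2 (Nat.two_dvd_ne_zero.1 fun k =>
    hT.2.1 2 Nat.prime_two k rfl), by rw [← inf_relIndex_left, e], fun y hy hy' z hz hz' => ?_⟩
  obtain ⟨t, ht, k⟩ := t1 y hy (mt (m y hy).2 hy') z hz (mt (m z hz).2 hz')
  exact ⟨t, ht, (e.ge k).2⟩

theorem Tr.conj_eq (hM : Ab M) (h : Tr M q T) {x y : Γ} (hx : x ∈ ⁅M, T⁆) (h1 : x ≠ 1)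
    (hy : y ∈ ⁅M, T⁆) (h2 : y ≠ 1) : ∃ t ∈ T, t * x * t⁻¹ = y := by
  have i := hM.inf_eq h.nor h.odd
  have l := commutator_le_left' h.nor
  obtain ⟨t, ht, e⟩ := h.tr x (l hx) (fun k => h1 (mem_bot.1 (i.le ⟨hx, k⟩))) y (l hy)
    fun k => h2 (mem_bot.1 (i.le ⟨hy, k⟩))
  exact ⟨t, ht, inv_mul_eq_one.1 (mem_bot.1 (i.le (mem_inf.2 ⟨mul_mem (inv_mem
    (conj_mem_of_mem_normalizer (H1.le_normalizer_commutator_right M T ht) hx)) hy, e⟩)))⟩

theorem Tr.sm (hM : Ab M) {r k n : ℕ} (hr : r.Prime) (h : Tr M (2 ^ n) T) (hn : 1 < n)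
    (h1 : r ^ k ∣ 2 ^ n - 1) (h2 : ∀ m, 0 < m → m < n → ¬ r ^ k ∣ 2 ^ m - 1) (hD : IsSyl r D T) :
    Sm M (2 ^ n) D := by
  have := Fact.mk hr
  have c := (hM.card_comm h.nor h.odd).trans h.idx
  have a : ∀ x ∈ ⁅M, T⁆, x ≠ 1 → r ^ k ∣ (C1[x]).relIndex D := fun x hx hx' => by
    have e := relIndex_of_trans (H1.le_normalizer_commutator_right M T) hx hx' fun y hy hy' =>
      h.conj_eq hM hx hx' hy hy'
    have e1 : (C1[x]).relIndex T ∣ (C1[x]).relIndex D * D.relIndex T := by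
      rw [← inf_relIndex_right C1[x] D, relIndex_mul_relIndex _ _ _ inf_le_right hD.le]
      exact relIndex_dvd_of_le_left _ inf_le_left
    rw [e, c] at e1
    exact ((hr.coprime_iff_not_dvd.2 hD.not_dvd_relIndex).pow_left k).dvd_of_dvd_mul_right
      (h1.trans e1)
  have b : ∀ F ≤ ⁅M, T⁆, D ≤ N[F] → F = ⊥ ∨ F = ⁅M, T⁆ := fun F f1 f2 => by
    obtain ⟨m, hm⟩ := IsPGroup.iff_card.1 (hM.two.to_le (f1.trans (commutator_le_left' h.nor)))
    have d := dvd_card_sub_one f2 fun x hx => a x (f1 hx)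
    rcases Nat.eq_zero_or_pos m with rfl | m0
    · exact .inl (card_eq_one.1 hm)
    · refine .inr (eq_of_le_of_card_ge f1 ?_)
      rw [c, hm]
      exact Nat.pow_le_pow_right two_pos (not_lt.1 fun e => h2 m m0 e (hm ▸ d))
  have o : Odd (Nat.card D) := h.odd.of_dvd_nat (card_dvd_of_le hD.le)
  have e : ⁅M, D⁆ = ⁅M, T⁆ := (b _ (commutator_mono le_rfl hD.le)
    (H1.le_normalizer_commutator_right _ _)).resolve_left fun e => by
      obtain ⟨⟨x, hx⟩, hx'⟩ := ne_bot_iff_exists_ne_one.1 (show ⁅M, T⁆ ≠ ⊥ from fun e => by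
        rw [e, card_bot] at c
        exact absurd (Nat.pow_eq_one.1 c.symm) (by omega))
      have := a x hx fun e => hx' (Subtype.ext e)
      rw [relIndex_eq_one.2 fun d hd => mem_centralizer_singleton_iff.2
        (commutator_eq_bot_iff_le_centralizer.1 e (commutator_le_left' h.nor hx) d hd)] at this
      exact h2 1 one_pos hn this
  exact ⟨hD.le.trans h.nor, o, by rw [← hM.card_comm (hD.le.trans h.nor) o, e, c], e ▸ b⟩

/-- **XQ** -/
theorem Op2.xq (h : Op2 G A) (hs : Group.IsSolvable G) (hG : M ≤ G) (ab : M ≤ C[M])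
    (h2 : IsPGroup 2 M) (nG : G ≤ N[M]) (nA : A ≤ N[M]) (hC : C ≤ M) (hT : T ≤ G)
    (hT' : T ≤ C[C]) (hq : 2 < C.relIndex M) (tr : TrC M C T) : False := by
  have hM : Ab M := ⟨ab, h2⟩
  obtain ⟨T₀, l0, t0⟩ := exists_tr hM (H1.isSolvable_of_le hT hs) hC (hT.trans nG) hT' hq tr
  obtain ⟨n, -, hn⟩ := (Nat.dvd_prime_pow Nat.prime_two).1
    ((IsPGroup.iff_card.1 h2).choose_spec ▸ relIndex_dvd_card C M)
  rw [hn] at hq t0
  have n1 : 1 < n := (Nat.pow_lt_pow_iff_right one_lt_two).1 hq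
  obtain ⟨r, k, hr, r1, r2⟩ := exists_prim n1
  have := Fact.mk hr
  obtain ⟨H, hH, l1⟩ := H4.exists_isPiHallOf_ge (π := {2}ᶜ) (l0.trans hT) fun p _ e (k : p = 2) =>
    Nat.not_even_iff_odd.2 t0.odd (even_iff_two_dvd.2 (k ▸ e))
  have oH : Odd (Nat.card H) := Nat.odd_iff.2 (Nat.two_dvd_ne_zero.1 fun k =>
    hH.2.1 2 Nat.prime_two k rfl)
  obtain ⟨D₀, d0⟩ := exists_isSyl r T₀
  obtain ⟨P, hP, l2⟩ := exists_isSyl_le d0.isPGroup (d0.le.trans l1)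
  have s0 := t0.sm hM hr n1 r1 r2 d0
  have ro : Odd r := hr.odd_of_ne_two (by
    rintro rfl
    rcases k with _ | k
    · exact r2 1 one_pos n1 (by simp)
    · have := (dvd_pow_self 2 k.succ_ne_zero).trans r1
      have := dvd_pow_self 2 (by omega : n ≠ 0)
      omega)
  have h' := (h.gl (X := N[H]) le_rfl fun a ha => by
    obtain ⟨x, hx, e⟩ := H4.isPiHallOf_conj (π := {2}ᶜ) (M := G) (H := cj a H) ⟨cj_le_of_le hH.1 (h.nor ha),
      by rw [card_cj]; exact hH.2.1, by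
        rw [← cj_eq_self (h.nor ha), relIndex_map_map_of_injective _ _ (MulAut.conj a).injective]
        exact hH.2.2⟩ hH
    exact ⟨x, hx, cj_eq_self_iff.1 (by rwa [← cj_cj, cj_eq_smul])⟩).syl hH.1 inf_le_left hP
  have a1 : N[P] ⊓ (H ⊔ N[H] ⊓ (G ⊔ A)) ≤ N[H] :=
    inf_le_right.trans (sup_le le_normalizer inf_le_left)
  have a2 : N[P] ⊓ (H ⊔ N[H] ⊓ (G ⊔ A)) ≤ N[M] :=
    inf_le_right.trans (sup_le (hH.1.trans nG) (inf_le_right.trans (sup_le nG nA)))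
  have a3 : N[P] ⊓ (H ⊔ N[H] ⊓ (G ⊔ A)) ≤ N[P] := inf_le_left
  generalize N[P] ⊓ (H ⊔ N[H] ⊓ (G ⊔ A)) = B at h' a1 a2 a3
  obtain ⟨𝒯, h𝒯⟩ : ∃ 𝒯 : Set (Subgroup Γ), ∀ T, T ∈ 𝒯 ↔
    T ≤ H ∧ Tr M (2 ^ n) T ∧ ∃ D ≤ P ⊓ T, Sm M (2 ^ n) D := ⟨{T | _}, fun _ => Iff.rfl⟩
  have c1 : ∀ b ∈ B, ∀ T ∈ 𝒯, cj b T ∈ 𝒯 := fun b hb T hT => by
    obtain ⟨k1, k2, D, k3, k4⟩ := (h𝒯 T).1 hT
    exact (h𝒯 _).2 ⟨cj_le_of_le k1 (a1 hb), k2.conj (a2 hb), _, le_inf (cj_le_of_le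
      (k3.trans inf_le_left) (a3 hb)) (cj_mono b (k3.trans inf_le_right)), k4.conj (a2 hb)⟩
  have c2 : ∀ T ∈ 𝒯, ∀ T' ∈ 𝒯, M ⊓ C[T'] ≠ M ⊓ C[T] → ⁅M, T⁆ ≤ M ⊓ C[T'] := fun T hT T' hT' e => by
    obtain ⟨-, k2, D, k3, k4⟩ := (h𝒯 T).1 hT
    obtain ⟨-, k2', D', k3', k4'⟩ := (h𝒯 T').1 hT'
    have e1 := inf_eq_of_relIndex (centralizer_anti (k3.trans inf_le_right)) (k2.idx.trans k4.idx.symm)
    have e2 := inf_eq_of_relIndex (centralizer_anti (k3'.trans inf_le_right))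
      (k2'.idx.trans k4'.idx.symm)
    rw [e1, e2] at e
    rw [e2, ← eq_of_le_of_card_ge (commutator_mono le_rfl (k3.trans inf_le_right)) (by
      rw [hM.card_comm k2.nor k2.odd, hM.card_comm k4.nor k4.odd, k2.idx, k4.idx])]
    exact le_inf (commutator_le_left' k4.nor) ((k4.dich hM hr ro hP.isPGroup (by omega) k4'
      (k3.trans inf_le_left) (k3'.trans inf_le_left)).resolve_right e.symm)
  have lH : sSup 𝒯 ≤ H := sSup_le fun T hT => ((h𝒯 T).1 hT).1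
  have oL := oH.of_dvd_nat (card_dvd_of_le lH)
  have nL := lH.trans (hH.1.trans nG)
  have lY := commutator_le_left' nL
  have nB : B ≤ N[(sSup 𝒯 : Subgroup Γ)] := fun b hb => mem_normalizer_of_cj_le (by
    rw [cj_le_iff]
    exact sSup_le fun T hT => cj_le_iff.1 (le_sSup (c1 b hb T hT)))
  have inv : ∀ T ∈ 𝒯, ∃ e ∈ ⁅M, T⁆, e * e = 1 ∧ e ∉ C[T] := fun T hT => by
    have k := ((h𝒯 T).1 hT).2.1
    obtain ⟨e, e1, e2, e3⟩ := exists_mem_pow_eq_one (h2.to_le (commutator_le_left' k.nor)) fun e => by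
      have c := (hM.card_comm k.nor k.odd).trans k.idx
      rw [e, card_bot] at c
      omega
    exact ⟨e, e1, by rwa [← sq], fun k' => e2 (mem_bot.1 ((hM.inf_eq k.nor k.odd).le ⟨e1, k'⟩))⟩
  have lT : ∀ T ∈ 𝒯, ⁅M, T⁆ ≤ ⁅M, sSup 𝒯⁆ := fun T hT => commutator_mono le_rfl (le_sSup hT)
  have m0 : T₀ ∈ 𝒯 := (h𝒯 _).2 ⟨l1, t0, D₀, le_inf l2 d0.le, s0⟩
  refine h'.tuple (𝒞 := (fun T => M ⊓ C[T]) '' 𝒯) (lH.trans hH.1) nB (lY.trans hG)
    (lY.trans (ab.trans (centralizer_anti lY))) (H1.le_normalizer_commutator_right _ _)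
    (le_normalizer_commutator a2 nB) (eq_bot_iff.2 ((inf_le_inf_left _ lY).trans
      (disjoint_of_coprime_natCard (hM.cop oL)).le_bot)) ?_ ?_ ?_ ?_ ?_ ⟨_, ⟨T₀, m0, rfl⟩, fun x hx _ hx' => ?_⟩
  · rintro b hb _ ⟨T, hT, rfl⟩
    exact ⟨_, c1 b hb T hT, by rw [cj_inf, cj_centralizer, cj_eq_self (a2 hb)]⟩
  · rintro _ ⟨T, hT, rfl⟩
    refine sSup_le fun T' hT' => ?_
    by_cases e : M ⊓ C[T] = M ⊓ C[T']
    · exact le_normalizer_of_le_centralizer (le_centralizer_iff.1 (e.le.trans inf_le_right))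
    · exact le_normalizer_of_commutator_le (c2 T' hT' T hT e) inf_le_left
  · exact fun y hy e => mem_bot.1 ((hM.inf_eq nL oL).le ⟨hy, zpowers_le.1 (le_centralizer_iff.1
      (sSup_le fun T hT => le_centralizer_iff.1 (zpowers_le.2 (e _ ⟨T, hT, rfl⟩).2)))⟩)
  · rintro _ ⟨T, hT, rfl⟩
    obtain ⟨e, e1, e2, e3⟩ := inv T hT
    refine ⟨e, lT T hT e1, e2, fun k => e3 k.2, ?_⟩
    rintro _ ⟨T', hT', rfl⟩ e'
    exact c2 T hT T' hT' e' e1
  · rintro _ ⟨T, hT, rfl⟩ x hx y hy - - x1 y1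
    have k := ((h𝒯 T).1 hT).2.1
    obtain ⟨t, ht, e⟩ := k.tr x (lY hx) (fun e => x1 ⟨lY hx, e⟩) y (lY hy) fun e => y1 ⟨lY hy, e⟩
    refine ⟨t, le_sSup hT ht, mem_inf.2 ⟨mul_mem (inv_mem
      (conj_mem_of_mem_normalizer (k.nor ht) (lY hx))) (lY hy), e⟩, ?_⟩
    rintro _ ⟨T', hT', rfl⟩ e'
    refine c2 T hT T' hT' e' ?_
    simpa only [commutatorElement_def, inv_inv, mul_assoc] using
      commutator_mem_commutator (inv_mem (lY hx)) ht
  · obtain ⟨z, z1, z2, z3⟩ := exists_third (t0.idx ▸ hq) x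
    obtain ⟨e, e1, e2, e3⟩ := inv T₀ m0
    obtain ⟨t, ht, e4⟩ := t0.tr e (commutator_le_left' t0.nor e1) e3 z z1 z2
    refine ⟨t * e * t⁻¹, lT T₀ m0 (conj_mem_of_mem_normalizer
      (H1.le_normalizer_commutator_right _ _ ht) e1), by
        rw [conj_mul, e2, mul_one, mul_inv_cancel], fun k => z2 ?_, fun k => z3 ?_⟩
    · simpa only [mul_inv_cancel_left] using mul_mem (mem_inf.1 k).2 e4
    · simpa only [mul_assoc, mul_inv_cancel_left] using mul_mem (mem_inf.1 k).2 e4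

/-- **X3** -/
theorem Op2.x3 {d : Γ} (h : Op2 G A) (hs : Group.IsSolvable G) (hG : M ≤ G) (ab : M ≤ C[M])
    (h2 : IsPGroup 2 M) (nG : G ≤ N[M]) (nA : A ≤ N[M]) (hd : d ∈ G) (h3 : ∃ k, d ^ 3 ^ k = 1) :
    (C1[d]).relIndex M ≠ 4 := fun h4 => by
  have hM : Ab M := ⟨ab, h2⟩
  obtain ⟨k, hk⟩ := h3
  have p3 := isPGroup_zpowers hk
  have o := odd_of_isPGroup Nat.prime_three (by decide) p3
  have n := (zpowers_le.2 hd).trans nG
  have ez : ∀ d : Γ, C[zpowers d] = C1[d] := fun d => by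
    rw [zpowers_eq_closure, centralizer_closure]
  have e := ez d
  have c := (hM.card_comm n o).trans (e ▸ h4)
  have i := hM.inf_eq n o
  have n' := H1.le_normalizer_commutator_right M (zpowers d)
  have tr : ∀ x ∈ ⁅M, zpowers d⁆, x ≠ 1 → ∀ y ∈ ⁅M, zpowers d⁆, y ≠ 1 →
      ∃ t ∈ zpowers d, t * x * t⁻¹ = y := fun x hx x1 y hy y1 => by
    let _ := actNe n'
    have := Fact.mk Nat.prime_three
    obtain ⟨j, hj⟩ := p3.index (MulAction.stabilizer (zpowers d) 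
      (⟨x, hx, x1⟩ : {x // x ∈ ⁅M, zpowers d⁆ ∧ x ≠ 1}))
    have j0 : j ≠ 0 := by
      rintro rfl
      rw [actNe_stab n', pow_zero, relIndex_eq_one] at hj
      exact x1 (mem_bot.1 (i.le ⟨hx, zpowers_le.1 (le_centralizer_iff.1
        (hj.trans (ez x).ge))⟩))
    rw [MulAction.index_stabilizer] at hj
    obtain ⟨t, ht⟩ := (Set.eq_of_subset_of_ncard_le (Set.subset_univ _) (by
      rw [hj, Set.ncard_univ, card_ne, c]
      exact Nat.le_self_pow j0 3)).ge 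
      (Set.mem_univ (⟨y, hy, y1⟩ : {x // x ∈ ⁅M, zpowers d⁆ ∧ x ≠ 1}))
    exact ⟨t, t.2, congrArg Subtype.val ht⟩
  refine h.xq hs hG ab h2 nG nA (C := M ⊓ C[zpowers d]) inf_le_left (zpowers_le.2 hd)
    (le_centralizer_iff.1 inf_le_right) (by rw [inf_relIndex_left, e, h4]; omega)
    fun x hx x1 y hy y1 => ?_
  obtain ⟨a, ha, x, hx', rfl⟩ := hM.dec n o hx
  obtain ⟨b, hb, y, hy', rfl⟩ := hM.dec n o hy
  obtain ⟨t, ht, rfl⟩ := tr x hx' (fun k => x1 (by rwa [k, mul_one])) y hy'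
    fun k => y1 (by rwa [k, mul_one])
  refine ⟨t, ht, ?_⟩
  have l := commutator_le_left' n hy'
  rw [← conj_mul, ha.2 t ht, mul_inv_cancel_right, ab l b hb.1, ab l a ha.1, mul_inv_rev, mul_assoc,
    inv_mul_cancel_left]
  exact mul_mem (inv_mem ha) hb

end H52.NC
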