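import Cfsg.Agent.H28.TESpec

/-! S1308, chapter TE part 1: slot MN. -/

set_option autoImplicit false

namespace H52.TEMN

open Cfsg Subgroup H14 H98 H1.Gold H31.S2 H14.GC H14.FE H14.NF H28.TE
open scoped commutatorElement

universe u

theorem jobMN : JobMN.{u} := by
  intro zc G _ _ Q hy l0 zq E pz Q₁ E₁ Q₂ E₂ p1 p2 s hs s1 sN
  have : Fact (Nat.Prime 2) := ⟨Nat.prime_two⟩
  obtain ⟨v1, -, ⟨R₁, hR₁, e1⟩, -⟩ := pz Q₁ E₁ p1
  obtain ⟨v2, -, ⟨R₂, hR₂, e2⟩, -⟩ := pz Q₂ E₂ p2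
  subst e1 e2
  by_cases hne : Q₂ = Q₁
  · subst hne
    exact fun x hx => le_normalizer (hR₂.le hx.1)
  have sQ : s ∈ Q₁ := hR₁.le hs.1
  have is : Inv s := ⟨s1, hs.2.2⟩
  have s2 : IsPGroup 2 (zpowers s) :=
    isPGroup_zpowers (k := 1) (by rw [pow_one, pow_two]; exact hs.2.2)
  obtain ⟨T, hT, sT⟩ := exists_isSyl_le (H := Q₁ ⊓ nor Q₂) s2 (zpowers_le.2 ⟨sQ, sN⟩)
  have sT' : s ∈ T := sT (mem_zpowers s)
  have Tb : T ≠ ⊥ := fun h => s1 (by rw [h] at sT'; exact mem_bot.1 sT')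
  have TN : T ≤ nor Q₂ := hT.le.trans inf_le_right
  have TQ : T ≤ Q₁ := hT.le.trans inf_le_left
  obtain ⟨R, hR, -, hn⟩ := inv_syl (Y := Q₂) hT.isPGroup TN
  obtain ⟨la, lb⟩ := l0 Q₂ Q₁ v2 v1 hne T hT Tb R hR hn
  have key : OZ R ≤ cen T ∧ Four T := by
    by_cases hf : IsSyl 2 T Q₁
    · exact ⟨fun x hx => la hf hx.1, syl_four hf (hy.four Q₁ v1)⟩
    · have ln := lb hf
      have e := (zc G _ _ _ _ _ ln R ⟨hR, inf_le_left, hn⟩).1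
      exact ⟨e ▸ inf_le_right, ln.fT⟩
  have h1 : OZ R ≤ nor Q₁ := fun x hx => hy.cen_le Q₁ v1 s sQ is
    (mem_centralizer_singleton_iff.2 (mem_centralizer_iff.1 (key.1 hx) s sT').symm)
  have h2 : opp 2 Q₂ ≤ nor Q₁ := by
    obtain ⟨F, hF, -, Fl⟩ := key.2.exists_e4
    refine (oi_opp (Fl.trans TN)).le_of_cen1 (H85.e2_iff.1 hF.1) hF.2 fun a ha a1 => ?_
    exact inf_le_right.trans (hy.cen_le Q₁ v1 a (TQ (Fl ha)) ⟨a1, hF.1 a ha⟩)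
  obtain ⟨q, hq, rfl⟩ := hR.exists_cj_eq hR₂
  intro e he
  have m1 : q⁻¹ * e * q ∈ OZ R := by
    refine ⟨mem_cj.1 he.1, mem_centralizer_iff.2 fun r hr => ?_, ?_⟩
    · have := mem_centralizer_iff.1 he.2.1 _ (conj_mem_cj (g := q) hr)
      calc r * (q⁻¹ * e * q) = q⁻¹ * (q * r * q⁻¹ * e) * q := by group
        _ = q⁻¹ * e * q * r := by rw [this]; group
    · calc q⁻¹ * e * q * (q⁻¹ * e * q) = q⁻¹ * (e * e) * q := by group
        _ = 1 := by rw [he.2.2]; group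
  have m2 := h2 (zq Q₂ v2 R hR _ m1 q hq)
  have := mul_mem m2 (h1 m1)
  rwa [show ⁅q, q⁻¹ * e * q⁆ * (q⁻¹ * e * q) = e by rw [commutatorElement_def]; group] at this

end H52.TEMN
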