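import Cfsg.Agent.H52.GNb

/-! A pair of characteristic subgroups for pushing up. -/

set_option autoImplicit false
set_option linter.unusedSectionVars false

namespace H52

open Subgroup Cfsg H98 H96
open scoped commutatorElement

universe u

variable {S : Type u} [Group S] [Finite S] {p : ℕ} [hp : Fact p.Prime]

/-- a multiple of the regular permutation representation -/
def reg (G : Type u) [Group G] (m : ℕ) : G →* Equiv.Perm (G × Fin m) :=
  MonoidHom.mk' (fun g => (Equiv.mulLeft g).prodCongr (Equiv.refl _)) fun a b => by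
    ext x <;> simp [mul_assoc]

theorem reg_apply {G : Type u} [Group G] {m : ℕ} (g x : G) (i : Fin m) : reg G m g (x, i) = (g * x, i) :=
  rfl

theorem reg_injective (G : Type u) [Group G] {m : ℕ} (hm : m ≠ 0) : Function.Injective (reg G m) :=
  (injective_iff_map_eq_one _).2 fun g hg => by
    simpa [reg_apply] using congrArg (fun σ => (σ (1, ⟨0, Nat.pos_of_ne_zero hm⟩)).1) hg

theorem reg_conj (m : ℕ) (φ : S ≃* S) : ∃ σ, ∀ s, σ * reg S m s * σ⁻¹ = reg S m (φ s) :=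
  ⟨φ.toEquiv.prodCongr (Equiv.refl _), fun s => by
    rw [mul_inv_eq_iff_eq_mul]
    ext ⟨x, i⟩ <;> simp [reg_apply]⟩

theorem exists_embed {G : Type u} [Group G] [Finite G] (τ : S →* G) (hτ : Function.Injective τ)
    {m : ℕ} (hm : m ≠ 0) (h : Nat.card G ∣ Nat.card S * m) :
    ∃ φ : G →* Equiv.Perm (S × Fin m), Function.Injective φ ∧ φ.comp τ = reg S m := by
  obtain ⟨k, hk⟩ := h
  obtain ⟨R, hR, -⟩ := τ.range.exists_isComplement_right 1
  have h1 : Nat.card S = Nat.card τ.range := Nat.card_congr (MonoidHom.ofInjective hτ).toEquiv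
  have h2 : Nat.card (Fin m) = Nat.card (R × Fin k) := by
    rw [← hR.card_mul_card, SetLike.coe_sort_coe, ← h1, mul_assoc] at hk
    rw [Nat.card_prod, Nat.card_fin, Nat.card_fin]
    exact Nat.eq_of_mul_eq_mul_left Nat.card_pos hk
  have hk0 : k ≠ 0 := fun e => hm (by simpa [e] using h2)
  obtain ⟨e⟩ := Finite.card_eq.1 h2
  let e' : G × Fin k ≃ S × Fin m := (((MonoidHom.ofInjective hτ).toEquiv.prodCongr e).trans
    ((Equiv.prodAssoc _ _ _).symm.trans (hR.equiv.symm.prodCongr (Equiv.refl _)))).symm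
  have h3 : ∀ s j, e'.symm (s, j) = (τ s * (e j).1, (e j).2) := fun s j => rfl
  refine ⟨e'.permCongrHom.toMonoidHom.comp (reg G k), e'.permCongrHom.injective.comp
    (reg_injective G hk0), MonoidHom.ext fun s => Equiv.ext fun ⟨x, i⟩ => ?_⟩
  change e' (reg G k (τ s) (e'.symm (x, i))) = _
  rw [h3, reg_apply, reg_apply, ← mul_assoc, ← map_mul, ← h3, Equiv.apply_symm_apply]

theorem card_dvd_of_charP {G : Type u} [Group G] [Finite G] (hc : CharP p (⊤ : Subgroup G))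
    {T : Subgroup G} (hT : IsSyl p T ⊤) : Nat.card G ∣ Nat.card T * (Nat.card T).factorial := by
  have h1 := hT.pCoreOf_le
  rw [charP_top_iff] at hc
  rw [pCoreOf_top] at h1
  let f : G →* Equiv.Perm (pCore p G) := (MulAut.toPerm _).comp MulAut.conjNormal
  rw [← f.ker.card_mul_index, index_ker]
  refine mul_dvd_mul (card_dvd_of_le (fun x hx => h1 (hc fun y hy => ?_)))
    ((card_subgroup_dvd_card _).trans ?_)
  · have := congrArg (fun σ : Equiv.Perm (pCore p G) => (σ ⟨y, hy⟩ : G)) hx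
    exact (mul_inv_eq_iff_eq_mul.1 this).symm
  · rw [Nat.card_perm]
    exact Nat.factorial_dvd_factorial (card_le_of_le h1)

/-- one of the two subgroups is normal in every rank one group over `S` -/
def Pair (p : ℕ) (S₁ S₂ : Subgroup S) : Prop :=
  ∀ (G : Type u) [Group G] [Finite G] (τ : S →* G), Function.Injective τ → ∀ q,
    R1 p q (⊤ : Subgroup G) → CharP p (⊤ : Subgroup G) → IsSyl p ((⊤ : Subgroup S).map τ) ⊤ →
      (S₁.map τ).Normal ∨ (S₂.map τ).Normal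

theorem char_of_map {Φ : Subgroup S → Subgroup S}
    (h : ∀ f : S →* S, Function.Injective f → (Φ ⊤).map f = Φ ((⊤ : Subgroup S).map f)) :
    (Φ ⊤).Characteristic := characteristic_iff_map_eq.2 fun φ => by
  rw [h _ φ.injective, map_top_of_surjective _ φ.surjective]

theorem Nice.pair (h : Nice p (⊤ : Subgroup S)) :
    ∃ S₂ : Subgroup S, S₂.Characteristic ∧ CL ⊤ S₂ ∧ Pair p (zc ⊤ ⊓ s0 p ⊤) S₂ := by
  let m := (Nat.card S).factorial
  have hι := reg_injective S (Nat.factorial_ne_zero (Nat.card S))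
  set ι := reg S m
  have key : ∀ (G : Type u) [Group G] [Finite G] (τ : S →* G), Function.Injective τ → ∀ q,
      R1 p q (⊤ : Subgroup G) → CharP p (⊤ : Subgroup G) → IsSyl p ((⊤ : Subgroup S).map τ) ⊤ →
      ¬ ((zc ⊤ ⊓ s0 p ⊤ : Subgroup S).map τ).Normal → ∃ φ : G →* _, Function.Injective φ ∧
        φ.comp τ = ι ∧ Gv p ((⊤ : Subgroup G).map φ) ∧
        IsSyl p ((⊤ : Subgroup S).map ι) ((⊤ : Subgroup G).map φ) := by
    intro G _ _ τ hτ q h1 h2 h3 h4
    obtain ⟨φ, h5, h6⟩ := exists_embed τ hτ (Nat.factorial_ne_zero (Nat.card S)) (by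
      simpa only [card_map_of_injective hτ, card_top] using card_dvd_of_charP h2 h3)
    refine ⟨φ, h5, h6, (Gv.of_one h1 h2 h3 (h.map hτ) fun e => h4 ?_).map h5, ?_⟩
    · rw [map_inf _ _ _ hτ, map_zc hτ, map_s0 hτ]
      exact normal_of_cent e
    · simpa only [map_map, h6] using h3.map_of_injective h5
  by_cases h0 : ∃ L, Gv p L ∧ IsSyl p ((⊤ : Subgroup S).map ι) L
  · obtain ⟨L, h1, h2⟩ := h0
    obtain ⟨S₂, e⟩ := exists_map_eq (h1.cl_cz_Wi h2).le
    refine ⟨S₂, characteristic_iff_le_comap.2 fun φ s hs => ?_, (cl_map_iff hι).1 (e ▸ h1.cl_cz_Wi h2),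
      fun G _ _ τ hτ q k1 k2 k3 => or_iff_not_imp_left.2 fun k4 => ?_⟩
    · obtain ⟨σ, hσ⟩ := reg_conj m φ
      have h3 : σ ∈ normalizer (((⊤ : Subgroup S).map ι : Subgroup _) : Set _) :=
        mem_normalizer_of_cj_le (by
          rintro _ ⟨_, ⟨s, -, rfl⟩, rfl⟩
          exact ⟨_, trivial, (hσ s).symm⟩)
      have h4 := conj_mem_of_mem_normalizer (le_normalizer_inf le_rfl (le_normalizer_centralizer
        (n_Wi _)) h3) (e.le ⟨s, hs, rfl⟩)
      rwa [hσ, ← cz, ← e, mem_map_iff_mem hι] at h4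
    · obtain ⟨φ, l1, l2, l3, l4⟩ := key G τ hτ q k1 k2 k3 k4
      refine normal_of_top_le_normalizer (le_normalizer_of_map l1 ?_)
      rw [map_map, l2, e]
      exact l3.n_cz_Wi l4
  · refine ⟨⊤, inferInstance, h.cl, fun G _ _ τ hτ q k1 k2 k3 => Or.inl (by_contra fun k4 => ?_)⟩
    obtain ⟨φ, -, -, l3, l4⟩ := key G τ hτ q k1 k2 k3 k4
    exact h0 ⟨_, l3, l4⟩

theorem Ph_top : Ph (⊤ : Subgroup S) = frattini S := le_antisymm
  (map_le_iff_le_comap.2 (frattini_le_comap_frattini_of_surjective topEquiv.surjective)) fun x hx =>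
    ⟨⟨x, trivial⟩, frattini_le_comap_frattini_of_surjective (φ := (topEquiv (G := S)).symm.toMonoidHom)
      topEquiv.symm.surjective hx, rfl⟩

theorem maxAb_top : H13.maxAb 0 (⊤ : Subgroup S) = maxAbelianSubgroups S := by
  rw [H13.maxAb_top, H13.maxAbelianSubgroups_eq]

theorem zj_top : thompsonSubgroupA S ⊓ centralizer (thompsonSubgroupA S : Set S) = H13.zj 0 ⊤ := by
  rw [← H13.centerThompsonAOf_eq, centerThompsonAOf, H13.thompsonSubgroupAOf_eq, maxAb_top]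
  rfl

theorem zc_top : zc (⊤ : Subgroup S) = center S := by rw [zc, top_inf_eq, centralizer_top']

theorem CL.mcp {T H : Subgroup S} (h : CL T H) : maxCentralProduct T = cm H H := by
  rw [← h.cm_eq]
  obtain ⟨H, rfl⟩ := exists_subtype h.le
  rw [cm_subtype, H99.maxCentralProduct_eq, ← cd_iff.1 h.1, H99.cdm]

/-- the conclusion of the theorem on pairs of characteristic subgroups -/
def Out (p : ℕ) (S₁ S₂ : Subgroup S) : Prop :=
  S₁ ≠ ⊥ ∧ S₂ ≠ ⊥ ∧ S₁.Characteristic ∧ S₂.Characteristic ∧ S₁ ≤ center S ∧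
    S₂ ≤ centralizer (H13.zj 0 (⊤ : Subgroup S) : Set S) ∧
    (S₂.subgroupOf (centralizer (H13.zj 0 (⊤ : Subgroup S) : Set S))).Characteristic ∧ Pair p S₁ S₂

theorem inf_zc_ne_bot (hS : IsPGroup p S) {N : Subgroup S} [N.Normal] (h : N ≠ ⊥) : zc ⊤ ⊓ N ≠ ⊥ := by
  rw [zc, top_inf_eq, inf_comm]
  exact inf_centralizer_ne_bot (hS.to_subgroup _) (hS.to_subgroup _) (by rw [normalizer_eq_top]) h

theorem Out.of_top {S₁ S₂ : Subgroup S} (hJ : ⊤ ≤ centralizer (H13.zj 0 (⊤ : Subgroup S) : Set S))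
    (h1 : S₁ ≠ ⊥) (h2 : S₂ ≠ ⊥) (h3 : S₁.Characteristic) (h4 : S₂.Characteristic) (h5 : S₁ ≤ zc ⊤)
    (h6 : Pair p S₁ S₂) : Out p S₁ S₂ := by
  refine ⟨h1, h2, h3, h4, zc_top (S := S) ▸ h5, le_top.trans hJ, ?_, h6⟩
  rw [eq_top_iff.2 hJ]
  refine characteristic_iff_le_comap.2 fun φ x hx => ?_
  exact characteristic_iff_le_comap.1 h4 (topEquiv.symm.trans (φ.trans topEquiv)) hx

theorem J_map {G : Type u} [Group G] [Finite G] {τ : S →* G} (hτ : Function.Injective τ)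
    (hJ : ⊤ ≤ centralizer (H13.zj 0 (⊤ : Subgroup S) : Set S)) :
    (⊤ : Subgroup S).map τ ≤ centralizer (H13.zj 0 ((⊤ : Subgroup S).map τ) : Set G) := by
  rw [H13.zj_map hτ.injOn]
  exact map_le_centralizer_map τ hJ

/-- the theorem of Glauberman and Niles -/
theorem exists_pair [Nontrivial S] (hS : IsPGroup p S) :
    (⊤ ≤ centralizer (H13.zj 0 (⊤ : Subgroup S) : Set S) ∧ ¬ IsMulCommutative S ∧
      Nice p (⊤ : Subgroup S) ∧ s0 p (⊤ : Subgroup S) = ⊥) ∨ ∃ S₁ S₂ : Subgroup S, Out p S₁ S₂ ∧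
      maxCentralProduct S₂ = maxCentralProduct (centralizer (H13.zj 0 (⊤ : Subgroup S) : Set S)) := by
  have hZ : zc (⊤ : Subgroup S) ≠ ⊥ := by simpa using inf_zc_ne_bot hS (N := ⊤) top_ne_bot
  have cz : (zc (⊤ : Subgroup S)).Characteristic := char_of_map (Φ := zc) fun f hf => map_zc hf _
  have cJ : (H13.zj 0 (⊤ : Subgroup S)).Characteristic :=
    char_of_map (Φ := H13.zj 0) fun f hf => (H13.zj_map hf.injOn 0).symm
  by_cases hJ : ⊤ ≤ centralizer (H13.zj 0 (⊤ : Subgroup S) : Set S)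
  swap
  · refine Or.inr ⟨zc ⊤ ⊓ ⁅H13.zj 0 ⊤, ⊤⁆, _, ⟨inf_zc_ne_bot hS fun e => hJ (le_centralizer_iff.1
      (commutator_eq_bot_iff_le_centralizer.1 e)), fun e => hZ (eq_bot_iff.2 (e ▸ inf_le_right.trans
      (centralizer_anti le_top))), inferInstance, inferInstance, zc_top (S := S) ▸ inf_le_left, le_rfl, by
        rw [subgroupOf_self]; infer_instance, fun G _ _ τ hτ q k1 k2 k3 => ?_⟩, rfl⟩
    rw [← top_inf_eq (centralizer _), map_inf_centralizer hτ, map_inf _ _ _ hτ, Subgroup.map_commutator,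
      map_zc hτ, ← H13.zj_map hτ.injOn]
    rcases k1.tri k2 k3 with h1 | h1 | ⟨h1, A, hA, hAQ⟩
    · exact Or.inl (normal_of_cent (inf_le_left.trans h1))
    · exact Or.inr (normal_of_top_le_normalizer h1)
    · exact Or.inl (normal_of_cent ((inf_comm _ _).le.trans (h1.comm_zj k3 hA hAQ)))
  have hcl := cl_self hJ
  have fin : ∀ S₁ S₂ : Subgroup S, S₁ ≠ ⊥ → S₁.Characteristic → S₂.Characteristic → S₁ ≤ zc ⊤ →
      CL ⊤ S₂ → Pair p S₁ S₂ → ∃ S₁ S₂ : Subgroup S, Out p S₁ S₂ ∧ maxCentralProduct S₂ =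
        maxCentralProduct (centralizer (H13.zj 0 (⊤ : Subgroup S) : Set S)) :=
    fun S₁ S₂ h1 h2 h3 h4 h5 h6 => ⟨S₁, S₂, Out.of_top hJ h1 (fun e => hZ (eq_bot_iff.2
      (e ▸ h5.1.zc_le))) h2 h3 h4 h6, by rw [eq_top_iff.2 hJ, h5.mcp, h5.self.mcp]⟩
  by_cases h1 : IsMulCommutative S
  · refine Or.inr (fin _ ⊤ hZ cz inferInstance le_rfl hcl fun G _ _ τ hτ q k1 k2 k3 => ?_)
    refine (k1.not_le_Q k3 (k2.le_pCoreOf le_top (le_trans ?_ (centralizer_anti k3.pCoreOf_le)))).elim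
    exact map_le_centralizer_map τ fun x _ y _ => h1.1.1 y x
  by_cases h2 : powerClosure p 1 (zc (⊤ : Subgroup S)) = ⊥
  swap
  · refine Or.inr (fin _ ⊤ h2 (char_of_map (Φ := fun H => powerClosure p 1 (zc H)) fun f hf => by
      rw [H19.map_powerClosure, map_zc hf]) inferInstance (H19.powerClosure_le _ _) hcl
      fun G _ _ τ hτ q k1 k2 k3 => Or.inl (normal_of_cent ?_))
    rw [H19.map_powerClosure, map_zc hτ]
    by_cases h3 : zc ((⊤ : Subgroup S).map τ) ≤ centralizer ((⊤ : Subgroup G) : Set G)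
    · exact (H19.powerClosure_le _ _).trans h3
    · exact ((k1.nv_of_J k2 k3 (J_map hτ hJ) h3).spr.mho_zc_le k2 k3).trans inf_le_right
  obtain ⟨Q, hQ, -⟩ := hcl.exists_mcl
  have cQ := hQ.comm_char
  by_cases h3 : ⁅Q, Q⁆ = ⊥
  swap
  · refine Or.inr (fin _ (sM ⊤) (inf_zc_ne_bot hS h3) inferInstance (char_of_map (Φ := sM)
      fun f hf => sM_map hf _) inf_le_left ?_ fun G _ _ τ hτ q k1 k2 k3 => ?_)
    · have h4 := hQ.1.1.iSup (f := fun H : {H // MCL (⊤ : Subgroup S) H} => H.1)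
        fun H => hQ.1.1.sup H.2.1.1
      have h5 : Q ≤ sM ⊤ := le_iSup (fun H : {H // MCL (⊤ : Subgroup S) H} => H.1) ⟨Q, hQ⟩
      rw [← sM, sup_eq_right.2 h5] at h4
      exact hQ.1.of_le h4 h5
    · rw [map_inf _ _ _ hτ, map_zc hτ, Subgroup.map_commutator, sM_map hτ]
      exact (k1.mcl_push k2 k3 (J_map hτ hJ) ((mcl_map_iff hτ).2 hQ)).imp normal_of_cent
        normal_of_top_le_normalizer
  have h4 := H99.mcl_iff_maxAb (mcl_top.1 hQ) ((H99.isMulCommutative_iff_commutator_eq_bot Q).2 h3)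
  have h5 : Nice p (⊤ : Subgroup S) := ⟨hcl, fun A hA => (mcl_top.2 ((h4 A).2 (maxAb_top (S := S) ▸ hA))).1.1,
    (hQ.1.sup_J hJ).1.ge.trans (sup_le (le_sSup (maxAb_top (S := S) ▸ (h4 Q).1 (mcl_top.1 hQ))) le_rfl),
    fun z hz => mem_bot.1 (h2.le (pow_mem_mho p hz))⟩
  by_cases h6 : s0 p (⊤ : Subgroup S) = ⊥
  · exact Or.inl ⟨hJ, h1, h5, h6⟩
  obtain ⟨S₂, k1, k2, k3⟩ := h5.pair
  have c0 : (s0 p (⊤ : Subgroup S)).Characteristic := char_of_map (Φ := s0 p) fun f hf => map_s0 hf _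
  exact Or.inr (fin _ S₂ (inf_zc_ne_bot hS h6) inferInstance k1 inf_le_left k2 k3)

theorem ea_of_Ph (hS : IsPGroup p S) {H : Subgroup S} (h : Ph H = ⊥) : IsElementaryAbelian p H :=
  ⟨(H99.isMulCommutative_iff_commutator_eq_bot H).2 (eq_bot_iff.2 (h ▸ comm_le_Ph (hS.to_subgroup H))),
    fun _ hx => mem_bot.1 (h.le (H9.pow_mem_map_frattini (hS.to_subgroup H) hx))⟩

theorem out_sF [Nontrivial S] (hS : IsPGroup p S)
    (hJ : ⊤ ≤ centralizer (H13.zj 0 (⊤ : Subgroup S) : Set S))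
    (h : ¬ ∃ A ∈ maxAbelianSubgroups S, IsElementaryAbelian p A) : Out p (zc ⊤) (sF p (⊤ : Subgroup S)) := by
  refine Out.of_top hJ (by simpa using inf_zc_ne_bot hS (N := ⊤) top_ne_bot) (fun e => h ?_)
    (char_of_map (Φ := zc) fun f hf => map_zc hf _) (char_of_map (Φ := sF p) fun f hf => sF_map hf _)
    le_rfl fun G _ _ τ hτ q k1 k2 k3 => ?_
  · obtain ⟨H, hH⟩ := exists_fm p (⊤ : Subgroup S)
    have h1 := ea_of_Ph hS (eq_bot_iff.2 ((le_iSup
      (fun H : {H // FM p (⊤ : Subgroup S) H} => Ph H.1) ⟨H, hH⟩).trans e.le))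
    exact ⟨H, H99.maxAb_of_cl_comm (cl_top.1 hH.1.1) h1.1, h1⟩
  · rw [map_zc hτ, sF_map hτ]
    exact (k1.fm_push k2 k3 (J_map hτ hJ)).imp normal_of_cent normal_of_top_le_normalizer

theorem s0_eq_bot [Nontrivial S] (hS : IsPGroup p S) (h : s0 p (⊤ : Subgroup S) = ⊥) :
    IsElementaryAbelian p (frattini S) ∧ (p = 2 → frattini S ≤ center S) ∧
      (p = 3 → frattini S ≤ Subgroup.upperCentralSeries S 2) ∧
      (3 < p → frattini S ≤ center S ∧ Monoid.exponent S = p) := by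
  unfold s0 at h
  rw [Ph_top] at h
  simp only [← centralizer_top', ← commutator_eq_bot_iff_le_centralizer]
  split_ifs at h with h2 h3 <;> rw [sup_eq_bot_iff] at h
  · exact ⟨ea_of_Ph hS h.2, fun _ => h.1, by omega, by omega⟩
  · refine ⟨ea_of_Ph hS h.2, by omega, fun _ x hx => Subgroup.mem_upperCentralSeries_succ_iff.2 fun y => ?_,
      by omega⟩
    rw [Subgroup.upperCentralSeries_one, ← centralizer_top']
    exact commutator_eq_bot_iff_le_centralizer.1 h.1 (commutator_mem_commutator hx trivial)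
  · have h4 : ∀ x ∈ (⊤ : Subgroup S), x ^ p = 1 := fun x hx => mem_bot.1 (h.2.le (pow_mem_mho p hx))
    refine ⟨⟨(H99.isMulCommutative_iff_commutator_eq_bot _).2 (eq_bot_iff.2 (h.1 ▸ commutator_mono
      le_rfl le_top)), fun x _ => h4 x trivial⟩, by omega, by omega, fun _ => ⟨h.1, ?_⟩⟩
    rw [← Subgroup.exponent_top]
    exact exponent_eq_of_pow h4 top_ne_bot

theorem Nice.spec (h : Nice p (⊤ : Subgroup S)) : thompsonSubgroupA S = ⊤ ∧
    IsElementaryAbelian p (center S) ∧ ∀ A ∈ maxAbelianSubgroups S, ∀ B ∈ maxAbelianSubgroups S,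
      ∀ Q : Subgroup S, Nat.card A ^ 2 = Nat.card S * Nat.card (center S) ∧
        Nat.card Q * Nat.card (center Q) ≤ Nat.card S * Nat.card (center S) ∧
        ((A ⊔ B : Subgroup S) : Set S) = (open Pointwise in (A : Set S) * (B : Set S)) ∧
        A ⊔ B = centralizer ((A ⊓ B : Subgroup S) : Set S) := by
  have h1 : maxCentralProduct S = Nat.card S * Nat.card (center S) := by
    rw [← cl_top.1 h.cl, card_top, H99.card_center_coe, ← zc_top]
  refine ⟨eq_top_iff.2 (h.jt.trans (by rw [maxAb_top]; rfl)), ⟨inferInstance, zc_top (S := S) ▸ h.el⟩,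
    fun A hA B hB Q => ?_⟩
  have h2 := cd_top.1 (h.ab A (maxAb_top (S := S) ▸ hA))
  have h3 := cd_top.1 (h.ab B (maxAb_top (S := S) ▸ hB))
  refine ⟨?_, h1 ▸ H99.card_mul_card_center_le Q, H99.cd_coe_sup h2 h3, ?_⟩
  · rw [← h1, H99.maxCentralProduct_eq, ← h2, H99.maxAb_centralizer_eq hA, sq]
  · rw [H99.cd_centralizer_inf h2 h3, H99.maxAb_centralizer_eq hA, H99.maxAb_centralizer_eq hB]

theorem Pair.sit {S₁ S₂ : Subgroup S} (h : Pair p S₁ S₂) (G : Type u) [Group G] [Finite G]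
    (P : Subgroup G) (e : S ≃* P) (hE : IsPushingUpSituation p P) :
    (S₁.map (P.subtype.comp e.toMonoidHom)).Normal ∨ (S₂.map (P.subtype.comp e.toMonoidHom)).Normal := by
  obtain ⟨q, h1, h2, h3⟩ := r1_of_sit hE
  refine h G _ (P.subtype_injective.comp e.injective) q h1 h2 ?_
  rwa [← map_map, map_top_of_surjective _ e.surjective, map_subtype_top]

end H52
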