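import Cfsg.Agent.H48.DNASpec
import Cfsg.Agent.H14.Rel
import Cfsg.Agent.H29.DPFs
import Cfsg.Agent.H18.DPCPr

/-! S3275, chapter alpha: slot S2 (`y` normalises a component not centralised by `X`). -/

set_option autoImplicit false
set_option maxHeartbeats 400000

namespace H52.DNAS2

open Subgroup Cfsg H98 H48.DP H57.DPC H48.DP2 H26.DA

universe u

theorem job : H48.DP2.JS2.{u} := by
  intro hN G _ _ X P y r h
  have : Fact (Nat.Prime 3) := ⟨Nat.prime_three⟩
  have : Fact (Nat.Prime 2) := ⟨Nat.prime_two⟩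
  set R := pCoreOf 3 (⊤ : Subgroup G) with hR
  have hR3 : IsPGroup 3 R := isPGroup_pCoreOf _
  have hRn : ∀ g : G, g ∈ No R := fun g => self_le_normalizer_pCoreOf _ (mem_top g)
  have y3 : y ^ 3 = 1 := by rw [← h.y3, pow_orderOf_eq_one]
  have hXR : X ⊓ R = ⊥ :=
    (IsPGroup.disjoint_of_ne 2 3 (by norm_num) X R h.X2 hR3).eq_bot
  have hy : y ∈ No X := h.cX (mem_C1_self y)
  have hXC : X ≤ Ce R := by
    by_contra c
    obtain ⟨n, hn, -, hn', -⟩ := hN G X R y h.X2 hR3 y3 hy (hRn y) (fun g _ => hRn g) h.fX c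
    refine hn' fun x hx => ?_
    have hnX : n ∈ No X := h.cX hn.2
    have h1 : x * n * x⁻¹ * n⁻¹ ∈ X ⊓ R := by
      refine mem_inf.2 ⟨?_, R.mul_mem (conj_mem_of_mem_normalizer (hRn x) hn.1) (R.inv_mem hn.1)⟩
      have := mul_mem hx (conj_mem_of_mem_normalizer hnX (inv_mem hx))
      simpa only [mul_assoc] using this
    rw [hXR, mem_bot, mul_inv_eq_one, mul_inv_eq_iff_eq_mul] at h1
    exact h1
  obtain ⟨K, hK, hXK⟩ : ∃ K : Subgroup G, IsComponentOf K ⊤ ∧ ¬ X ≤ Ce K := by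
    by_contra c
    push Not at c
    exact h.nt (H29.DPF.jobFs G h.str.nd ⊤ X h.str.o2 le_top h.X2 hXC c)
  refine ⟨K, hK, hXK, ?_⟩
  by_contra yK
  have cm := (h.str.cm K hK).2
  have XN : X ≤ No K := fun x hx =>
    cm.two x (mem_top x) (h.X2.to_le (zpowers_le.2 hx))
  obtain ⟨-, hp⟩ := H18.DPCPr.jobPr G K cm.sm.cen cm.inn
  obtain ⟨-, p2, -, pb, -⟩ := hp X XN
  have yyyy : y * y * (y * y) = y := by
    calc y * y * (y * y) = y ^ 3 * y := by simp only [pow_succ, pow_zero, one_mul, mul_assoc]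
      _ = y := by rw [y3, one_mul]
  have cK : ∀ {k c : G}, k ∈ K → c ∈ Ce K → Commute k c := fun hk hc =>
    mem_centralizer_iff.1 hc _ hk
  have cp : H14.CP K ⊤ := H14.cp_iff.2 hK
  have tn : ∀ g : G, g ∈ normalizer ((⊤ : Subgroup G) : Set G) := fun g =>
    le_normalizer (mem_top g)
  have cen : ∀ g : G, g ∉ No K → ∀ w ∈ K, g * w * g⁻¹ ∈ Ce K := by
    intro g hg w hw
    rcases cp.eq_or_commute (cp.cj_of_mem_normalizer (tn g)) with e | e
    · exact absurd (cj_eq_self_iff.1 e.symm) hg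
    · rw [commutator_comm, commutator_eq_bot_iff_le_centralizer] at e
      exact e (conj_mem_cj hw)
  have yyK : y * y ∉ No K := fun hh => yK (yyyy ▸ mul_mem hh hh)
  have hle : pr K X ≤ K := inf_le_left
  have hKn : K ≤ No (pr K X) := by
    intro w hw
    have m2 := cen y yK w hw
    have m3 := cen (y * y) yyK w hw
    have c12 := cK hw m2
    have c13 := cK hw m3
    have dy : Commute (w * (y * w * y⁻¹) * (y * y * w * (y * y)⁻¹)) y := by
      have e1 : y * (w * (y * w * y⁻¹) * (y * y * w * (y * y)⁻¹)) * y⁻¹ =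
          (y * w * y⁻¹) * (y * y * w * (y * y)⁻¹) * (y ^ 3 * w * (y ^ 3)⁻¹) := by
        simp only [pow_succ, pow_zero, one_mul]; group
      rw [y3, one_mul, inv_one, mul_one, ← (c12.mul_right c13).eq, mul_inv_eq_iff_eq_mul,
        ← mul_assoc w (y * w * y⁻¹) (y * y * w * (y * y)⁻¹)] at e1
      exact e1.symm
    have dN : w * (y * w * y⁻¹) * (y * y * w * (y * y)⁻¹) ∈ No K :=
      mul_mem (mul_mem (le_normalizer hw) (centralizer_le_normalizer _ m2))
        (centralizer_le_normalizer _ m3)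
    have dX : w * (y * w * y⁻¹) * (y * y * w * (y * y)⁻¹) ∈ No X :=
      h.cX (mem_centralizer_singleton_iff.2 dy)
    have dP : w * (y * w * y⁻¹) * (y * y * w * (y * y)⁻¹) ∈ No (pr K X) := by
      have a1 : zpowers (w * (y * w * y⁻¹) * (y * y * w * (y * y)⁻¹)) ≤ No K := zpowers_le.2 dN
      have a2 : zpowers (w * (y * w * y⁻¹) * (y * y * w * (y * y)⁻¹)) ≤ No X := zpowers_le.2 dX
      exact le_normalizer_inf a1 (le_normalizer_sup a2 (le_normalizer_centralizer a1))
        (mem_zpowers _)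
    have mP : (y * w * y⁻¹) * (y * y * w * (y * y)⁻¹) ∈ No (pr K X) :=
      centralizer_le_normalizer _ (centralizer_le (SetLike.coe_subset_coe.2 hle) (mul_mem m2 m3))
    have := mul_mem dP (inv_mem mP)
    rwa [mul_assoc w, mul_inv_cancel_right] at this
  rcases cm.sm.simple _ hle hKn with e | e
  · exact hXK (pb e)
  · obtain ⟨-, -, w, hw, -, -, o3, -⟩ := cm.sm.loc
    have h2 := p2 2 h.X2
    rw [e] at h2
    obtain ⟨k, hk⟩ := isPGroup_iff_forall.1 h2 w hw
    have := orderOf_dvd_of_pow_eq_one hk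
    rw [o3] at this
    exact absurd (Nat.prime_three.dvd_of_dvd_pow this) (by norm_num)

end H52.DNAS2
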