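/- Tower A12: the jobs RB2, RB3 and YD. -/
import Cfsg.Agent.H51.A12Spec

set_option autoImplicit false

namespace H52.A12RB

open H51.X12 H20.X16.BV Cfsg Subgroup H98 H1.Gold Function
open H20.X16 (BV pw)

universe u

variable {G : Type u} [Group G] {φ : M →* G}

theorem nor_of_dec {U V : Subgroup M} (h : ∀ m ∈ U, ∀ x ∈ V, m * x * m⁻¹ ∈ V) : U ≤ nor V := by
  intro m hm
  apply mem_normalizer_of_cj_le
  rintro _ ⟨x, hx, rfl⟩
  exact h m hm x hx

theorem E_nor (m : M) : m ∈ nor E := by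
  apply mem_normalizer_of_cj_le
  rintro _ ⟨x, hx, rfl⟩
  rw [← range_iE] at hx ⊢
  obtain ⟨y, rfl⟩ := hx
  exact ⟨acE m y, (conj_iE m y).symm⟩

theorem A_nor (m : M) : m ∈ nor A := by
  apply mem_normalizer_of_cj_le
  rintro _ ⟨x, hx, rfl⟩
  rw [← range_iA] at hx ⊢
  obtain ⟨y, rfl⟩ := hx
  exact ⟨_, (conj_iA m y).symm⟩

/-- the normalizer of `E'` in `M` -/
def R3 : Subgroup M :=
  sub (fun x => !(xor (xor (tb x.a 0) (tb x.a 1)) (xor (tb x.a 2) (tb x.a 3)))) (by decide +kernel)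

instance : DecidablePred (· ∈ R3) := inferInstanceAs (DecidablePred (· ∈ sub _ _))

theorem card_R3 : Nat.card R3 = 256 := (card_M _).trans (by decide +kernel)

theorem R3_nor : R3 ≤ nor E' := by
  refine nor_of_dec fun m hm x hx => ?_
  rw [← range_iF] at hx
  obtain ⟨y, rfl⟩ := hx
  exact (by decide +kernel : ∀ m : M, m ∈ R3 → ∀ y, m * iF y * m⁻¹ ∈ E') m hm y

theorem E_R3 : E ≤ R3 := fun x => (by decide +kernel : ∀ x : M, x ∈ E → x ∈ R3) x
theorem E'_R3 : E' ≤ R3 := fun x => (by decide +kernel : ∀ x : M, x ∈ E' → x ∈ R3) x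

instance (U V : Subgroup M) [DecidablePred (· ∈ U)] [DecidablePred (· ∈ V)] :
    DecidablePred (· ∈ U ⊓ V) := fun x => inferInstanceAs (Decidable (x ∈ U ∧ x ∈ V))

theorem c8 : Nat.card (E' ⊓ E : Subgroup M) = 8 := (card_M _).trans (by decide +kernel)
theorem c32 : Nat.card (E ⊓ E : Subgroup M) = 32 := (card_M _).trans (by decide +kernel)
theorem c16 : Nat.card (Bc ⊓ E : Subgroup M) = 16 := (card_M _).trans (by decide +kernel)
theorem c16' : Nat.card (Bk ⊓ E : Subgroup M) = 16 := (card_M _).trans (by decide +kernel)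
theorem c4 : Nat.card (Bs ⊓ E : Subgroup M) = 4 := (card_M _).trans (by decide +kernel)

theorem jobRB2 : JobRB2.{u} := by
  intro ea G _ _ φ c wc zi ⟨y, hy⟩
  have : Fact (Nat.Prime 2) := ⟨Nat.prime_two⟩
  have hR : R3.map φ ≤ nor (E'.map φ) := map_le_normalizer_map φ R3_nor
  obtain ⟨P, hP, hRP⟩ := exists_isSyl_le (c.pg R3) hR
  obtain ⟨g, hg, hgP⟩ := hP.exists_cj_le (isPGroup_cj y (c.pg A)) hy
  obtain ⟨h, -, hh⟩ := c.syl.exists_cj_le hP.isPGroup le_top
  have hE : cj h (E.map φ) = E.map φ :=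
    wc.e.eq h (mem_top _) _ c.syl.isPGroup (map_le_range φ E)
      ((cj_mono h ((map_mono E_R3).trans hRP)).trans hh)
  have hA0 : cj h (cj g (cj y (A.map φ))) ≤ cj h P := cj_mono h hgP
  have hA : cj h (cj g (cj y (A.map φ))) = A.map φ := by
    have := hA0.trans hh
    rw [cj_cj, cj_cj] at this ⊢
    exact wc.a.eq _ (mem_top _) _ c.syl.isPGroup (map_le_range φ A) this
  have hAD : A.map φ ≤ nor (cj h (E'.map φ)) := by
    rw [← hA]
    refine hA0.trans ?_
    unfold nor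
    rw [← cj_normalizer]
    exact cj_mono h hP.le
  have hD : cj h (E'.map φ) ≤ φ.range := (cj_mono h ((map_mono E'_R3).trans hRP)).trans hh
  have key : ∀ (m : M) (X : Subgroup M), cj (φ m) (cj h (E'.map φ)) = X.map φ →
      Nat.card (X ⊓ E : Subgroup M) = 8 := by
    intro m X e
    have e2 : cj (φ m) (cj h (E.map φ)) = E.map φ := by
      rw [hE, ← map_cj, cj_eq_self (E_nor m)]
    rw [← c.card_map, map_inf _ _ _ c.inj, ← e, ← e2, ← cj_inf, ← cj_inf, card_cj, card_cj,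
      ← map_inf _ _ _ c.inj, c.card_map, c8]
  rcases ea.big c hD (by
      rintro _ ⟨_, ⟨x, hx, rfl⟩, rfl⟩
      show h * φ x * h⁻¹ * (h * φ x * h⁻¹) = 1
      rw [conj_mul, ← map_mul, (by decide +kernel : ∀ x : M, x ∈ E' → x * x = 1) x hx]; simp)
    (by rw [card_cj, c.card_map, card_E']) with h1 | ⟨m, h1 | h1 | h1 | h1 | h1⟩
  · obtain ⟨F, hF⟩ := c.indE hE.le
    have h2 : φ (iE (F (el 8))) ∈ A.map φ :=
      h1 ((hF (el 8)).mem (U := E') (by decide +kernel))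
    have h3 : low (F (el 8)) = true :=
      (by decide +kernel : ∀ x, iE x ∈ A → low x = true) _ (c.mem_map.1 h2)
    have h4 := zi h⁻¹ F.symm (hF.inv fun x => F.apply_symm_apply x) _ h3
    rw [F.symm_apply_apply] at h4
    exact absurd h4 (by decide +kernel)
  · have := key m _ h1; rw [c32] at this; omega
  · have := key m _ h1; rw [c16] at this; omega
  · have := key m _ h1; rw [c16'] at this; omega
  · have := key m _ h1; rw [c4] at this; omega
  · have h2 : A.map φ ≤ nor (E'.map φ) := by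
      have := cj_mono (φ m) hAD
      unfold nor at this ⊢
      rwa [cj_normalizer, h1, ← map_cj, cj_eq_self (A_nor m)] at this
    have h3 := conj_mem_of_mem_normalizer
      (h2 (mem_map_of_mem φ (show iA (el 1) ∈ A by decide +kernel)))
      (mem_map_of_mem φ (show cM ∈ E' by decide +kernel))
    rw [← map_inv, ← map_mul, ← map_mul, c.mem_map] at h3
    exact absurd h3 (by decide +kernel)

/-- the transvections with centre `w` -/
def L0 : Subgroup (MulAut (BV 5)) where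
  carrier := {F | F (el 1) = el 1 ∧ ∀ x, F x = x ∨ F x = x * el 1}
  one_mem' := ⟨rfl, fun _ => Or.inl rfl⟩
  mul_mem' := by
    rintro F F' ⟨h1, h2⟩ ⟨h3, h4⟩
    refine ⟨by rw [MulAut.mul_apply, h3, h1], fun x => ?_⟩
    rw [MulAut.mul_apply]
    rcases h4 x with e | e <;> rw [e]
    · exact h2 x
    · rw [map_mul, h1]
      rcases h2 x with e' | e' <;> rw [e']
      · exact Or.inr rfl
      · left; rw [mul_assoc, (by decide +kernel : (el 1 : BV 5) * el 1 = 1), mul_one]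
  inv_mem' := by
    rintro F ⟨h1, h2⟩
    have h0 : F⁻¹ (el 1) = el 1 := by
      rw [MulAut.inv_def, MulEquiv.symm_apply_eq, h1]
    refine ⟨h0, fun x => ?_⟩
    rw [MulAut.inv_def, MulEquiv.symm_apply_eq, MulEquiv.symm_apply_eq, map_mul, h1]
    rcases h2 x with e | e <;> rw [e]
    · exact Or.inl rfl
    · right; rw [mul_assoc, (by decide +kernel : (el 1 : BV 5) * el 1 = 1), mul_one]

theorem L0_sq (F : MulAut (BV 5)) (h : F ∈ L0) : F ^ 2 ^ 1 = 1 := by
  obtain ⟨h1, h2⟩ := h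
  ext x
  rw [pow_one, pow_two, MulAut.mul_apply, MulAut.one_apply]
  rcases h2 x with e | e
  · rw [e, e]
  · rw [e, map_mul, e, h1, mul_assoc, (by decide +kernel : (el 1 : BV 5) * el 1 = 1), mul_one]

theorem L0_conj {t F : MulAut (BV 5)} (ht : t (el 1) = el 1) (h : F ∈ L0) : t * F * t⁻¹ ∈ L0 := by
  obtain ⟨h1, h2⟩ := h
  have h0 : t⁻¹ (el 1) = el 1 := by
    rw [MulAut.inv_def, MulEquiv.symm_apply_eq, ht]
  refine ⟨by rw [MulAut.mul_apply, MulAut.mul_apply, h0, h1, ht], fun x => ?_⟩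
  rw [MulAut.mul_apply, MulAut.mul_apply]
  rcases h2 (t⁻¹ x) with e | e <;> rw [e]
  · left; exact t.apply_symm_apply x
  · right; rw [map_mul, ht]; congr 1; exact t.apply_symm_apply x

theorem R3_syl [Finite G] (c : Sy φ) (na : ¬ NA φ) : IsSyl 2 (R3.map φ) (nor (E'.map φ)) := by
  have : Fact (Nat.Prime 2) := ⟨Nat.prime_two⟩
  have hR : R3.map φ ≤ nor (E'.map φ) := map_le_normalizer_map φ R3_nor
  obtain ⟨P, hP, hRP⟩ := exists_isSyl_le (c.pg R3) hR
  obtain ⟨h, -, hh⟩ := c.syl.exists_cj_le hP.isPGroup le_top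
  rcases hRP.eq_or_lt with e | l
  · rwa [e]
  · exfalso
    have h1 : Nat.card (R3.map φ) ∣ Nat.card P := card_dvd_of_le hRP
    have h2 : Nat.card (R3.map φ) ≠ Nat.card P := fun e =>
      l.ne (eq_of_le_of_card_ge hRP e.ge)
    rw [c.card_map, card_R3] at h1 h2
    have h3 : 0 < Nat.card P := Nat.card_pos
    have h4 : cj h P = φ.range := eq_of_le_of_card_ge hh (by rw [c.card, card_cj]; omega)
    refine na ⟨h⁻¹, le_trans ?_ hP.le⟩
    rw [cj_le_iff, inv_inv, h4]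
    exact map_le_range φ A

theorem jobRB3 : JobRB3.{u} := by
  intro G _ _ φ c na g f hf hw v hv
  have : Fact (Nat.Prime 2) := ⟨Nat.prime_two⟩
  have syl := R3_syl c na
  rw [← range_iF] at syl
  obtain ⟨ρ, hρ⟩ := c.exists_rho iF_inj
  have syl2 := syl.subgroupOf_top.map ρ
  have hL : L0 ⊓ map ρ ⊤ ≤ map ρ ((R3.map φ).subgroupOf (nor (iF.range.map φ))) := by
    refine syl2.le_of_le_normalizer
      (isPGroup_iff_forall.2 fun F hF => ⟨1, L0_sq F hF.1⟩) inf_le_right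
      (le_normalizer_inf ?_ (le_normalizer_of_le syl2.le))
    rintro _ ⟨n, ⟨r, hr, e⟩, rfl⟩
    apply mem_normalizer_of_cj_le
    rintro _ ⟨F, hF, rfl⟩
    refine L0_conj (iF_inj (c.uniq (hρ n (el 1)) ?_)) hF
    have := cj_self φ r (iF (el 1))
    rw [(by decide +kernel : ∀ r : M, r * iF (el 1) * r⁻¹ = iF (el 1)) r, e] at this
    exact this
  have fix : ∀ F ∈ L0 ⊓ map ρ ⊤, F v = v := by
    intro F hF
    obtain ⟨n, ⟨r, hr, e⟩, rfl⟩ := hL hF
    have k : ∀ x, r * iF x * r⁻¹ = iF (ρ n x) := fun x =>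
      c.uniq (cj_self φ r (iF x)) (by rw [e]; exact hρ n x)
    apply iF_inj
    rw [← k]
    refine (by decide +kernel : ∀ r : M, (r * iF (el 2) * r⁻¹ = iF (el 2) ∨
      r * iF (el 2) * r⁻¹ = iF (el 2 * el 1)) → ∀ v, low v = true → r * iF v * r⁻¹ = iF v) r ?_ v hv
    rw [k]
    exact (hF.1.2 (el 2)).imp (congrArg iF) (congrArg iF)
  let g' : nor (iF.range.map φ) := ⟨g, hf.nor⟩
  have hg : ∀ x, ρ g' x = f x := fun x => iF_inj (c.uniq (hρ g' x) (hf x))
  have two : ∀ b : M, b ∈ R3 → (∀ x, b * iF x * b⁻¹ = iF x ∨ b * iF x * b⁻¹ = iF (x * el 1)) →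
      b * iF (f v) * b⁻¹ = iF (f v) := by
    intro b hb h
    let n : nor (iF.range.map φ) := ⟨φ b, syl.le (mem_map_of_mem φ hb)⟩
    have k : ∀ x, b * iF x * b⁻¹ = iF (ρ n x) := fun x => c.uniq (cj_self φ b (iF x)) (hρ n x)
    have h0 : ρ n ∈ L0 := by
      refine ⟨iF_inj ?_, fun x => ?_⟩
      · rw [← k]; exact (by decide +kernel : ∀ r : M, r * iF (el 1) * r⁻¹ = iF (el 1)) b
      · exact (h x).imp (fun e => iF_inj (by rw [← k, e])) (fun e => iF_inj (by rw [← k, e]))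
    have h1 : (ρ g')⁻¹ (el 1) = el 1 := by
      rw [MulAut.inv_def, MulEquiv.symm_apply_eq, hg, hw]
    have h2 := fix _ ⟨L0_conj h1 h0, g'⁻¹ * n * g'⁻¹⁻¹, mem_top _, by
      simp only [map_mul, map_inv]⟩
    rw [inv_inv, MulAut.mul_apply, MulAut.mul_apply, MulAut.inv_def, MulEquiv.symm_apply_eq,
      hg] at h2
    rw [k, h2]
  exact (by decide +kernel : ∀ y, iA (el 3) * iF y * (iA (el 3))⁻¹ = iF y →
    iA (el 5) * iF y * (iA (el 5))⁻¹ = iF y → low y = true) _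
    (two _ (by decide +kernel) (by decide +kernel)) (two _ (by decide +kernel) (by decide +kernel))

theorem jobYD : JobYD.{u} := by
  intro lin G _ _ φ c wc
  have : Fact (Nat.Prime 2) := ⟨Nat.prime_two⟩
  have rk : RK φ := by
    obtain ⟨g, y, h1, h2, h3⟩ := c.thompson kap_mul (v := kM) (by decide +kernel) (by decide +kernel)
    have hE : cj g (E.map φ) = E.map φ := by
      refine wc.e.eq g (mem_top _) _ c.syl.isPGroup (map_le_range φ E) ?_
      rw [MonoidHom.range_eq_map]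
      refine le_of_cj fun x hx => ?_
      obtain ⟨q, hq⟩ := h3 x ((by decide +kernel : ∀ x : M, x ∈ E → x * kM = kM * x) x hx)
      exact ⟨q, mem_top _, hq⟩
    obtain ⟨F, hF⟩ := c.indE hE.le
    refine ⟨g, F, hF, ?_⟩
    have e : iE (el 16) = kM := by decide +kernel
    have := c.uniq h1 (e ▸ hF (el 16))
    rw [← (by decide +kernel : ∀ x, kap (iE x) = tb x 4), ← this, h2]
  refine ⟨rk, fun zi => ?_⟩
  obtain ⟨ρ, hρ⟩ := c.exists_rho iE_inj
  have hle : φ.range ≤ nor (iE.range.map φ) := by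
    rintro _ ⟨m, rfl⟩
    exact (ind_acE φ m).nor
  have val : ∀ (g : G) (f : BV 5 → BV 5) (h : Ind φ iE g f) (x : BV 5), ρ ⟨g, h.nor⟩ x = f x :=
    fun g f h x => iE_inj (c.uniq (hρ ⟨g, h.nor⟩ x) (h x))
  have syl := (c.syl.of_le hle le_top).subgroupOf_top.map ρ
  have e : map ρ (φ.range.subgroupOf (nor (iE.range.map φ))) = acH.range := by
    ext F
    constructor
    · rintro ⟨⟨_, hn⟩, ⟨m, rfl⟩, rfl⟩
      exact ⟨m, MulEquiv.ext fun x => (val _ _ (ind_acE φ m) x).symm⟩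
    · rintro ⟨m, rfl⟩
      exact ⟨⟨φ m, hle ⟨m, rfl⟩⟩, ⟨m, rfl⟩, MulEquiv.ext fun x => val _ _ (ind_acE φ m) x⟩
  rw [e, ← MonoidHom.range_eq_map] at syl
  obtain ⟨ε, lb, full, only⟩ := lin ρ.range syl (by
      rintro _ ⟨n, rfl⟩
      by_contra hn
      rw [not_or, Bool.not_eq_true] at hn
      obtain ⟨m, hm⟩ := (by decide +kernel : ∀ y, y ≠ tE → tb y 4 = false → ∃ m : M, m * m = iE y)
        _ hn.1 hn.2
      have := (hρ n tE).fu
      rw [← hm, (by decide +kernel : iE tE = tM)] at this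
      exact c.nsq m this) (by
      obtain ⟨g, f, h, h'⟩ := rk
      exact ⟨_, ⟨⟨g, h.nor⟩, rfl⟩, by rw [val g f h]; exact h'⟩) (by
      unfold ZI at zi
      push Not at zi
      obtain ⟨g, f, h, x, h1, h2⟩ := zi
      exact ⟨_, ⟨⟨g, h.nor⟩, rfl⟩, x, h1, by rw [val g f h]; simpa using h2⟩)
  refine ⟨ε, lb, fun σ => ?_, fun g f h => ?_⟩
  · obtain ⟨_, ⟨n, rfl⟩, h⟩ := full σ
    exact ⟨n, ρ n, hρ n, h⟩
  · obtain ⟨σ, h'⟩ := only _ ⟨⟨g, h.nor⟩, rfl⟩
    exact ⟨σ, fun I hI => by rw [← val g f h]; exact h' I hI⟩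

end H52.A12RB
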