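import Cfsg.Agent.H63.A8Def
import Cfsg.Agent.H67.SAAB
import Cfsg.Agent.H67.SAST
import Cfsg.Agent.H98.SaA6
import Cfsg.Agent.H76.SAFD

/-! A8S: the slots AB, CU, ST, A6 (clones of the STD-A proofs for `n = 3`, `|F| = 2`). -/

set_option autoImplicit false
set_option linter.unusedSectionVars false

namespace H52.A8AB

open H64.SG (O2 Syl Cz Cs Ns cjs Is2 Inv2 UF IsO2 fx mem_Cs mem_Cz mem_fx)
open H67.SA H63.A8 Matrix H57 Subgroup

universe u

section

variable {n : ℕ} {F : Type} [Field F] [Finite F] {G : Type u} [Group G] {e : SLn n F →* G} {g t : G}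
  {β : Au n F} [CharP F 2] [Finite G]

theorem nr8 (hp : Par8 n F) (C : FC8 n F) (b : B0 e t) : NR e t := by
  rintro _ ⟨p, c, hc, rfl⟩ h1
  have hn := hp.two_le
  obtain ⟨g, hg⟩ := isConj_iff.1 (h1.trans (isConj_iff.2 ⟨(e p)⁻¹, rfl⟩))
  replace hg : g * t * g⁻¹ = e (x 0 (la n) c) := by rw [hg]; simp [mul_assoc]
  have h := b.cje g
  rw [hg] at h
  generalize H67.SA.cje g e = e' at h
  have : (e'.range.subgroupOf (Cz (e (x 0 (la n) c)))).Normal :=
    normal_subgroupOf_of_le_normalizer h.cz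
  have h2 : ∀ u : QQ n F, e u ∈ Cz (e (x 0 (la n) c)) := fun u => mem_Cz.2 (by
    rw [← map_mul, ← map_mul, UU_le_Cs (QQ_le_UU u.2) _ (H67.SA.x_mem_ZZ c)])
  let ρ : QQ n F →* Cz (e (x 0 (la n) c)) := (e.comp (QQ n F).subtype).codRestrict _ h2
  let ψ := (out n F).comp ((indH hn h.ker).comp ((inclusion h.cz).comp ρ))
  let χ := (QuotientGroup.mk' (e'.range.subgroupOf (Cz (e (x 0 (la n) c))))).comp
    (ρ.comp ψ.ker.subtype)
  have i0 : ∀ u : QQ n F, Ind e' (e u) (indH hn h.ker (inclusion h.cz (ρ u))) := fun u =>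
    ind_indH hn h.ker (inclusion h.cz (ρ u))
  have h3 : Nat.card ψ.range ≤ 4 := card_le_four (by
    rintro _ ⟨u, rfl⟩
    let B : Subgroup (RingAut F × Multiplicative (ZMod 2)) :=
      { carrier := {a | a * a = 1}
        one_mem' := by simp
        mul_mem' := fun {a b} ha hb => by
          change a * b * (a * b) = 1
          rw [mul_assoc, ← mul_assoc b, out_comm b, mul_assoc, hb, mul_one, ha]
        inv_mem' := fun {a} ha => by change a⁻¹ * a⁻¹ = 1; rw [← _root_.mul_inv_rev, ha, inv_one] }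
    refine (i0 u).out_mem hn h.ker (B := B) ((QQ_eq (n := n) (F := F) ▸ map_Pat_le.2
      (fun i j _ hs a => ?_) : (QQ n F).map e ≤ oi e' B) ⟨u, u.2, rfl⟩)
    have h4 := i0 ⟨x i j a, QQ_eq (n := n) (F := F) ▸ x_mem_Pat hs a⟩
    exact ⟨_, h4, by
      change _ * _ = 1
      rw [← map_mul, h4.sq hn h.ker (by rw [← map_mul, x_mul_self, map_one]), map_one]⟩)
  have h4 : Nat.card χ.range ≤ 4 := by
    have i1 : IsCyclic χ.range := by
      rw [← MonoidHom.map_range]
      refine h.cyclic hn (((isP_UU.to_le QQ_le_UU).to_subgroup _).of_surjective _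
        (MonoidHom.rangeRestrict_surjective _)) ?_
      rintro _ ⟨u, rfl⟩
      exact ⟨_, i0 u, u.2⟩
    rw [← IsCyclic.exponent_eq_card]
    refine Nat.le_of_dvd (by norm_num) (Monoid.exponent_dvd_of_forall_pow_eq_one ?_)
    rintro ⟨_, u, rfl⟩
    have : u ^ 4 = 1 := Subtype.ext (Subtype.ext (by
      have := sq_ZZ (sq_QQ u.1.2)
      simpa [pow_succ, mul_assoc] using this))
    exact Subtype.ext (by change χ u ^ 4 = 1; rw [← map_pow, this, map_one])
  have h5 : x 0 (la n) c ∉ e'.range.comap e := h.not_mem hn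
  have h6 : QQ n F ⊓ e'.range.comap e ≤ H67.SA.ZZ n F := fun v hv => by
    by_contra h6
    obtain ⟨u, u1, u2⟩ := C.qz v hv.1 h6 _ (H67.SA.x_mem_ZZ c)
    refine h5 (u2 ▸ ?_)
    have i2 : e v ∈ e'.range := hv.2
    have := mul_mem i2 (H98.conj_mem_of_mem_normalizer (h.cz (h2 ⟨u, u1⟩)) (inv_mem i2))
    change e _ ∈ e'.range
    simpa only [map_mul, map_inv, mul_assoc] using this
  have h7 : 2 * Nat.card ↥(QQ n F ⊓ e'.range.comap e) ≤ Nat.card F := by
    rw [← H67.SA.card_ZZ (n := n) (F := F) (by omega), ← card_mul_rel h6, mul_comm]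
    refine Nat.mul_le_mul_left _ (Nat.one_lt_iff_ne_zero_and_ne_one.2
      ⟨index_ne_zero_of_finite, fun h7 => h5 (relIndex_eq_one.1 h7 (H67.SA.x_mem_ZZ c)).2⟩)
  have h8 : Nat.card χ.ker ≤ Nat.card ↥(QQ n F ⊓ e'.range.comap e) :=
    Nat.card_le_card_of_injective (fun a => ⟨a.1.1.1, a.1.1.2,
      (QuotientGroup.eq_one_iff (ρ a.1.1)).1 a.2⟩)
      fun a b e => Subtype.ext (Subtype.ext (Subtype.ext (Subtype.mk.inj e)))
  have h9 := ψ.ker.card_mul_index
  have h10 := χ.ker.card_mul_index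
  rw [index_ker] at h9 h10
  rw [card_QQ (by omega), ← h10] at h9
  have q1 := one_lt_card (F := F)
  have h11 : Nat.card F ^ (2 * n - 1) ≤ 8 * Nat.card F := by
    rw [← h9]
    calc _ ≤ Nat.card χ.ker * 4 * 4 := Nat.mul_le_mul (Nat.mul_le_mul_left _ h4) h3
      _ ≤ _ := by omega
  have h12 : 16 ≤ Nat.card F ^ (2 * n - 2) := by
    rw [hp.three, hp.two]
    norm_num
  rw [show 2 * n - 1 = 2 * n - 2 + 1 by omega, pow_succ] at h11
  have := Nat.le_of_mul_le_mul_right h11 (by omega)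
  omega

end

theorem jobAB (hC : J8FC) : J8AB.{u} := by
  intro n F _ _ _ hp G _ _ e t
  have hn := hp.two_le
  refine ⟨fun h => ?_, fun h => ⟨fun y y1 y2 ⟨_, ⟨s, rfl⟩, h1⟩ => ?_, fun P p1 p2 => ?_⟩⟩
  · have : (e.range.subgroupOf (Cz t)).Normal := normal_subgroupOf_of_le_normalizer h.cz
    have h1 := h.odd hn
    refine ⟨fun y hy y2 => ?_, fun N n1 n2 a ha => ?_, fun y hy y2 => ?_, nr8 hp (hC n F hp) h⟩
    · have y1 := H64.SG.O2_le _ hy
      exact (QuotientGroup.eq_one_iff (⟨y, y1⟩ : Cz t)).1 (Is2.eq_one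
        (Is2.map (g := (⟨y, y1⟩ : Cz t)) (y2.imp fun _ e => Subtype.ext e) (QuotientGroup.mk' _))
        (H64.SG.odd_orderOf_of_mem h1 (mem_map_of_mem _ hy)))
    · have h2 := eq_bot_of_odd (N := (N.subgroupOf (Cz t)).map
        (QuotientGroup.mk' (e.range.subgroupOf (Cz t)))) (by
          rw [← map_commutator]
          refine map_mono ?_
          rw [← map_le_map_iff_of_injective (subtype_injective _), map_commutator,
            subgroupOf_map_subtype, inf_eq_left.2 n1]
          exact n2) (h1.of_dvd_nat (card_dvd_of_le (map_mono (comap_mono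
            ((le_O2_of_perfect n2).trans (H64.SG.O2_mono n1))))))
      exact (QuotientGroup.eq_one_iff (⟨a, n1 ha⟩ : Cz t)).1
        (mem_bot.1 (h2.le (mem_map_of_mem (QuotientGroup.mk' _) ha)))
    · have h2 := commutator_mono h.cz h.cz hy
      obtain ⟨β, h3⟩ := exists_ind hn h.ker (commutator_le_self _ h2)
      obtain ⟨s, s1, -, k, k1, -, rfl, -⟩ := h3.inner hn h.ker (h3.out_of_commutator hn h.ker h2) y2
      exact ⟨e s, ⟨s, rfl⟩, s1.map e, by simpa using k1⟩
  · obtain ⟨s, -, -, k, k1, k2, rfl, -⟩ := (ind_conj_iff.2 h1).inner hn h.ker (out_conj hn s) y2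
    have h2 : t * k = k * t := by
      have := mem_Cz.1 y1
      rwa [mul_assoc, ← h.comm, ← mul_assoc, ← mul_assoc, mul_left_inj] at this
    rcases h.eq_or k1 k2 h2 with rfl | rfl
    · exact Or.inl ⟨s, by simp⟩
    · exact Or.inr ⟨s, by rw [← mul_assoc, h.inv.1, one_mul]⟩
  · let ψ := (indH hn h.ker).comp (inclusion (p1.trans h.cz))
    rw [← ψ.ker.card_mul_index, index_ker]
    refine Nat.mul_le_mul ?_ (H76.SAFD.sb hn _ (p2.of_surjective _ ψ.rangeRestrict_surjective))
    rw [← card_map_of_injective P.subtype_injective]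
    refine h.two _ ?_ ((p2.to_subgroup _).map _)
    rintro _ ⟨a, ha, rfl⟩
    exact (mem_ker_indH hn h.ker).1 ha

theorem jobCU : J8CU.{u} := by
  intro n F _ _ _ hp G _ _ e t G₁ hb h
  have hn := hp.two_le
  let A : Option (Fin n) → Subgroup (SLn n F) := fun j => j.elim (UU n F) fun l => Ml n F (l + 1)
  let S : Option (Fin n) → Set G := fun j => {v | ∃ a b c, x a b c ∈ Ns (A j) ∧ v = e (x a b c)}
  have hA : ∀ j, A j ≤ UU n F := fun j => by cases j; exacts [le_rfl, Ml_le_UU _]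
  have hS : ∀ j a b c, x a b c ∈ Ns (A j) → e (x a b c) ∈ closure (⋃ j, S j) := fun j a b c h =>
    subset_closure (Set.mem_iUnion.2 ⟨j, a, b, c, h, rfl⟩)
  have h1 : ∀ a b c, b ≠ 0 → e (x a b c) ∈ closure (⋃ j, S j) := fun a b c h =>
    hS (some ⟨0, by omega⟩) a b c (by
      change _ ∈ Ns (Ml n F 1); rw [Ml_one]; exact Pr_le_Ns (x_mem_Pat (S := fun _ b => b ≠ 0) h c))
  have h2 : ∀ a b c, a ≠ la n → e (x a b c) ∈ closure (⋃ j, S j) := fun a b c h =>
    hS (some ⟨n - 1, by omega⟩) a b c (by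
      change _ ∈ Ns (Ml n F (n - 1 + 1)); rw [Nat.sub_add_cancel (by omega), Ml_n]
      exact Pc_le_Ns (x_mem_Pat (S := fun a _ => a ≠ la n) h c))
  have key := H64.SG.jobK9 h.uf (Cs G₁) e.range none (fun j => (A j).map e) S h.odd
    (H64.SG.Cs_le_Ns _) (h.le.trans le_normalizer) hb.range_le
    (fun l hl g hg => (hg l (h.le hl)).symm) (fun j => map_mono (hA j)) (map_le_range _ _)
    (isP_UU.map e) (by
      rintro j _ ⟨a, b, c, h3, rfl⟩
      exact ⟨⟨_, rfl⟩, by rw [← map_mul, x_mul_self, map_one], map_mem_Ns h3,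
        h.tx _ (x_mul_self ..)⟩)
    (fun j => map_Pat_le.2 fun a b _ hab c => subset_closure ⟨a, b, c, by
      cases j; exacts [le_normalizer (x_mem_UU hab c), UU_le_Ns_Ml _ (x_mem_UU hab c)], rfl⟩)
    (range_le.2 fun a b hab c => by
      by_cases h3 : b = 0
      · by_cases h4 : a = la n
        · have i1 : (⟨1, by omega⟩ : Fin (n + 1)) ≠ 0 := by simp [Fin.ext_iff]
          have i2 : (⟨1, by omega⟩ : Fin (n + 1)) ≠ la n := by simp [Fin.ext_iff]; omega
          rw [← mul_one c, ← x_cm (j := ⟨1, by omega⟩) (fun e => i2 (e.symm.trans h4)) (fun e => i1 (e.trans h3)) hab]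
          simp only [map_mul, map_inv]
          exact mul_mem (mul_mem (mul_mem (h1 _ _ _ i1) (h2 _ _ _ i2)) (inv_mem (h1 _ _ _ i1)))
            (inv_mem (h2 _ _ _ i2))
        · exact h2 a b c h4
      · exact h1 a b c h3)
    (fun j m hm hc => by
      cases j with
      | none =>
        obtain ⟨h3, h4⟩ := h.cM 1 le_rfl (by omega) m hm
          (centralizer_le (map_mono (Ml_le_UU 1)) hc)
        exact ⟨fun h5 => map_mono (Ml_le_UU 1) (h3 h5), h4⟩
      | some l => exact h.cM (l + 1) (by omega) l.2 m hm hc) h.gen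
  refine ⟨h.toEB, fun l l1 l2 => ?_⟩
  have := key (some ⟨l - 1, by omega⟩)
  simp only [A, Option.elim, Nat.sub_add_cancel l1] at this
  exact this

theorem jobST : J8ST.{u} := by
  intro n F _ _ _ hp G _ _ e t b ⟨δ, y, h, h1, h2⟩
  have hn := hp.two_le
  have i0 : e (x 0 (la n) 1) ≠ 1 := fun h => one_ne_zero ((e_x_eq_one b.ker
    (zero_ne_la (by omega))).1 h)
  have two : (2 : F) = 0 := CharTwo.two_eq_zero
  by_cases hr : ∀ r : F, r ^ 2 ≠ δ + 1 * r
  · left
    have : Fact (∀ r : F, r ^ 2 ≠ δ + 1 * r) := ⟨hr⟩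
    have : Finite (QuadraticAlgebra F δ 1) := (QuadraticAlgebra.equivProd δ 1).finite_iff.2 inferInstance
    have : CharP (QuadraticAlgebra F δ 1) 2 := charP_of_injective_algebraMap
      (algebraMap F (QuadraticAlgebra F δ 1)).injective 2
    obtain ⟨Φ, hΦ⟩ := StR.exists_hom (K := QuadraticAlgebra F δ 1) h hn
    have h3 : ∀ s, Φ (SpecialLinearGroup.map (algebraMap F _) s) = e s := fun s =>
      DFunLike.congr_fun (hom_ext (e := Φ.comp (SpecialLinearGroup.map (algebraMap F _))) (e' := e)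
        fun i j hij c => by rw [MonoidHom.comp_apply, map_x, hΦ i j hij, h1 i j hij]) s
    refine ⟨QuadraticAlgebra F δ 1, inferInstance, inferInstance, inferInstance, algebraMap F _,
      starRingAut, Φ, ?_, fun h4 => ?_, RingEquiv.ext star_star, fun a => ⟨fun h4 => ?_, ?_⟩,
      ker_le_of_ne hn ⟨_, h3 _ ▸ i0⟩, h3, fun s => ?_⟩
    · rw [Nat.card_congr (QuadraticAlgebra.equivProd δ 1), Nat.card_prod, pow_two]
    · have := congrArg QuadraticAlgebra.re (RingEquiv.congr_fun h4 QuadraticAlgebra.omega)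
      simp at this
    · have := congrArg QuadraticAlgebra.re h4
      exact ⟨a.re, QuadraticAlgebra.ext (by simp) (by simpa [eq_comm] using this)⟩
    · rintro ⟨c, rfl⟩
      ext <;> simp
    · exact DFunLike.congr_fun (hom_ext (e := cje t Φ) (e' := twe Φ (slField _ _ starRingAut))
        fun i j hij c => by
          rw [cje_apply, twe_apply, slField_x, hΦ i j hij, hΦ i j hij, h2 i j hij]; rfl) s
  · right
    push Not at hr
    obtain ⟨r, hr⟩ := hr
    let ε : QuadraticAlgebra F δ 1 := ⟨r, 1⟩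
    let ε' : QuadraticAlgebra F δ 1 := ⟨r + 1, 1⟩
    have e1 : ε * ε = ε := by
      ext
      · simp only [ε, QuadraticAlgebra.re_mul]; linear_combination hr + δ * two
      · simp only [ε, QuadraticAlgebra.im_mul]; linear_combination r * two
    have e2 : ε' * ε' = ε' := by
      ext
      · simp only [ε', QuadraticAlgebra.re_mul]; linear_combination hr + (δ + r) * two
      · simp only [ε', QuadraticAlgebra.im_mul]; linear_combination (r + 1) * two
    have e3 : ε * ε' = 0 := by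
      ext
      · simp only [ε, ε', QuadraticAlgebra.re_mul, QuadraticAlgebra.re_zero]
        linear_combination hr + (δ + r) * two
      · simp only [ε, ε', QuadraticAlgebra.im_mul, QuadraticAlgebra.im_zero]
        linear_combination (r + 1) * two
    have e4 : ∀ c : F, algebraMap F _ c * ε + algebraMap F _ c * ε' = algebraMap F _ c := fun c => by
      ext
      · simp [ε, ε']; linear_combination c * r * two
      · simp [ε, ε']; linear_combination c * two
    have e5 : ∀ c : F, star (algebraMap F _ c * ε) = algebraMap F _ c * ε' := fun c => by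
      ext
      · simp [ε, ε', mul_add]
      · simp [ε, ε', CharTwo.neg_eq]
    have key : ∀ η : QuadraticAlgebra F δ 1, η * η = η → ∃ φ : SLn n F →* G,
        ∀ i j, i ≠ j → ∀ c, φ (x i j c) = y i j (algebraMap F _ c * η) := fun η hη =>
      StR.exists_hom (y := fun i j c => y i j (algebraMap F _ c * η))
        ⟨fun i j hij a b => by rw [map_add, add_mul, h.add i j hij],
          fun i j k l a1 a2 a3 a4 a b => h.comm i j k l a1 a2 a3 a4 _ _,
          fun i j k a1 a2 a3 a b => by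
            rw [h.mul i j k a1 a2 a3, map_mul]; congr 1
            linear_combination algebraMap F _ a * algebraMap F _ b * hη⟩ hn
    obtain ⟨e₁, k1⟩ := key ε e1
    obtain ⟨e₂, k2⟩ := key ε' e2
    have c1 : ∀ a b, e₁ a * e₂ b = e₂ b * e₁ a := fun a b =>
      (range_le (H := Cz (e₂ b))).2 (fun i j hij c => mem_Cz.2 ((range_le (H := Cz (e₁ (x i j c)))).2
        (fun k l hkl d => mem_Cz.2 (by
          rw [k1 i j hij, k2 k l hkl]; exact h.comm_of_mul hn e1 e3 hij hkl _ _)) ⟨b, rfl⟩ _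
            rfl).symm) ⟨a, rfl⟩ _ rfl |>.symm
    have c2 : ∀ a, e a = e₁ a * e₂ a := fun a => DFunLike.congr_fun (hom_ext (e := e)
      (e' := (e₁.noncommCoprod e₂ c1).comp ((MonoidHom.id _).prod (MonoidHom.id _)))
      fun i j hij c => by
        change _ = e₁ (x i j c) * e₂ (x i j c)
        rw [k1 i j hij, k2 i j hij, ← h.add i j hij, e4, h1 i j hij]) a
    have c3 : ∀ a, t * e₁ a * t⁻¹ = e₂ a := fun a => DFunLike.congr_fun (hom_ext (e := cje t e₁)
      (e' := e₂) fun i j hij c => by rw [cje_apply, k1 i j hij, k2 i j hij, h2 i j hij, e5]) a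
    refine ⟨e₁, e₂, ker_le_of_ne hn ⟨x 0 (la n) 1, fun h3 => i0 ?_⟩, c1, c2, c3⟩
    rw [c2, ← c3, h3]; simp

theorem jobA6 : J8A6.{u} := fun _ _ _ _ _ hp _ _ _ _ _ _ ch pb pc => by
  obtain ⟨z, h⟩ := H98.Sa.C6.exists_z ⟨hp.two_le, ch, pb⟩
  exact h.bl pc

end H52.A8AB
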