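import Cfsg.Agent.H63.A8Def
import Cfsg.Agent.H86.AltAut
import Cfsg.Agent.H98.Basic

/-! A8S, slot KA: the kit of case A. -/

set_option autoImplicit false

namespace H52.A8KA

open Subgroup H63.A8
open H64.SG (Cz Cs Ns Is2 Inv2)

universe u

variable {G : Type u} [Group G] {f : A8 →* G} {t : G}

theorem act_unique (hf : Function.Injective f) {g : G} {σ τ : S8} (h : Act f g σ)
    (h' : Act f g τ) : σ = τ :=
  H86.conjNormal_injective (by simp) (MulEquiv.ext fun a => hf ((h a).symm.trans (h' a)))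

theorem act_exists (hf : Function.Injective f) {g : G} (hg : g ∈ Ns f.range) :
    ∃ σ : S8, Act f g σ := by
  let e : A8 ≃* f.range := MonoidHom.ofInjective hf
  let φ : MulAut A8 := (e.trans (f.range.normalizerMonoidHom ⟨g, hg⟩)).trans e.symm
  obtain ⟨σ, hσ⟩ := H86.exists_conjNormal_eq (by simp) φ (H86.isThreeCycle_aut (by simp) φ)
  refine ⟨σ, fun a => ?_⟩
  rw [hσ]
  exact (congrArg Subtype.val
    (e.apply_symm_apply (f.range.normalizerMonoidHom ⟨g, hg⟩ (e a)))).symm

theorem act_mul {g g' : G} {σ τ : S8} (h : Act f g σ) (h' : Act f g' τ) :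
    Act f (g * g') (σ * τ) := fun a => by
  rw [map_mul, MulAut.mul_apply, ← h, ← h']; group

theorem act_one_iff {g : G} : Act f g 1 ↔ g ∈ Cs f.range := by
  constructor
  · rintro h _ ⟨a, rfl⟩
    have := h a
    rw [map_one, MulAut.one_apply] at this
    exact (mul_inv_eq_iff_eq_mul.mp this).symm
  · intro h a
    rw [map_one, MulAut.one_apply, ← h (f a) ⟨a, rfl⟩, mul_inv_cancel_right]

theorem act_self (a : A8) : Act f (f a) a := fun b => by
  rw [← map_inv, ← map_mul, ← map_mul]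
  exact congrArg f (Subtype.ext rfl)

theorem eq_one_of_cen (hf : Function.Injective f) {a : A8} (h : f a ∈ Cs f.range) : a = 1 :=
  Subtype.ext (act_unique hf (act_self a) (act_one_iff.mpr h))

theorem mul_inv_cen {g : G} {a : A8} (h : Act f g a) : g * (f a)⁻¹ ∈ Cs f.range := by
  have := act_mul h (act_self a⁻¹)
  rw [map_inv, coe_inv, mul_inv_cancel] at this
  exact act_one_iff.mp this

theorem comm {c : G} (hc : c ∈ Cs f.range) (a : A8) : Commute c (f a) := (hc (f a) ⟨a, rfl⟩).symm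

theorem mem_cz {s : G} : s ∈ Cz t ↔ Commute s t := mem_centralizer_singleton_iff

theorem pg_zpowers {c : G} (h : c * c = 1) : IsPGroup 2 (zpowers c) := by
  rintro ⟨_, k, rfl⟩
  refine ⟨1, Subtype.ext ?_⟩
  show (c ^ k) ^ (2 ^ 1) = 1
  rw [pow_one, sq, ← (Commute.refl c).mul_zpow, h, one_zpow]

theorem inv_eq [Finite G] (h : PA f t) {c : G} (hc : c ∈ Cs f.range) (h2 : c * c = 1)
    (hct : Commute c t) : c = 1 ∨ c = t := by
  have := Fact.mk Nat.prime_two
  have hR : IsPGroup 2 (zpowers c ⊔ zpowers t : Subgroup G) :=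
    (pg_zpowers h2).to_sup_of_normal_right' (pg_zpowers h.inv.1)
      (H98.le_normalizer_of_le_centralizer (zpowers_le.mpr (by
        rintro _ ⟨k, rfl⟩
        exact (hct.zpow_right k).symm)))
  have hcy := h.cyc _ (sup_le (zpowers_le.mpr hc) (zpowers_le.mpr h.cen)) hR
  by_contra hne
  push Not at hne
  classical
  have := Fintype.ofFinite (zpowers c ⊔ zpowers t : Subgroup G)
  have h1 := IsCyclic.card_pow_eq_one_le (α := (zpowers c ⊔ zpowers t : Subgroup G)) (n := 2)
    (by norm_num)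
  let c' : (zpowers c ⊔ zpowers t : Subgroup G) := ⟨c, mem_sup_left (mem_zpowers c)⟩
  let t' : (zpowers c ⊔ zpowers t : Subgroup G) := ⟨t, mem_sup_right (mem_zpowers t)⟩
  have h3 : ({1, c', t'} : Finset _).card = 3 :=
    Finset.card_eq_three.mpr ⟨1, c', t', fun e => hne.1 (congrArg Subtype.val e).symm,
      fun e => h.inv.2 (congrArg Subtype.val e).symm, fun e => hne.2 (congrArg Subtype.val e), rfl⟩
  have h4 := Finset.card_le_card (s := {1, c', t'})
    (t := Finset.univ.filter fun a : (zpowers c ⊔ zpowers t : Subgroup G) => a ^ 2 = 1) (by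
      intro x hx
      simp only [Finset.mem_insert, Finset.mem_singleton] at hx
      rw [Finset.mem_filter]
      refine ⟨Finset.mem_univ _, ?_⟩
      rcases hx with rfl | rfl | rfl
      · exact one_pow 2
      · exact Subtype.ext (by rw [sq]; exact h2)
      · exact Subtype.ext (by rw [sq]; exact h.inv.1))
  omega

theorem pa_cj (h : PA f t) (g : G) : PA (cjf g f) (g * t * g⁻¹) := by
  have hr : (cjf g f).range = H98.cj g f.range := MonoidHom.range_comp _ _
  have hc : ∀ x y : G, IsConj (g * x * g⁻¹) (g * y * g⁻¹) → IsConj x y := fun x y e =>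
    ((isConj_iff.mpr ⟨g, rfl⟩).trans e).trans (isConj_iff.mpr ⟨g, rfl⟩).symm
  refine ⟨(MulAut.conj g).injective.comp h.inj, ⟨?_, ?_⟩, ?_, ?_, ?_, ?_, ?_⟩
  · calc g * t * g⁻¹ * (g * t * g⁻¹) = g * (t * t) * g⁻¹ := by group
      _ = 1 := by rw [h.inv.1, mul_one, mul_inv_cancel]
  · exact fun e => h.inv.2 (conj_eq_one_iff.mp e)
  · rw [hr, Cs, ← H98.cj_centralizer]
    exact H98.conj_mem_cj h.cen
  · intro x hx
    rw [hr, Ns, ← H98.cj_normalizer, H98.mem_cj]
    refine h.cz (mem_cz.mpr ?_)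
    have := (mem_cz.mp hx).map (MulAut.conj g⁻¹)
    simpa [mul_assoc] using this
  · intro R hR h2
    rw [hr, Cs, ← H98.cj_centralizer, H98.le_cj_iff] at hR
    have := h.cyc _ hR (H98.isPGroup_cj _ h2)
    exact (R.equivMapOfInjective (MulAut.conj g⁻¹).toMonoidHom
      (MulAut.conj g⁻¹).injective).isCyclic.mpr this
  · exact fun a ha e => h.nz a ha (hc _ _ e)
  · refine fun a ha e => h.ntz a ha (hc _ _ ?_)
    have e2 : g * (t * f a) * g⁻¹ = g * t * g⁻¹ * (g * f a * g⁻¹) := by group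
    rw [e2]
    exact e

/-- The projection of `P` on `C(L)`. -/
def prj (f : A8 →* G) (P : Subgroup G) : Subgroup G where
  carrier := {c | c ∈ Cs f.range ∧ ∃ a : A8, c * f a ∈ P}
  one_mem' := ⟨one_mem _, 1, by rw [map_one, mul_one]; exact one_mem _⟩
  mul_mem' := by
    rintro c d ⟨hc, a, ha⟩ ⟨hd, b, hb⟩
    refine ⟨mul_mem hc hd, a * b, ?_⟩
    have e : c * d * f (a * b) = c * f a * (d * f b) := by
      rw [map_mul, mul_assoc, mul_assoc, ← mul_assoc d, (comm hd a).eq, mul_assoc]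
    rw [e]
    exact mul_mem ha hb
  inv_mem' := by
    rintro c ⟨hc, a, ha⟩
    refine ⟨inv_mem hc, a⁻¹, ?_⟩
    rw [map_inv, ← mul_inv_rev, ← (comm hc a).eq]
    exact inv_mem ha

theorem jobKA : JKA.{u} := by
  intro G _ _ f t h
  have hft : ∀ a, f a ∈ Cz t := fun a => mem_cz.mpr (comm h.cen a).symm
  refine ⟨?_, act_self, pa_cj h, ?_, ?_, ?_⟩
  · choose π hπ using fun g : Cz t => act_exists h.inj (h.cz g.2)
    refine ⟨MonoidHom.mk' π fun a b => act_unique h.inj (hπ (a * b)) (act_mul (hπ a) (hπ b)),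
      hπ, fun g => ⟨fun e => ?_, fun e => ?_⟩, fun g σ e => act_unique h.inj (hπ g) e⟩
    · have e' : π g = 1 := e
      exact act_one_iff.mp (e' ▸ hπ g)
    · exact act_unique h.inj (hπ g) (act_one_iff.mpr e)
  · intro s hs h2 a ha
    have hc := mul_inv_cen ha
    have haa : a * a = 1 := by
      have e := act_mul ha ha
      rw [h2] at e
      exact Subtype.ext (act_unique h.inj e (act_one_iff.mpr (one_mem _)))
    have hs' : Commute s (f a) := by
      have := (comm hc a).mul_left (Commute.refl (f a))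
      rwa [inv_mul_cancel_right] at this
    have hcc : s * (f a)⁻¹ * (s * (f a)⁻¹) = 1 := by
      rw [← sq, hs'.inv_right.mul_pow, inv_pow, sq, sq, h2, ← map_mul, haa, map_one, inv_one,
        mul_one]
    rcases inv_eq h hc hcc (mem_cz.mp (mul_mem hs (inv_mem (hft a)))) with e | e
    · exact Or.inl (mul_inv_eq_one.mp e)
    · exact Or.inr (mul_inv_eq_iff_eq_mul.mp e)
  · rintro ⟨a, rfl⟩
    exact h.inv.2 (by rw [eq_one_of_cen h.inj h.cen, map_one])
  · intro P hP h2 hin
    have hR : IsPGroup 2 (prj f P) := by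
      rintro ⟨c, hc, a, ha⟩
      obtain ⟨k, hk⟩ := h2 ⟨_, ha⟩
      have e : (c * f a) ^ 2 ^ k = 1 := congrArg Subtype.val hk
      rw [(comm hc a).mul_pow, ← map_pow] at e
      have e1 : f (a ^ 2 ^ k) ∈ Cs f.range := by
        rw [eq_inv_of_mul_eq_one_right e]
        exact inv_mem (pow_mem hc _)
      rw [eq_one_of_cen h.inj e1, map_one, mul_one] at e
      exact ⟨k, Subtype.ext e⟩
    obtain ⟨r, hr⟩ := (h.cyc (prj f P) (fun c hc => hc.1) hR).exists_monoid_generator
    obtain ⟨hr1, a, ha⟩ := r.2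
    refine ⟨r, ?_, hr1, ?_, fun g hg => ?_⟩
    · have := mul_mem (hP ha) (inv_mem (hft a))
      rwa [mul_inv_cancel_right] at this
    · obtain ⟨k, hk⟩ := hR r
      exact ⟨k, congrArg Subtype.val hk⟩
    · obtain ⟨b, hb⟩ := hin g hg
      obtain ⟨k, hk⟩ := hr ⟨g * (f b)⁻¹, mul_inv_cen hb, b, by rwa [inv_mul_cancel_right]⟩
      exact ⟨k, b, mul_inv_eq_iff_eq_mul.mp (congrArg Subtype.val hk).symm⟩

end H52.A8KA
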