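import Cfsg.Agent.H52.Chief

/-! The centralizer of the centre of the Thompson subgroup in a rank one group. -/

set_option autoImplicit false
set_option linter.unusedSectionVars false

namespace H52

open Subgroup Cfsg H98 H96 H13
open scoped commutatorElement

universe u

variable {X : Type u} [Group X] {p q : ℕ} [hp : Fact p.Prime] [Finite X]
  {L T T' A Y B W W₀ : Subgroup X} {g : X}

/-- the centralizer in `T` of the centre of the Thompson subgroup -/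
abbrev jb (T : Subgroup X) : Subgroup X := T ⊓ centralizer (zj 0 T : Set X)

theorem cj_zj (g : X) (T : Subgroup X) : cj g (zj 0 T) = zj 0 (cj g T) :=
  (zj_map (MulAut.conj g).injective.injOn 0).symm

theorem cj_jb (g : X) (T : Subgroup X) : cj g (jb T) = jb (cj g T) := by
  rw [cj_inf, cj_centralizer, cj_zj]

theorem n_zj (T : Subgroup X) : T ≤ normalizer (zj 0 T : Set X) :=
  le_normalizer.trans (normalizer_le_normalizer_zj 0 T)

theorem n_jb (T : Subgroup X) : T ≤ normalizer (jb T : Set X) :=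
  le_normalizer_inf le_normalizer (le_normalizer_centralizer (n_zj T))

theorem zc_le_zj (T : Subgroup X) : zc T ≤ zj 0 T := le_sInf fun _ h => zc_le_maxAb h

theorem le_jb (h : A ∈ maxAb 0 T) : A ≤ jb T :=
  le_inf h.1 ((maxAb_ab h).trans (centralizer_anti (zj_le_of_mem h)))

theorem cj_mem_maxAb (g : X) (h : A ∈ maxAb 0 T) : cj g A ∈ maxAb 0 (cj g T) :=
  map_mem_maxAb (MulAut.conj g).injective.injOn h

theorem mem_maxAb_of_ab (h : A ∈ maxAb 0 T) (h1 : B ≤ T) (h2 : B ≤ centralizer (B : Set X))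
    (h3 : Nat.card A ≤ Nat.card B) : B ∈ maxAb 0 T :=
  mem_maxAb_of_card h h1 (isEA_zero_iff.2 ((H99.isMulCommutative_iff_le_centralizer _).2 h2)) h3

theorem le_of_cent_maxAb (h : A ∈ maxAb 0 T) (h1 : B ≤ T) (h2 : B ≤ centralizer (A : Set X)) : B ≤ A :=
  fun x hx => mem_of_mem_maxAb h (h1 hx) (pow_zero x) (h2 hx)

/-- the centre of the core is a natural module modulo the centre -/
structure Nv (p q : ℕ) (L : Subgroup X) : Prop where
  spr : Spr p q L (Vv p L) (Cv p L)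
  fxz : ∀ T, IsSyl p T L → fx (Vv p L) (Cv p L) T = zc T
  chr : CharP p L

theorem R1.nv (h : R1 p q L) (hc : CharP p L) (hT : IsSyl p T L)
    (hnc : ¬ zc T ≤ centralizer (L : Set X)) (hA : A ∈ maxAb 0 T) (hAQ : ¬ A ≤ pCoreOf p L) :
    Nv p q L :=
  have h1 := h.spr_of_ab hc hT hnc hA.1 hAQ (maxAb_ab hA) (maxAb_max hA)
  ⟨h1.1, h1.2, hc⟩

namespace Nv

variable (h : Nv p q L)
include h

theorem zc_le (hT : IsSyl p T L) : zc T ≤ Vv p L := zc_le_Vv h.chr hT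

theorem comm_le (hT : IsSyl p T L) : ⁅T, Vv p L⁆ ≤ zc T := h.fxz T hT ▸ h.spr.quad T hT

theorem card1 (hT : IsSyl p T L) : Nat.card (Vv p L) = q * Nat.card (zc T) :=
  h.fxz T hT ▸ h.spr.card1 T hT

theorem V_inf_cent (hT : IsSyl p T L) (hA : A ≤ T) (hAQ : ¬ A ≤ pCoreOf p L) :
    Vv p L ⊓ centralizer (A : Set X) = zc T := by
  obtain ⟨a, ha, haQ⟩ := SetLike.not_le_iff_exists.1 hAQ
  refine le_antisymm (fun v hv => h.fxz T hT ▸ h.spr.reg T hT a (hA ha) haQ v hv.1 ?_)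
    (le_inf (h.zc_le hT) (inf_le_right.trans (centralizer_anti hA)))
  rw [comm_eq_one_of_mem ha hv.2]
  exact one_mem _

theorem exists_mul (hT : IsSyl p T L) (hT' : IsSyl p T' L) (e : T ⊔ T' = L) {v : X} (hv : v ∈ Vv p L) :
    ∃ u ∈ zc T, ∃ u' ∈ zc T', v = u * u' := by
  rw [← h.fxz T hT, ← h.fxz T' hT']
  exact h.spr.exists_mul hT hT' e hv

theorem maxAb_spec (hT : IsSyl p T L) (hA : A ∈ maxAb 0 T) (hAQ : ¬ A ≤ pCoreOf p L) :
    A ⊔ pCoreOf p L = T ∧ Vv p L ⊔ A ⊓ pCoreOf p L ∈ maxAb 0 T := by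
  have h1 : Vv p L ≤ centralizer ((A ⊓ pCoreOf p L : Subgroup X) : Set X) :=
    inf_le_right.trans (centralizer_anti inf_le_right)
  have h2 : Vv p L ⊔ A ⊓ pCoreOf p L ≤ T :=
    sup_le ((Vv_le_Q L).trans hT.pCoreOf_le) (inf_le_left.trans hA.1)
  have h3 : Vv p L ⊔ A ⊓ pCoreOf p L ≤
      centralizer ((Vv p L ⊔ A ⊓ pCoreOf p L : Subgroup X) : Set X) := by
    rw [centralizer_sup]
    exact sup_le (le_inf (zc_ab _) h1) (le_inf (le_centralizer_iff.1 h1)
      (inf_le_left.trans ((maxAb_ab hA).trans (centralizer_anti inf_le_left))))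
  have h4 := H12.card_sup_mul_card_inf (le_normalizer_of_le_centralizer h1)
  have h5 : Vv p L ⊓ (A ⊓ pCoreOf p L) = zc T := le_antisymm
    ((inf_le_inf_left _ (inf_le_left.trans (maxAb_ab hA))).trans (h.V_inf_cent hT hA.1 hAQ).le)
    (le_inf (h.zc_le hT) (le_inf (zc_le_maxAb hA) ((h.zc_le hT).trans (Vv_le_Q L))))
  rw [h5, h.card1 hT, mul_right_comm] at h4
  have h6 := Nat.eq_of_mul_eq_mul_right Nat.card_pos h4
  have h7 := H12.card_sup_mul_card_inf (le_normalizer_pCoreOf_of_le (p := p) (hA.1.trans hT.le))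
  have h8 := h.spr.r1.card T hT
  have h9 := maxAb_max hA _ h2 h3
  have h10 : A ⊔ pCoreOf p L ≤ T := sup_le hA.1 hT.pCoreOf_le
  have h11 := card_le_of_le h10
  have h12 : 0 < Nat.card ↥(A ⊓ pCoreOf p L) := Nat.card_pos
  have h13 : 0 < Nat.card (pCoreOf p L) := Nat.card_pos
  refine ⟨eq_of_le_of_card_ge h10 (Nat.le_of_mul_le_mul_right ?_ h12),
    mem_maxAb_of_ab hA h2 h3 (Nat.le_of_mul_le_mul_right ?_ h13)⟩
  · rw [h7, h8, mul_right_comm, ← h6]
    exact Nat.mul_le_mul_right _ h9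
  · rw [← h7, h6, mul_right_comm, ← h8]
    exact Nat.mul_le_mul_right _ h11

theorem zj_le_zj (hT : IsSyl p T L) (hA : A ∈ maxAb 0 T) (hAQ : ¬ A ≤ pCoreOf p L) :
    zj 0 T ≤ zj 0 (pCoreOf p L) :=
  sInf_le_sInf (maxAb_subset (h.maxAb_spec hT hA hAQ).2 hT.pCoreOf_le (sup_le (Vv_le_Q L) inf_le_right))

theorem n_zjV (hT : IsSyl p T L) (hA : A ∈ maxAb 0 T) (hAQ : ¬ A ≤ pCoreOf p L) :
    L ≤ normalizer ((zj 0 T ⊔ Vv p L : Subgroup X) : Set X) := by
  obtain ⟨g, hg, e⟩ := h.spr.r1.exists_opp hT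
  have hT' := hT.cj_of_mem hg
  have hA' := cj_mem_maxAb g hA
  have hAQ' : ¬ cj g A ≤ pCoreOf p L := by
    rwa [← cj_eq_self (self_le_normalizer_pCoreOf L hg), cj_le_cj_iff]
  obtain ⟨h1, h2⟩ := h.maxAb_spec hT' hA' hAQ'
  have h3 := (h.zj_le_zj hT hA hAQ).trans (zj_le_of_mem (mem_maxAb_of_le h2 hT'.pCoreOf_le
    (sup_le (Vv_le_Q L) inf_le_right)))
  have h4 : T ≤ normalizer ((zj 0 T ⊔ Vv p L : Subgroup X) : Set X) :=
    le_normalizer_sup (n_zj T) (hT.le.trans (n_Vv L))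
  have h5 : cj g A ≤ normalizer (Vv p L : Set X) := (hA'.1.trans hT'.le).trans (n_Vv L)
  rw [← e, ← h1]
  conv_rhs => rw [h1, e]
  refine sup_le h4 (sup_le (n_sup_of_comm (le_sup_of_le_right ?_) h5) (hT.pCoreOf_le.trans h4))
  rw [commutator_comm]
  refine (commutator_mono h3 le_rfl).trans ?_
  rw [commutator_sup_centralizer_left (inf_le_left.trans (maxAb_ab hA')) (Or.inl (inf_le_left.trans h5))]
  exact commutator_le_left' h5

theorem zj_le_sup (hT : IsSyl p T L) (hA : A ∈ maxAb 0 T) (hAQ : ¬ A ≤ pCoreOf p L) (hg : g ∈ L)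
    (e : T ⊔ cj g T = L) : zj 0 T ≤ zj 0 T ⊓ zj 0 (cj g T) ⊔ zc T := fun z hz => by
  have h1 := cj_eq_self (h.n_zjV hT hA hAQ hg)
  rw [cj_sup, cj_zj, cj_eq_self (n_Vv L hg)] at h1
  obtain ⟨y, hy, v, hv, rfl⟩ := (mem_sup_left_norm (((zj_le 0 _).trans (hT.cj_of_mem hg).le).trans
    (n_Vv L))).1 (h1.ge (mem_sup_left hz))
  obtain ⟨u', hu', u, hu, rfl⟩ := h.exists_mul (hT.cj_of_mem hg) hT (sup_comm T _ ▸ e) hv
  rw [← mul_assoc] at hz ⊢
  exact mul_mem (mem_sup_left ⟨(mul_mem_cancel_right (zc_le_zj T hu)).1 hz,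
    mul_mem hy (zc_le_zj _ hu')⟩) (mem_sup_right hu)

theorem jb_sup (hT : IsSyl p T L) (hA : A ∈ maxAb 0 T) (hAQ : ¬ A ≤ pCoreOf p L) :
    jb T ⊔ pCoreOf p L = T :=
  le_antisymm (sup_le inf_le_left hT.pCoreOf_le)
    ((h.maxAb_spec hT hA hAQ).1.ge.trans (sup_le_sup_right (le_jb hA) _))

theorem jb_sup' (hT : IsSyl p T L) (hA : A ∈ maxAb 0 T) (hAQ : ¬ A ≤ pCoreOf p L) (hg : g ∈ L) :
    jb (cj g T) ⊔ pCoreOf p L = cj g T := by
  rw [← cj_jb, ← cj_eq_self (self_le_normalizer_pCoreOf L hg), ← cj_sup, h.jb_sup hT hA hAQ]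

theorem comm_zj (hT : IsSyl p T L) (hA : A ∈ maxAb 0 T) (hAQ : ¬ A ≤ pCoreOf p L) :
    ⁅zj 0 T, T⁆ ⊓ zc T ≤ centralizer (L : Set X) := by
  obtain ⟨g, hg, e⟩ := h.spr.r1.exists_opp hT
  have h1 : T ≤ normalizer ((zj 0 T ⊓ zj 0 (cj g T) : Subgroup X) : Set X) :=
    (h.jb_sup hT hA hAQ).ge.trans (sup_le (le_normalizer_of_le_centralizer (inf_le_right.trans
      (centralizer_anti inf_le_left))) (le_normalizer_inf (hT.pCoreOf_le.trans (n_zj T))
      ((hT.cj_of_mem hg).pCoreOf_le.trans (n_zj _))))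
  have h2 : ⁅zj 0 T, T⁆ ≤ zj 0 (cj g T) := by
    refine (commutator_mono (h.zj_le_sup hT hA hAQ hg e) le_rfl).trans ?_
    rw [commutator_sup_centralizer_left inf_le_right (Or.inl (inf_le_left.trans h1))]
    exact (commutator_le_left' h1).trans inf_le_right
  rw [le_centralizer_iff, ← e, ← h.jb_sup' hT hA hAQ hg]
  have h3 := (le_cent_zc T).trans (centralizer_anti (inf_le_right : ⁅zj 0 T, T⁆ ⊓ zc T ≤ _))
  exact sup_le h3 (sup_le (inf_le_right.trans (centralizer_anti (inf_le_left.trans h2)))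
    (hT.pCoreOf_le.trans h3))

theorem jb_syl (hT : IsSyl p T L) (hA : A ∈ maxAb 0 T) (hAQ : ¬ A ≤ pCoreOf p L) (hg : g ∈ L)
    (e : T ⊔ cj g T = L) : L ≤ normalizer ((jb T ⊔ cj g (jb T) : Subgroup X) : Set X) ∧
      IsSyl p (jb T) (jb T ⊔ cj g (jb T)) := by
  have hT' := hT.cj_of_mem hg
  have h1 : pCoreOf p L ≤ normalizer ((jb T ⊔ jb (cj g T) : Subgroup X) : Set X) :=
    le_normalizer_sup (hT.pCoreOf_le.trans (n_jb T)) (hT'.pCoreOf_le.trans (n_jb _))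
  have h2 : L ≤ normalizer ((jb T ⊔ jb (cj g T) : Subgroup X) : Set X) :=
    e.ge.trans (sup_le ((h.jb_sup hT hA hAQ).ge.trans (sup_le (le_normalizer_of_le le_sup_left) h1))
      ((h.jb_sup' hT hA hAQ hg).ge.trans (sup_le (le_normalizer_of_le le_sup_right) h1)))
  rw [cj_jb]
  refine ⟨h2, ?_⟩
  have h3 := hT.inf_of_le_normalizer (sup_le (inf_le_left.trans hT.le) (inf_le_left.trans hT'.le))
    (hT.le.trans h2)
  have h4 : T ⊓ (jb T ⊔ jb (cj g T)) = jb T := by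
    refine le_antisymm ((inf_le_inf_right _ (h.jb_sup hT hA hAQ).ge).trans ?_)
      (le_inf inf_le_left le_sup_left)
    rw [sup_inf_of_le_left (le_normalizer_pCoreOf_of_le (inf_le_left.trans hT.le)) le_sup_left]
    refine sup_le le_rfl (le_inf (inf_le_left.trans hT.pCoreOf_le) (le_trans ?_
      (centralizer_anti (h.zj_le_sup hT hA hAQ hg e))))
    rw [centralizer_sup]
    exact le_inf (inf_le_right.trans (sup_le (inf_le_right.trans (centralizer_anti inf_le_left))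
      (inf_le_right.trans (centralizer_anti inf_le_right))))
      (inf_le_left.trans (hT.pCoreOf_le.trans (le_cent_zc T)))
  rwa [h4] at h3

end Nv

theorem R1.n_jb (h : R1 p q L) (hT : IsSyl p T L) (hnc : ¬ zc T ≤ centralizer (L : Set X))
    (hA : ∀ A ∈ maxAb 0 T, A ≤ pCoreOf p L) : L ≤ normalizer (jb T : Set X) := by
  have h1 : L ≤ normalizer (zj 0 T : Set X) := by
    rw [zj, ← maxAb_eq_of_forall_le hT.pCoreOf_le hA]
    exact (self_le_normalizer_pCoreOf L).trans (normalizer_le_normalizer_zj 0 _)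
  have h2 := h.inf_cent_le hT h1 fun e => hnc ((le_inf (zc_le_zj T) inf_le_right).trans e)
  rw [show jb T = pCoreOf p L ⊓ centralizer (zj 0 T : Set X) from
    le_antisymm (le_inf h2 inf_le_right) (inf_le_inf_right _ hT.pCoreOf_le)]
  exact le_normalizer_inf (self_le_normalizer_pCoreOf L) (le_normalizer_centralizer h1)

/-- the basic trichotomy -/
theorem R1.tri (h : R1 p q L) (hc : CharP p L) (hT : IsSyl p T L) :
    zc T ≤ centralizer (L : Set X) ∨ L ≤ normalizer (jb T : Set X) ∨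
      (Nv p q L ∧ ∃ A ∈ maxAb 0 T, ¬ A ≤ pCoreOf p L) := by
  by_cases h1 : zc T ≤ centralizer (L : Set X)
  · exact Or.inl h1
  by_cases h2 : ∀ A ∈ maxAb 0 T, A ≤ pCoreOf p L
  · exact Or.inr (Or.inl (h.n_jb hT h1 h2))
  push Not at h2
  obtain ⟨A, hA, hAQ⟩ := h2
  exact Or.inr (Or.inr ⟨h.nv hc hT h1 hA hAQ, A, hA, hAQ⟩)

theorem normal_of_cent {N : Subgroup X} (h : N ≤ centralizer ((⊤ : Subgroup X) : Set X)) : N.Normal :=
  normal_of_top_le_normalizer (le_normalizer_of_le_centralizer (le_centralizer_iff.1 h))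

end H52
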