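import Cfsg.Agent.H52.Baum
import Cfsg.Agent.H99.CL

/-! The Chermak-Delgado lattice of a subgroup, inside an ambient group. -/

set_option autoImplicit false
set_option linter.unusedSectionVars false

namespace H52

open Subgroup Cfsg H98 H96 H13
open scoped commutatorElement Pointwise

universe u

variable {X : Type u} [Group X] [Finite X] {T T' O H K A B Y : Subgroup X} {g : X}

/-- the centralizer of `H` in `T` -/
abbrev cz (T H : Subgroup X) : Subgroup X := T ⊓ centralizer (H : Set X)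

/-- the measure of `H` in `T` -/
noncomputable def cm (T H : Subgroup X) : ℕ := Nat.card H * Nat.card (cz T H)

/-- members of the Chermak-Delgado lattice of `T` -/
def CD (T H : Subgroup X) : Prop := H ≤ T ∧ ∀ K ≤ T, cm T K ≤ cm T H

/-- centrally large subgroups of `T` -/
def CL (T H : Subgroup X) : Prop := CD T H ∧ cz T H ≤ H

/-- minimal centrally large subgroups of `T` -/
def MCL (T H : Subgroup X) : Prop := CL T H ∧ ∀ K ≤ H, CL T K → K = H

theorem cz_sup (T H K : Subgroup X) : cz T (H ⊔ K) = cz T H ⊓ cz T K := by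
  rw [cz, centralizer_sup, inf_inf_distrib_left]

theorem cz_anti (h : H ≤ K) : cz T K ≤ cz T H := inf_le_inf_left _ (centralizer_anti h)

theorem cm_map {X' : Type*} [Group X'] {f : X →* X'} (hf : Function.Injective f) (T H : Subgroup X) :
    Nat.card (H.map f) * Nat.card ↥(T.map f ⊓ centralizer (H.map f : Set X')) = cm T H := by
  rw [← map_inf_centralizer hf, card_map_of_injective hf, card_map_of_injective hf, cm]

theorem cm_subtype (Q : Subgroup T) : cm T (Q.map T.subtype) = H99.cdm Q := by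
  rw [cm, cz, ← map_subtype_centralizer, card_map_of_injective T.subtype_injective,
    card_map_of_injective T.subtype_injective, H99.cdm]

theorem exists_subtype (h : H ≤ T) : ∃ Q : Subgroup T, Q.map T.subtype = H :=
  ⟨_, map_subgroupOf_eq_of_le h⟩

theorem cd_iff {Q : Subgroup T} : CD T (Q.map T.subtype) ↔ IsCentralizerLarge Q := by
  refine ⟨fun h => H99.isCentralizerLarge_of_ge ?_, fun h => ⟨map_subtype_le Q, fun K hK => ?_⟩⟩
  · obtain ⟨R, hR⟩ := H99.exists_isCentralizerLarge (G := T)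
    rw [← (H99.isCentralizerLarge_iff R).1 hR, ← cm_subtype, ← cm_subtype]
    exact h.2 _ (map_subtype_le R)
  · obtain ⟨K, rfl⟩ := exists_subtype hK
    rw [cm_subtype, cm_subtype, (H99.isCentralizerLarge_iff Q).1 h]
    exact H99.cdm_le K

theorem cl_iff {Q : Subgroup T} : CL T (Q.map T.subtype) ↔ IsCentrallyLarge Q := by
  rw [CL, cd_iff, H99.isCentrallyLarge_iff, cz, ← map_subtype_centralizer, map_subtype_le_map_subtype]

theorem mcl_iff {Q : Subgroup T} : MCL T (Q.map T.subtype) ↔ IsMinimalCentrallyLarge Q := by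
  refine and_congr cl_iff ⟨fun h K h1 h2 => map_subtype_inj.1 (h _ (map_mono h1) (cl_iff.2 h2)),
    fun h K h1 h2 => ?_⟩
  obtain ⟨K, rfl⟩ := exists_subtype h2.1.1
  rw [h K (map_subtype_le_map_subtype.1 h1) (cl_iff.1 h2)]

namespace CD

theorem le (h : CD T H) : H ≤ T := h.1

theorem of_ge (h : CD T H) (h1 : K ≤ T) (h2 : cm T H ≤ cm T K) : CD T K :=
  ⟨h1, fun B hB => (h.2 B hB).trans h2⟩

theorem cm_eq (h : CD T H) (h' : CD T K) : cm T H = cm T K := le_antisymm (h'.2 H h.1) (h.2 K h'.1)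

theorem sup (h : CD T H) (h' : CD T K) : CD T (H ⊔ K) := by
  obtain ⟨H, rfl⟩ := exists_subtype h.1
  obtain ⟨K, rfl⟩ := exists_subtype h'.1
  rw [← Subgroup.map_sup]
  exact cd_iff.2 (H99.cd_sup (cd_iff.1 h) (cd_iff.1 h'))

theorem inf (h : CD T H) (h' : CD T K) : CD T (H ⊓ K) := by
  obtain ⟨H, rfl⟩ := exists_subtype h.1
  obtain ⟨K, rfl⟩ := exists_subtype h'.1
  rw [← map_inf _ _ _ T.subtype_injective]
  exact cd_iff.2 (H99.cd_inf (cd_iff.1 h) (cd_iff.1 h'))

theorem cent (h : CD T H) : CD T (cz T H) := by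
  obtain ⟨H, rfl⟩ := exists_subtype h.1
  rw [cz, ← map_subtype_centralizer]
  exact cd_iff.2 (H99.cd_centralizer (cd_iff.1 h))

theorem cc (h : CD T H) : cz T (cz T H) = H := by
  obtain ⟨H, rfl⟩ := exists_subtype h.1
  rw [cz, cz, ← map_subtype_centralizer, ← map_subtype_centralizer,
    H99.cd_centralizer_centralizer (cd_iff.1 h)]

theorem cz_inf (h : CD T H) (h' : CD T K) : cz T (H ⊓ K) = cz T H ⊔ cz T K := by
  obtain ⟨H, rfl⟩ := exists_subtype h.1
  obtain ⟨K, rfl⟩ := exists_subtype h'.1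
  rw [← map_inf _ _ _ T.subtype_injective, cz, cz, cz, ← map_subtype_centralizer,
    ← map_subtype_centralizer, ← map_subtype_centralizer, ← Subgroup.map_sup,
    H99.cd_centralizer_inf (cd_iff.1 h) (cd_iff.1 h')]

theorem card_sup (h : CD T H) (h' : CD T K) :
    Nat.card ↥(H ⊔ K) * Nat.card ↥(H ⊓ K) = Nat.card H * Nat.card K := by
  obtain ⟨H, rfl⟩ := exists_subtype h.1
  obtain ⟨K, rfl⟩ := exists_subtype h'.1
  rw [← map_inf _ _ _ T.subtype_injective, ← Subgroup.map_sup]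
  simp only [card_map_of_injective T.subtype_injective]
  exact H99.cd_card_sup (cd_iff.1 h) (cd_iff.1 h')

theorem coe_sup (h : CD T H) (h' : CD T K) : ((H ⊔ K : Subgroup X) : Set X) = (H : Set X) * K :=
  (H99.coe_sup_eq_mul_iff H K).2 (h.card_sup h')

theorem exists_mul (h : CD T H) (h' : CD T K) {x : X} (hx : x ∈ H ⊔ K) : ∃ a ∈ H, ∃ b ∈ K, a * b = x :=
  H99.mem_sup_of_coe_eq_mul (h.coe_sup h') hx

theorem sup_inf (h : CD T H) (h' : CD T K) (hB : H ≤ B) : (H ⊔ K) ⊓ B = H ⊔ K ⊓ B :=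
  H99.sup_inf_of_coe_eq_mul (h.coe_sup h') hB

theorem sup_inf' (h : CD T H) (h' : CD T K) (hB : K ≤ B) : (H ⊔ K) ⊓ B = H ⊓ B ⊔ K :=
  H99.sup_inf_of_coe_eq_mul' (h.coe_sup h') hB

theorem zc_le (h : CD T H) : zc T ≤ H := h.cc ▸ cz_anti inf_le_left

theorem le_of_cz_le (h : CD T H) (h1 : K ≤ T) (h2 : cz T H ≤ centralizer (K : Set X)) : K ≤ H :=
  h.cc ▸ le_inf h1 (le_centralizer_iff.1 h2)

theorem map {X' : Type u} [Group X'] [Finite X'] {f : X →* X'} (hf : Function.Injective f) (h : CD T H) :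
    CD (T.map f) (H.map f) := ⟨map_mono h.1, fun K hK => by
  obtain ⟨K, rfl⟩ := exists_map_eq hK
  rw [cm, cm, cm_map hf, cm_map hf]
  exact h.2 K ((map_le_map_iff_of_injective hf).1 hK)⟩

theorem cj (h : CD T H) (g : X) : CD (cj g T) (cj g H) := h.map (MulAut.conj g).injective

theorem iSup {ι : Sort*} {f : ι → Subgroup X} (h : CD T H) (hf : ∀ i, CD T (H ⊔ f i)) :
    CD T (H ⊔ ⨆ i, f i) := by
  rw [← sSup_range]
  refine H99.sup_sSup_induction (fun Z => H ≤ Z ∧ CD T Z) _ H ⟨le_rfl, h⟩ ?_ |>.2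
  rintro Z ⟨h1, h2⟩ _ ⟨i, rfl⟩
  refine ⟨h1.trans le_sup_left, ?_⟩
  rw [← sup_eq_left.2 h1, sup_assoc]
  exact h2.sup (hf i)

end CD

theorem cm_mono (h : O ≤ T) (H : Subgroup X) : cm O H ≤ cm T H :=
  Nat.mul_le_mul_left _ (card_le_of_le (inf_le_inf_right _ h))

namespace CL

theorem le (h : CL T H) : H ≤ T := h.1.1

theorem cz_eq (h : CL T H) : cz T H = zc H := le_antisymm (le_inf h.2 inf_le_right) (inf_le_inf_right _ h.le)

theorem cm_eq (h : CL T H) : cm T H = cm H H := by rw [cm, h.cz_eq, cm]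

theorem cd_zc (h : CL T H) : CD T (zc H) := h.cz_eq ▸ h.1.cent

theorem cz_zc (h : CL T H) : cz T (zc H) = H := h.cz_eq ▸ h.1.cc

theorem move (hO : CL T O) (hO' : CL T' O) (h : CD T H) (h1 : H ≤ O) (h2 : cz T H ≤ O) :
    CD T' H ∧ cz T' H = cz T H := by
  have h3 : cz T H ≤ cz T' H := le_inf (h2.trans hO'.le) inf_le_right
  have h4 : cm T' O = cm T H := by rw [hO'.cm_eq, ← hO.cm_eq, hO.1.cm_eq h]
  refine ⟨hO'.1.of_ge (h1.trans hO'.le) (h4 ▸ Nat.mul_le_mul_left _ (card_le_of_le h3)),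
    (eq_of_le_of_card_ge h3 (Nat.le_of_mul_le_mul_left ?_ (Nat.card_pos (α := H)))).symm⟩
  exact (hO'.1.2 H (h1.trans hO'.le)).trans h4.le

theorem self (h : CL T O) : CL O O :=
  ⟨⟨le_rfl, fun K hK => (cm_mono h.le K).trans ((h.1.2 K (hK.trans h.le)).trans h.cm_eq.le)⟩, inf_le_left⟩

theorem down (hO : CL T O) (h : CD T H) (h1 : H ≤ O) (h2 : zc O ≤ H) : CD O H ∧ cz O H = cz T H :=
  hO.move hO.self h h1 ((cz_anti h2).trans hO.cz_zc.le)

theorem up (hO : CL T O) (h : CD O H) : CD T H ∧ cz T H = cz O H :=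
  hO.self.move hO h h.1 inf_le_left

theorem move' (hO : CL T O) (hO' : CL T' O) (h : CL T H) (h1 : H ≤ O) : CL T' H :=
  have h2 := hO.move hO' h.1 h1 (h.2.trans h1)
  ⟨h2.1, h2.2 ▸ h.2⟩

theorem of_cm (h : CL T H) (h1 : K ≤ T) (h2 : cm H H ≤ cm K K) : CL T K := by
  have h3 := h.cm_eq ▸ h2
  refine ⟨h.1.of_ge h1 (h3.trans (cm_mono h1 K)), ?_⟩
  exact (eq_of_le_of_card_ge (inf_le_inf_right _ h1 : zc K ≤ cz T K) (Nat.le_of_mul_le_mul_left
    ((h.1.2 K h1).trans h3) (Nat.card_pos (α := K)))).ge.trans inf_le_left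

theorem map {X' : Type u} [Group X'] [Finite X'] {f : X →* X'} (hf : Function.Injective f) (h : CL T H) :
    CL (T.map f) (H.map f) := ⟨h.1.map hf, by
  rw [cz, ← map_inf_centralizer hf]; exact map_mono h.2⟩

theorem cj (h : CL T H) (g : X) : CL (cj g T) (cj g H) := h.map (MulAut.conj g).injective

theorem cj_le (h : CL T H) (h1 : H98.cj g H ≤ T) : CL T (H98.cj g H) :=
  h.of_cm h1 (cm_map (MulAut.conj g).injective H H).ge

theorem of_le (h : CL T H) (h' : CD T K) (h1 : H ≤ K) : CL T K :=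
  ⟨h', (cz_anti h1).trans (h.2.trans h1)⟩

theorem exists_mcl (h : CL T H) : ∃ R, MCL T R ∧ R ≤ H := by
  obtain ⟨H, rfl⟩ := exists_subtype h.le
  obtain ⟨R, h1, h2⟩ := H99.exists_isMinimalCentrallyLarge_le (cl_iff.1 h)
  exact ⟨_, mcl_iff.2 h1, map_mono h2⟩

end CL

theorem CD.cl_cz (h : CD T H) (hab : H ≤ centralizer (H : Set X)) : CL T (cz T H) :=
  ⟨h.cent, h.cc.symm ▸ le_inf h.1 hab⟩

namespace MCL

theorem cj_le (h : MCL T H) (h0 : H ≤ O) (hO : O ≤ T) (hg : g ∈ normalizer (O : Set X)) :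
    MCL T (cj g H) := by
  refine ⟨h.1.cj_le ((cj_le_of_le h0 hg).trans hO), fun K h1 h2 => ?_⟩
  rw [← h.2 (cj g⁻¹ K) (le_cj_iff.1 h1) (h2.cj_le ((le_cj_iff.1 h1).trans h.1.le)), cj_cj_inv]

theorem inf_sup (h : MCL T H) (h' : CL T K) : H ⊓ K ⊔ zc H = H ∧ zc K ⊓ H ≤ zc H := by
  rw [← h.1.cz_eq, ← h'.cz_eq]
  obtain ⟨H, rfl⟩ := exists_subtype h.1.le
  obtain ⟨K, rfl⟩ := exists_subtype h'.le
  obtain ⟨h1, h2⟩ := H99.mcl_inf_sup (mcl_iff.1 h) (cl_iff.1 h')
  rw [cz, cz, ← map_subtype_centralizer, ← map_subtype_centralizer, ← map_inf _ _ _ T.subtype_injective,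
    ← map_inf _ _ _ T.subtype_injective, ← Subgroup.map_sup, h1]
  exact ⟨rfl, map_mono h2⟩

theorem comm_eq (h : MCL T H) (h' : MCL T K) : ⁅H, H⁆ = ⁅K, K⁆ := by
  obtain ⟨H, rfl⟩ := exists_subtype h.1.le
  obtain ⟨K, rfl⟩ := exists_subtype h'.1.le
  rw [← Subgroup.map_commutator, ← Subgroup.map_commutator,
    H99.mcl_commutator_eq_commutator (mcl_iff.1 h) (mcl_iff.1 h')]

theorem card_eq (h : MCL T H) (h' : MCL T K) : Nat.card H = Nat.card K := by
  obtain ⟨H, rfl⟩ := exists_subtype h.1.le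
  obtain ⟨K, rfl⟩ := exists_subtype h'.1.le
  rw [card_map_of_injective T.subtype_injective, card_map_of_injective T.subtype_injective,
    (H99.mcl_card_eq (mcl_iff.1 h) (mcl_iff.1 h')).1]

theorem of_card (h : MCL T H) (h' : CL T K) (h1 : Nat.card K ≤ Nat.card H) : MCL T K := by
  obtain ⟨R, h2, h3⟩ := h'.exists_mcl
  rwa [← eq_of_le_of_card_ge h3 (h1.trans (h.card_eq h2).le)]

end MCL

/-- a subgroup centralizing most of a large abelian subgroup normalizes the commutator of an atom -/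
theorem CL.n_comm_atom (hO : CL T O) (hA : CD T A) (hab : cz T A = A) (hn : A ≤ normalizer (O : Set X))
    (hY : CD O Y) (hat : ∀ H, CD O H → H ≤ Y → H = zc O ∨ H = Y) :
    A ≤ normalizer ((⁅Y, O⁆ : Subgroup X) : Set X) := by
  have h0 : A ≤ centralizer (A : Set X) := hab.ge.trans inf_le_right
  have h1 : ∀ B ≤ A, A ≤ normalizer ((B ⊔ zc O : Subgroup X) : Set X) := fun B hB =>
    le_normalizer_sup (le_normalizer_of_le_centralizer (h0.trans (centralizer_anti hB))) (n_zc hn)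
  have h2 := (hA.inf hO.1).sup hO.cd_zc
  obtain ⟨h3, h4⟩ := hO.down h2 (sup_le inf_le_right inf_le_left) le_sup_right
  rw [cz_sup T, hA.cz_inf hO.1, hab, hO.cz_eq, hO.cz_zc, hA.sup_inf' hO.cd_zc inf_le_left] at h4
  have h5 : A ⊓ O ≤ normalizer (zc O : Set X) := inf_le_left.trans (n_zc hn)
  have h6 : A ⊓ O ⊔ zc O ≤ centralizer ((A ⊓ O : Subgroup X) : Set X) :=
    h4.ge.trans (inf_le_right.trans (centralizer_anti le_sup_left))
  rcases hat _ (h3.inf hY) inf_le_right with e | e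
  · have h7 := h3.cz_inf hY
    rw [e, hO.self.cz_zc, h4] at h7
    have h8 : ⁅Y, O⁆ = ⁅Y, A ⊓ O⁆ := by
      refine le_antisymm (commutator_le.2 fun y hy x hx => ?_) (commutator_mono le_rfl inf_le_right)
      obtain ⟨a, ha, c, hc, rfl⟩ := h3.exists_mul hY.cent (h7.le hx)
      obtain ⟨a, ha', z, hz, rfl⟩ := (mem_sup_left_norm h5).1 ha
      rw [mul_assoc, H9.commutatorElement_mul_right', comm_eq_one_of_mem hy
        (mul_mem (centralizer_anti hY.1 hz.2) hc.2), mul_one, mul_inv_cancel, mul_one]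
      exact commutator_mem_commutator hy ha'
    have h9 : A ≤ normalizer ((Y ⊔ (A ⊓ O ⊔ zc O) : Subgroup X) : Set X) := by
      rw [← (hY.sup h3).cc, cz_sup, h4, inf_comm, sup_inf_of_le_right h5
        (le_inf inf_le_left (inf_le_right.trans (centralizer_anti hY.1)))]
      exact le_normalizer_inf hn (le_normalizer_centralizer (h1 _ (inf_le_left.trans inf_le_left)))
    refine fun a ha => mem_normalizer_of_cj_le ?_
    rw [h8, cj_commutator, cj_eq_self (le_normalizer_inf le_normalizer hn ha)]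
    refine commutator_le.2 fun y hy x hx => ?_
    obtain ⟨y, hy', c, hc, rfl⟩ := hY.exists_mul h3 (cj_le_of_le le_sup_left (h9 ha) hy)
    rw [H9.commutatorElement_mul_left', comm_eq_one_of_mem' (h6 hc) hx, mul_one, mul_inv_cancel, one_mul]
    exact commutator_mem_commutator hy' hx
  · refine H98.le_normalizer_commutator ?_ hn
    rw [← e, sup_inf_of_le_right h5 hY.zc_le]
    exact h1 _ (inf_le_left.trans inf_le_left)

end H52
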