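import Cfsg.Agent.H52.CgK
import Cfsg.Agent.H88.CGKit

/-! CG, job B4: the centralizer of `z 1` normalizes `Q`. -/

set_option autoImplicit false
set_option linter.unusedSectionVars false

namespace H52.CgB

open Subgroup Cfsg H98 H1.Gold H86.L34 H88.AS H88.CG H52.CgK Equiv
open H6 (F4)
open H88.TE (El)
open H52.TeK (mc mc1 two)
open H52.TeS7 (mem_V1)

universe u
variable {G : Type u} [Group G] [Finite G] {s : SG G} {g d q : G} {Q S Y B B' : Subgroup G}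
  {θ : s.M →* Perm (Fin 8)} {x y : V6}

theorem bf_fix (a : AF₁) (hx : th σ₄ x = x) (hy : th σ₄ y = y) :
    bf x y = bf k₁ x * bf k₂ y + bf k₂ x * bf k₁ y := by
  have := qf_fix₄ a (show th σ₄ (x + y) = x + y by rw [a.add, hx, hy])
  rw [qf_add, qf_fix₄ a hx, qf_fix₄ a hy, bf_add, bf_add] at this
  linear_combination this

/-- real fixed vectors of `σ₄` -/
def B₁ (a : AF₁) : AddSubgroup V6 := realS ⊓ a.fix1 σ₄ ⊓ perpS {k₁}
def B₂ (a : AF₁) : AddSubgroup V6 := B₁ a ⊓ perpS {k₂}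

theorem mem_B₁ (a : AF₁) : x ∈ B₁ a ↔ Xs x = x ∧ th σ₄ x = x ∧ bf k₁ x = 0 :=
  ⟨fun h => ⟨h.1.1, h.1.2, h.2 _ rfl⟩, fun h => ⟨⟨h.1, h.2.1⟩, by rintro _ rfl; exact h.2.2⟩⟩

theorem mem_B₂ (a : AF₁) : x ∈ B₂ a ↔ x ∈ B₁ a ∧ bf k₂ x = 0 :=
  and_congr_right' ⟨fun h => h _ rfl, fun h => by rintro _ rfl; exact h⟩

theorem card_B (a : AF₁) : 8 ≤ Nat.card (B₁ a) ∧ 4 ≤ Nat.card (B₂ a) := by
  let f : Bool × Bool × Bool → V6 := fun i => cond i.1 ea 0 + cond i.2.1 (1, 1, 0, 0, 1, 1) 0 + cond i.2.2 k₁ 0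
  have e1 : ∀ i, f i ∈ B₁ a := fun i => (mem_B₁ a).2 (by rw [a.t₄]; revert i; decide)
  have e2 : ∀ i : Bool × Bool, f (i.1, i.2, false) ∈ B₂ a := fun i => (mem_B₂ a).2 ⟨e1 _, by revert i; decide⟩
  have e3 : Function.Injective f := by decide
  refine ⟨?_, ?_⟩
  · simpa using Nat.card_le_card_of_injective (fun i => (⟨f i, e1 i⟩ : B₁ a)) fun i j e =>
      e3 (congrArg Subtype.val e)
  · simpa using Nat.card_le_card_of_injective (fun i => (⟨_, e2 i⟩ : B₂ a)) fun i j e => by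
      simpa [Prod.ext_iff] using e3 (congrArg Subtype.val e)

variable (h : Cg s) (q0 : CQ s Q)
include h q0

theorem zQ (e : F4) : s.z e ∈ Q := zp h e ▸ (q0.re 0 e).2 (by decide)

theorem Qc : Q ≤ cen1 (s.z 1) := fun q m => mem_centralizer_singleton_iff.2 (q0.xs.z_comm q m).symm

theorem nQc : nor Q ≤ cen1 (s.z 1) := fun g m => mc1.2
  ((q0.xs.center _ (conj_mem_of_mem_normalizer m (zQ h q0 1)) fun q hq => by
    have := q0.xs.z_comm _ (conj_mem_of_mem_normalizer' m hq)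
    calc _ = g * (s.z 1 * (g⁻¹ * q * g)) * g⁻¹ := by group
      _ = _ := by rw [this]; group).resolve_left fun c => z1 h (conj_eq_one_iff.1 c))

theorem cZQ : cen s.Z ≤ nor Q := fun _ c => q0.nZ ⟨centralizer_le_normalizer _ c, cZ1 h c⟩

theorem twoQ : IsPGroup 2 Q := isPGroup_iff_forall.2 fun q m => ⟨2, by
  rw [show 2 ^ 2 = 2 * 2 from rfl, pow_mul, sq, sq]
  rcases q0.xs.sq q m with e | e <;> rw [e]
  exacts [one_mul _, z2 h 1]⟩

variable (F : AF) (A : CA s θ)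
include F A

theorem noGW (k : H21.TE.GW (cen1 (s.z 1)) (zpowers (s.z 1)) Q B B') : False := by
  have mv := fun q => mem_V1 (q := q) (z2 h 1)
  have cz : ∀ q ∈ Q, ∀ v ∈ zpowers (s.z 1), Commute q v := fun q m v hv =>
    (mv v).1 hv |>.elim (fun c => c ▸ Commute.one_right q) fun c => c ▸ (q0.xs.z_comm q m).symm
  have cen : ∀ a ∈ B, (∀ b ∈ B, Commute a b) → a ∈ zpowers (s.z 1) := fun a ha c =>
    (mv a).2 (q0.xs.center a (k.le ha) fun q m => by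
      obtain ⟨b, hb, b', hb', rfl⟩ := k.dec q m
      exact (c b hb).mul_right (k.cb hb' a ha))
  have bb : ∀ a ∈ B, a ∈ B' ↔ a ∈ zpowers (s.z 1) := fun a ha =>
    ⟨fun c => cen a ha fun b hb => (k.cb c b hb).symm, fun c => k.vb' c⟩
  have same : ∀ a ∈ B, ∀ b ∈ B, a ∉ zpowers (s.z 1) → b ∉ zpowers (s.z 1) → a * a = b * b :=
    fun a ha b hb n n' => by
      obtain ⟨c, hc, e⟩ := k.tr a ha b hb (mt (bb a ha).1 n) (mt (bb b hb).1 n')
      have m := (bb c hc.1).1 hc.2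
      rw [e, mul_assoc, ← mul_assoc b, (cz b (k.le hb) c m).eq, ← mul_assoc, ← mul_assoc]
      rcases (mv c).1 m with rfl | rfl
      · simp
      · rw [z2 h, one_mul]
  have sq : ∀ a ∈ B, a ∉ zpowers (s.z 1) → a * a = s.z 1 := fun a ha n =>
    (q0.xs.sq a (k.le ha)).resolve_left fun e => n (cen a ha fun b hb => by
      by_cases h1 : b ∈ zpowers (s.z 1)
      · exact cz a (k.le ha) b h1
      by_cases h2 : a * b ∈ zpowers (s.z 1)
      · simpa using (Commute.refl a).inv_right.mul_right (cz a (k.le ha) _ h2)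
      have e1 := (same b hb a ha h1 n).trans e
      have e2 := (same _ (mul_mem ha hb) a ha h2 n).trans e
      rw [commute_iff_eq, ← inv_eq_of_mul_eq_one_right e2, mul_inv_rev, inv_eq_of_mul_eq_one_right e,
        inv_eq_of_mul_eq_one_right e1])
  obtain ⟨a, ha, n, c⟩ : ∃ a ∈ B, a ∉ B' ∧ a ∈ centralizer (s.Z : Set G) := by
    obtain ⟨x, hx, y, hy, nx, ny, nxy⟩ := k.two
    obtain ⟨X, m, -, zw, -⟩ := q0.mv
    have xz := xz_of h (mc1.1 (Qc h q0 m)) zw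
    have e := fun x hx => czx h xz (q0.le (inv_mem (k.le (x := x) hx))).2 (Qc h q0 (inv_mem (k.le hx)))
    rcases e x hx with c | c
    · exact ⟨x, hx, nx, inv_mem_iff.1 c⟩
    rcases e y hy with c' | c'
    · exact ⟨y, hy, ny, inv_mem_iff.1 c'⟩
    · exact ⟨_, mul_mem (inv_mem hx) hy, nxy, by simpa [mul_assoc] using mul_mem c (inv_mem c')⟩
  obtain ⟨v, e, rfl⟩ := (mem_P h).1 (q0.cP ⟨k.le ha, c⟩)
  have qv := z_inj h ((p_sq h v e).symm.trans (sq _ ha (mt (bb _ ha).2 n)))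
  obtain ⟨σ, hσ, π, hπ, b1, b2, b3, b4⟩ := F.orb1 v ((q0.re v e).1 (k.le ha)) qv
  have key : ∀ σ ∈ A8, bf v (th σ v) ≠ 0 → ∃ e', s.p (th σ v) e' ∈ B := fun σ hσ b => by
    obtain ⟨g, -, rfl⟩ := A.sur σ hσ
    obtain ⟨e', d⟩ := A.conj_p h g v e
    have m := conj_mem_cj (g := (g : G)) ha
    rw [d] at m
    exact ⟨e', ((k.cj g ⟨cZ1 h g.2.1, cZQ h q0 g.2.1⟩).resolve_right fun c =>
      b (h.p_comm.1 (k.cb (c m) _ ha))).le m⟩
  obtain ⟨e1, m1⟩ := key σ hσ b1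
  obtain ⟨e2, m2⟩ := key π hπ b2
  have m := mul_mem m1 m2
  rw [p_mul h] at m
  have := sq _ m fun c => b4 (by
    have := (pZ h).1 (zpowers_le.2 (zZ h 1) c)
    rwa [add_eq_zero_iff_eq_neg, v_neg] at this)
  rw [p_sq h, qf_add, F.qf, F.qf, qv, b3] at this
  exact absurd (z_inj h this) (by decide)

variable (hN : nor s.Z ≤ nor s.P) (T : CS s Q S) (b0 : B0 s Q)
include hN T

omit q0 F hN in
theorem fp (t : s.M) (c : IsConj (s.z F4.w) t) (n : θ t ≠ 1) : FP (θ t) := by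
  by_contra f
  obtain ⟨g, e⟩ := isConj_iff.1 c
  rcases A.two2 t (by rw [← e, conj_mul, z2 h]; simp) n f with k | k
  · exact h.noL (e := F4.w) (by decide) (by simpa [← e, mul_assoc] using H88.TE.KI.cj k g⁻¹)
  · exact T.n0 (((isConj_iff.2 ⟨_, h.gr.hz 1⟩).trans c).trans k.symm)

include b0

omit F A hN T in
theorem share (hg : g ∈ cen1 (s.z 1)) (m : g * q * g⁻¹ ∈ Q) (qq : q * q = 1) (m' : q ∈ s.P)
    (n : g ∉ nor Q) : q = 1 ∨ q = s.z 1 := by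
  by_contra! k
  obtain ⟨c, hc, e⟩ := q0.tr _ m (by rw [conj_mul, qq]; simp) (fun e => k.1 (conj_eq_one_iff.1 e)) fun e => k.2 (by
    rwa [← mc1.1 hg, mul_left_inj, mul_right_inj] at e)
  have e' : g⁻¹ * c * s.z F4.w * (g⁻¹ * c)⁻¹ = q := by rw [cj_mul, e]; group
  obtain ⟨c', hc', e2⟩ := q0.tr q (e' ▸ b0 _ (mul_mem (inv_mem hg) (nQc h q0 hc)) (e' ▸ m')) qq k.1 k.2
  have := cZQ h q0 ((mem_cZ' h (g := c⁻¹ * g * c')).2 ⟨mc1.1 (mul_mem (mul_mem (inv_mem (nQc h q0 hc)) hg)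
    (nQc h q0 hc')), by rw [cj_mul, cj_mul, e2, ← e]; group⟩)
  exact n ((mul_mem_cancel_left (inv_mem hc)).1 ((mul_mem_cancel_right hc').1 this))

omit q0 F A T b0 in
theorem back (hg : g ∈ cen1 (s.z 1)) (c : q ∈ cen s.Z) (c' : Commute (g * s.z F4.w * g⁻¹) q) : g⁻¹ * q * g ∈ s.M :=
  have k : g⁻¹ * q * g ∈ cen s.Z := (mem_cZ' h).2 ⟨mc1.1 (mul_mem (mul_mem (inv_mem hg) (cZ1 h c)) hg), by
    calc _ = g⁻¹ * (q * (g * s.z F4.w * g⁻¹)) * q⁻¹ * g := by group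
      _ = _ := by rw [← c'.eq]; group⟩
  ⟨k, hN (centralizer_le_normalizer _ k)⟩

theorem bound (hg : g ∈ cen1 (s.z 1)) (n : g ∉ nor Q) (hY : Y ≤ Q ⊓ s.P) (el : El Y)
    (c : ∀ q ∈ Y, Commute (g * s.z F4.w * g⁻¹) q) : cj g⁻¹ Y ≤ s.M ∧ El (img θ (cj g⁻¹ Y)) ∧
      (∀ σ ∈ img θ (cj g⁻¹ Y), σ ≠ 1 → FP σ) ∧ Nat.card Y ≤ 2 * Nat.card (img θ (cj g⁻¹ Y)) := by
  have e1 : cj g⁻¹ Y ≤ s.M := by
    rintro _ ⟨q, m, rfl⟩
    simpa using back h hN hg (P_cZ h (hY m).2) (c q m)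
  have e2 : ∀ q ∈ cj g⁻¹ Y, g * q * g⁻¹ ∈ Y := fun q m => by simpa using mem_cj.1 m
  have e3 : ∀ q ∈ cj g⁻¹ Y, q * q = 1 := fun q m => by simpa [conj_mul] using el _ (e2 q m)
  refine ⟨e1, A.img_el F.toAF₁ h fun q m => e3 q m ▸ one_mem _, ?_, ?_⟩
  · intro σ m' n1
    obtain ⟨t, m, rfl⟩ := mem_img.1 m'
    obtain ⟨c, -, e⟩ := q0.tr _ (hY (e2 _ m)).1 (el _ (e2 _ m))
      (fun e => n1 (A.θ_P F.toAF₁ h t (conj_eq_one_iff.1 e ▸ one_mem _))) fun e => n1 (A.θ_P F.toAF₁ h t (by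
        rw [← mc1.1 hg, mul_left_inj, mul_right_inj] at e
        exact e ▸ ZP h (zZ h 1)))
    exact fp h A T t (isConj_iff.2 ⟨g⁻¹ * c, by rw [cj_mul, e]; group⟩) n1
  · rw [← card_cj g⁻¹ Y, A.card_img F.toAF₁ h e1 (H15.BG.two_of_sq e3)]
    refine Nat.mul_le_mul_right _ ((card_le_of_le (H := cj g⁻¹ Y ⊓ s.P) (K := zpowers (s.z 1)) fun q m => (mem_V1 (z2 h 1)).2
      (share h q0 b0 hg (hY (e2 q m.1)).1 (e3 q m.1) m.2 n)).trans ?_)
    rw [Nat.card_zpowers, h.gr.z_ord one_ne_zero]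

theorem wk0 (hg : g ∈ cen1 (s.z 1)) (n : g ∉ nor Q) {e : F4} (hx : th σ₄ x = x)
    (hd : g * s.z F4.w * g⁻¹ = s.s0 * s.p x e) : False := by
  have a := F.toAF₁
  have cm : ∀ y e', th σ₄ y = y → bf k₁ x * bf k₂ y + bf k₂ x * bf k₁ y + bf k₁ y ^ 2 = 0 →
      Commute (g * s.z F4.w * g⁻¹) (s.p y e') := fun y e' hy k => mul_inv_eq_iff_eq_mul.1 (by
    rw [hd, cj_mul, p_conj h, h.s0_p a hy, bf_fix a hx hy, add_assoc, k, add_zero])
  have sq : bf k₁ x * (bf k₁ x + bf k₂ x) = 0 := by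
    have e1 : s.s0 * s.p x e * (s.s0 * s.p x e) = 1 := by rw [← hd, conj_mul, z2 h]; simp
    rw [← mul_assoc] at e1
    nth_rewrite 2 [← inv_eq_of_mul_eq_one_right h.s0_sq] at e1
    rw [h.s0_p a hx, ← pz h, mul_assoc,
      (p_cZ h x e _ (zZ h _)), ← mul_assoc, p_sq h, zz h, z_eq_one h, qf_fix₄ a hx] at e1
    linear_combination e1
  have bd := fun (B : AddSubgroup V6) (l : B ≤ B₁ a) (k : ∀ y ∈ B, bf k₁ x * bf k₂ y = 0) =>
    bound h q0 F A hN T b0 hg n (Y := h.pre B) (le_inf (by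
      rintro _ ⟨y, m, e', rfl⟩
      exact (q0.re _ _).2 ((mem_B₁ a).1 (l m)).1) (h.pre_le B)) (by
      rintro _ ⟨y, m, e', rfl⟩
      obtain ⟨-, m1, m2⟩ := (mem_B₁ a).1 (l m)
      rw [p_sq h, qf_fix₄ a m1, m2, zero_mul, z0 h]) (by
      rintro _ ⟨y, m, e', rfl⟩
      obtain ⟨-, m1, m2⟩ := (mem_B₁ a).1 (l m)
      exact cm y e' m1 (by simp [k y m, m2]))
  by_cases x1 : bf k₁ x = 0
  · obtain ⟨-, b1, b2, b3⟩ := bd _ le_rfl fun y _ => by rw [x1, zero_mul]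
    have := F.pure _ A.img_le b1 b2
    have := (card_B a).1
    rw [h.card_pre] at b3
    omega
  obtain ⟨b4, b1, b2, b3⟩ := bd (B₂ a) inf_le_left fun y m => by rw [((mem_B₂ a).1 m).2, mul_zero]
  have b5 := F.pure _ A.img_le b1 b2
  have b6 := (card_B a).2
  rw [h.card_pre] at b3
  obtain ⟨c1, c2, -⟩ := F.pure8 _ A.img_le b1 b2 (by omega)
  have x2 : bf k₂ x = bf k₁ x := by
    have := (mul_eq_zero.1 sq).resolve_left x1
    linear_combination this - bf k₁ x * two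
  generalize bf k₁ x = μ at *
  have y0 : th σ₄ ((μ * F4.w) • k₂ + μ • k₁) = (μ * F4.w) • k₂ + μ • k₁ := by
    rw [a.add, a.smul, a.smul, a.t₄, a.t₄]; rfl
  have y1 : bf k₁ ((μ * F4.w) • k₂ + μ • k₁) = μ * F4.w := by clear * -; revert μ; decide
  have y2 : bf k₂ ((μ * F4.w) • k₂ + μ • k₁) = μ := by clear * -; revert μ; decide
  generalize (μ * F4.w) • k₂ + μ • k₁ = y at y0 y1 y2
  have mw := back h hN hg (p_cZ h y 0) (cm y 0 y0 (by rw [x2, y1, y2]; clear * -; revert μ; decide))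
  have cw : ∀ q ∈ cj g⁻¹ (h.pre (B₂ a)), Commute (g⁻¹ * s.p y 0 * g) q := by
    rintro _ ⟨_, ⟨y', m, e', rfl⟩, rfl⟩
    obtain ⟨m0, m3⟩ := (mem_B₂ a).1 m
    obtain ⟨-, m1, m2⟩ := (mem_B₁ a).1 m0
    simpa using (h.p_comm.2 (by rw [bf_fix a y0 m1, m2, m3]; simp) : Commute (s.p y 0) (s.p y' e')).map (MulAut.conj g⁻¹)
  have el : ∀ q ∈ cj g⁻¹ (h.pre (B₂ a)), q * q = 1 := by
    rintro _ ⟨_, ⟨y', m, e', rfl⟩, rfl⟩
    obtain ⟨-, m1, m2⟩ := (mem_B₁ a).1 ((mem_B₂ a).1 m).1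
    rw [← map_mul, p_sq h, qf_fix₄ a m1, m2, zero_mul, z0 h, map_one]
  have ab : ∀ q ∈ cj g⁻¹ (h.pre (B₂ a)), ∀ q' ∈ cj g⁻¹ (h.pre (B₂ a)), Commute q q' := fun q m q' m' =>
    H15.BG.comm_of_sq el m m'
  have w2 : g⁻¹ * s.p y 0 * g * (g⁻¹ * s.p y 0 * g) = g⁻¹ * s.z (μ * F4.w * μ) * g := by
    rw [← y1, ← y2, ← qf_fix₄ a y0, ← p_sq h y 0]; group
  generalize g⁻¹ * s.p y 0 * g = w at mw cw w2
  obtain ⟨t, m, et⟩ := c1 (x := θ ⟨w, mw⟩) ⟨A.alt _, by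
    rintro _ ⟨t, m, rfl⟩
    rw [← map_mul, ← map_mul]
    exact congrArg θ (Subtype.ext (cw t m).symm.eq)⟩
  have w3 : w * t * (w * t) = w * w := by rw [(cw t m).symm.mul_mul_mul_comm, el t m, mul_one]
  obtain ⟨y', e', d⟩ := (mem_P h).1 (A.k2 (⟨w, mw⟩ * t) (by rw [map_mul, ← et]; exact b1 _ ⟨t, m, rfl⟩) ⟨2, by
    rw [show 2 ^ 2 = 2 * 2 from rfl, pow_mul, pow_two, pow_two, coe_mul, w3, w2]
    simp [mul_assoc, ← mul_assoc (s.z _), z2 h]⟩)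
  have := c2 y' (by
    rintro _ ⟨t', m', rfl⟩
    refine (A.fixes h t' (e := e')).1 ?_
    rw [d, coe_mul, ((cw t' m').mul_left (ab t m t' m')).symm.eq]
    simp)
  have e1 := p_sq h y' e'
  rw [d, coe_mul, w3, w2, this, z0 h, mul_eq_one_iff_inv_eq, mul_inv_rev, inv_inv, mul_eq_right, inv_eq_one,
    z_eq_one h] at e1
  simp [x1] at e1

theorem sh : H21.TE.Sh (cen1 (s.z 1)) (zpowers (s.z 1)) Q
    fun d => ∃ g ∈ cen1 (s.z 1), g * s.z F4.w * g⁻¹ = d where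
  two := twoQ h q0
  le := Qc h q0
  vw := zpowers_le.2 (zQ h q0 1)
  cv := le_centralizer_iff.1 (zpowers_le.2 fun _ c => mem_centralizer_singleton_iff.1 c)
  cm := fun a ha b hb => (q0.xs.comm a ha b hb).elim (fun d => by simp [d]) fun d => by
    rw [d, mul_assoc b, ← q0.xs.z_comm a ha, ← mul_assoc, ← q0.xs.z_comm b hb]; simp
  dc := fun g hg _ ⟨g', m, d⟩ => ⟨g * g', mul_mem hg m, by rw [cj_mul, d]⟩
  gen := q0.gen.trans ((closure_le _).2 fun v ⟨m, vv⟩ => by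
    by_cases v1 : v ∈ zpowers (s.z 1)
    · exact mem_sup_right v1
    obtain ⟨g, hg, d⟩ := q0.tr v m vv (fun d => v1 (d ▸ one_mem _)) fun d => v1 (d ▸ mem_zpowers _)
    exact mem_sup_left (subset_closure ⟨m, g, nQc h q0 hg, d⟩))
  wk := by
    rintro _ m ⟨g, hg, rfl⟩
    by_contra n
    obtain ⟨c, hc, d⟩ := T.cz _ m.2 (by rw [conj_mul, z2 h]; simp)
    rw [← cj_mul] at d
    have k := mul_mem (nQc h q0 hc) hg
    replace n : c * g * s.z F4.w * (c * g)⁻¹ ∉ Q := by rwa [cj_mul, ← mem_normalizer_iff.1 hc]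
    generalize c * g = g at k n d
    have d' : g * s.z F4.w * g⁻¹ ∈ s.M := ⟨d, hN (centralizer_le_normalizer _ d)⟩
    have dd : g * s.z F4.w * g⁻¹ * (g * s.z F4.w * g⁻¹) = 1 := by rw [conj_mul, z2 h]; simp
    have n1 : θ ⟨_, d'⟩ ≠ 1 := fun e => n (b0 g k (A.k2 _ e ⟨1, by rw [pow_one, sq]; exact dd⟩))
    have f := fp h A T ⟨_, d'⟩ (isConj_iff.2 ⟨g, rfl⟩) n1
    obtain ⟨-, π, hπ, e⟩ := ((F.inv _ (A.alt _) (by
      rw [← map_mul, ← map_one θ]; exact congrArg θ (Subtype.ext dd))).resolve_left n1).resolve_left fun c => c.1 f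
    obtain ⟨y, -, rfl⟩ := A.sur π hπ
    rw [← map_inv, ← map_mul, ← map_mul] at e
    obtain ⟨x, e', hx, e1⟩ := A.nf4 _ (by simp only [coe_mul, coe_inv, conj_mul, z2 h]; simp) e
    exact wk0 h q0 F A hN T b0 (mul_mem (cZ1 h y.2.1) k) (fun c => n (conj_mem_of_mem_normalizer
      ((mul_mem_cancel_left (cZQ h q0 y.2.1)).1 c) (zQ h q0 _))) hx ((cj_mul _ _ _).trans e1)

omit h q0 F A hN T b0 in
theorem jobB4 : JobB4.{u} := by
  intro G _ _ s θ Q S F h A hN q0 T b0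
  have sc : S ≤ cen1 (s.z 1) := fun _ m => (T.le m).1.2
  have k := sh h q0 F A hN T b0
  refine (H21.TE.goldW (T.syl.of_le sc le_top) T.qs k.vw k.cv
    (fun x m => (mem_V1 (z2 h 1)).2 (q0.xs.sq x m)) (fun w hw g hg m => k.mem hg hw (zQ h q0 F4.w)
      ⟨1, one_mem _, by simp⟩ (fun c hc d => q0.nZ ⟨mem_normalizer_fintype fun z hz => ?_, hc⟩) ?_)
    fun Y h1 h2 h3 => (A.odd Y h1 h2 (((P_cZ h).trans (cZ1 h)).trans h3)).trans
      (le_centralizer_iff.1 fun q m => (q0.le m).1)).resolve_right fun ⟨_, _, k⟩ => noGW h q0 F A k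
  · have w : c * s.z F4.w * c⁻¹ ∈ s.Z := (mul_mem_cancel_right (inv_mem (zZ h F4.w))).1
      (zpowers_le.2 (zZ h 1) d)
    obtain ⟨e, rfl⟩ := (mem_Z h).1 hz
    cases e
    · simp [show F4.o = 0 from rfl, z0 h]
    · exact (mc1.1 hc).symm ▸ zZ h 1
    · exact w
    · rw [show F4.v = 1 + F4.w from rfl, ← zz h, ← conj_mul, mc1.1 hc]
      exact mul_mem (zZ h 1) w
  · obtain ⟨X, m', xx, zw, -⟩ := q0.mv
    have xz := xz_of h (mc1.1 (Qc h q0 m')) zw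
    generalize g * w * g⁻¹ = t at m
    rcases czx h xz (T.le m).1.1 (sc m) with d | d
    · simp [(mem_cZ h).1 d]
    · have := (mem_cZ h).1 d F4.v
      rw [cj_mul, xz, show F4.v ^ 2 = F4.w from rfl] at this
      rw [this, zi h, zz h]
      exact mem_zpowers _

end H52.CgB
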