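import Cfsg.Agent.H88.CGSpec
import Cfsg.Agent.H52.TeS7

/-! CG: coordinates on `P` for the jobs CQ and B4. -/

set_option autoImplicit false
set_option linter.unusedSectionVars false

namespace H52.CgK

open Subgroup Cfsg H98 H1.Gold H86.L34 H88.AS H88.CG
open H6 (F4)
open H52.TeK (mem_cl mc mc1 two flip rn)
open H52.TeS6 (B Cm)

universe u
variable {G : Type u} [Group G] [Finite G] {s : SG G} {g g' : G} {φ φ' : V6 → V6}

/-- The cocycle of `P`. -/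
def cc (x y : V6) : F4 := x.2.1 * y.1 + x.2.2.1 * y.2.2.2.1 + x.2.2.2.2.2 * y.2.2.2.2.1

theorem cj_mul (a b c : G) : a * b * c * (a * b)⁻¹ = a * (b * c * b⁻¹) * a⁻¹ := by group

theorem xx (x : V6) : x + x = 0 := by ext <;> simp

variable (h : Cg s)
include h

theorem hm : HM s.u := h.g0.hm
theorem rR (c : F4) : s.r c ∈ s.R := (h.gp.mem _).2 ⟨c, rfl⟩
theorem rK (c : F4) : s.r c ∈ s.K := h.gp.syl.le (rR h c)
theorem r0 : s.r 0 = 1 := by simpa using h.gp.add 0 0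
theorem β0 : s.β 0 = 1 := by simpa using h.add 0 0
theorem z0 : s.z 0 = 1 := (hm h).one
theorem v0 : s.v 0 0 = 1 := by simpa [z0 h] using h.g0.vv 0 0 0 0
theorem l0 : s.l 0 = 1 := by simpa using h.g0.ll 0 0
theorem uD (a b e : F4) : s.u a b e ∈ s.D := ⟨h.g0.uA a b e, mc1.2 (by rw [(hm h).conj]; simp)⟩
theorem vD (a b : F4) : s.v a b ∈ s.D := ⟨h.g0.vA a b, mem_centralizer_singleton_iff.2 (h.g0.uv 0 0 1 a b).symm.eq⟩
theorem lD (a : F4) : s.l a ∈ s.D := ⟨h.g0.lA a, mem_centralizer_singleton_iff.2 (h.g0.lu₂ a 0 1).eq⟩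
theorem τD : s.τ ∈ s.D := ⟨h.g0.τA, mc1.2 (by rw [h.g0.τu]; simp)⟩
theorem xD : s.x ∈ s.D :=
  mul_mem (mul_mem (mul_mem (mul_mem (mul_mem (lD h _) (τD h)) (lD h _)) (τD h)) (lD h _)) (τD h)
theorem rA (c : F4) (a : g ∈ s.A) : g * s.r c = s.r c * g := rK h c _ a
theorem βr (x c : F4) : s.β x * s.r c = s.r c * s.z (c * x) * s.β x := by
  rw [← h.βr x c, inv_mul_cancel_right]

theorem up (a b e : F4) : s.u a b e = s.p (0, 0, a, b, 0, 0) e := by simp [SG.p, r0 h, β0 h, v0 h]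
theorem zp (e : F4) : s.z e = s.p 0 e := up h 0 0 e
theorem p0 : s.p 0 0 = 1 := by rw [← zp h]; exact z0 h
theorem rp (c : F4) : s.p (c, 0, 0, 0, 0, 0) 0 = s.r c := by simp [SG.p, β0 h, z0 h, v0 h]
theorem βp (c : F4) : s.p (0, c, 0, 0, 0, 0) 0 = s.β c := by simp [SG.p, r0 h, z0 h, v0 h]
theorem vp (a b : F4) : s.p (0, 0, 0, 0, a, b) 0 = s.v a b := by simp [SG.p, r0 h, z0 h, β0 h]

theorem p_mul (x y : V6) (e e' : F4) : s.p x e * s.p y e' = s.p (x + y) (e + e' + cc x y) := by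
  obtain ⟨c, d, a, b, k, t⟩ := x
  obtain ⟨c', d', a', b', k', t'⟩ := y
  simp only [SG.p, cc, Prod.mk_add_mk]
  have m := mul_mem (uD h a b e) (vD h k t)
  calc _ = s.r c * s.β d * (s.u a b e * s.v k t * s.r c') * s.β d' * s.u a' b' e' * s.v k' t' := by group
    _ = s.r c * (s.β d * s.r c') * (s.u a b e * s.v k t * s.β d') * s.u a' b' e' * s.v k' t' := by
      rw [rA h c' m.1]; group
    _ = s.r c * s.r c' * (s.z (c' * d) * (s.β d * s.β d')) * s.u a b e * (s.v k t * s.u a' b' e') * s.v k' t' := by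
      rw [βr h, ← (h.βD d' _ m).eq]; group
    _ = s.r (c + c') * s.β (d + d') * (s.z (c' * d) * (s.u a b e * s.u a' b' e')) * (s.v k t * s.v k' t') := by
      rw [← h.gp.add, ← h.add, ← (h.βD _ _ (uD h 0 0 _)).eq, ← (h.g0.uv a' b' e' k t).eq]; group
    _ = s.r (c + c') * s.β (d + d') * (s.z (c' * d) * (s.u a b e * s.u a' b' e') * s.z (t * k')) *
        s.v (k + k') (t + t') := by
      rw [h.g0.vv, ← (h.g0.uv 0 0 _ _ _).eq]; group
    _ = _ := by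
      rw [(hm h).mul, (hm h).mul, (hm h).mul]
      congr 2
      exact cg _ (by ring) (by ring) (by ring)

theorem pz (x : V6) (e e' : F4) : s.p x e * s.z e' = s.p x (e + e') := by
  rw [zp h, p_mul h]; simp [cc]

theorem zpm (x : V6) (e e' : F4) : s.z e' * s.p x e = s.p x (e + e') := by
  rw [zp h, p_mul h]; simp [cc, add_comm]

theorem p_sq (x : V6) (e : F4) : s.p x e * s.p x e = s.z (qf x) := by
  rw [p_mul h, xx, zp h, F4.add_self, zero_add, cc, qf, mul_comm x.1, mul_comm x.2.2.2.2.1]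

theorem zz (e e' : F4) : s.z e * s.z e' = s.z (e + e') := by rw [zp h, pz h, zp h]
theorem z2 (e : F4) : s.z e * s.z e = 1 := by rw [zz h, F4.add_self, z0 h]
theorem zi (e : F4) : (s.z e)⁻¹ = s.z e := inv_eq_of_mul_eq_one_right (z2 h e)
theorem z_inj {e e' : F4} (a : s.z e = s.z e') : e = e' := ((hm h).ext a).2.2
theorem z_eq_one {e : F4} : s.z e = 1 ↔ e = 0 :=
  ⟨fun a => z_inj h (a.trans (z0 h).symm), fun a => a ▸ z0 h⟩
theorem z1 : s.z 1 ≠ 1 := fun c => one_ne_zero ((z_eq_one h).1 c)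

theorem p_inv (x : V6) (e : F4) : (s.p x e)⁻¹ = s.p x (e + qf x) := by
  rw [inv_eq_iff_mul_eq_one, ← pz h, ← mul_assoc, p_sq h, z2 h]

theorem p_conj (x y : V6) (e e' : F4) :
    s.p x e * s.p y e' * (s.p x e)⁻¹ = s.p y (e' + bf x y) := by
  rw [mul_inv_eq_iff_eq_mul, p_mul h, p_mul h, add_comm y]
  congr 1
  simp only [cc, bf]
  linear_combination (-(x.1 * y.2.1) - x.2.2.2.1 * y.2.2.1 - x.2.2.2.2.1 * y.2.2.2.2.2) * two

theorem p_one {x : V6} {e : F4} (a : s.p x e = 1) : x = 0 ∧ e = 0 := by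
  obtain ⟨c, d, a', b, k, t⟩ := x
  have h1 := p_conj h (c, d, a', b, k, t) (1, 0, 0, 0, 0, 0) e 0
  rw [a, one_mul, inv_one, mul_one, ← pz h, left_eq_mul, z_eq_one h] at h1
  obtain rfl : d = 0 := by simpa [bf] using h1
  simp only [SG.p, β0 h, mul_one, mul_assoc] at a
  have h2 : s.r c ∈ s.A := eq_inv_of_mul_eq_one_left a ▸ inv_mem (mul_mem (h.g0.uA _ _ _) (h.g0.vA _ _))
  have h3 : s.r c = 1 := mem_bot.1 (h.g1.zk ▸ ⟨h2, rK h c⟩)
  rw [h3, one_mul] at a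
  obtain ⟨rfl, rfl, rfl, rfl, rfl, -⟩ := h.g0.inj a' b e k t 0 (by rw [l0 h, mul_one, a])
  exact ⟨by rw [h.gp.inj c h3]; rfl, rfl⟩

theorem p_ext {x y : V6} {e e' : F4} (a : s.p x e = s.p y e') : x = y ∧ e = e' := by
  have b := mul_inv_eq_one.2 a
  rw [p_inv h, p_mul h] at b
  obtain rfl : x = y := by rw [← add_zero x, ← xx y, ← add_assoc, (p_one h b).1, zero_add]
  refine ⟨rfl, z_inj h (mul_left_cancel (a := s.p x 0) ?_)⟩
  rw [pz h, pz h, zero_add, zero_add, a]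

theorem mem_P : g ∈ s.P ↔ ∃ x e, s.p x e = g := mem_cl (S := {g | ∃ x e, s.p x e = g}) ⟨0, 0, p0 h⟩ (by
  rintro _ ⟨x, e, rfl⟩ _ ⟨y, e', rfl⟩; exact ⟨_, _, (p_mul h x y e e').symm⟩)

theorem pP (x : V6) (e : F4) : s.p x e ∈ s.P := (mem_P h).2 ⟨x, e, rfl⟩

theorem mem_Z : g ∈ s.Z ↔ ∃ e, s.z e = g := mem_cl (S := {g | ∃ e, s.z e = g}) ⟨0, z0 h⟩ (by
  rintro _ ⟨x, rfl⟩ _ ⟨y, rfl⟩; exact ⟨_, (zz h x y).symm⟩)

theorem zZ (e : F4) : s.z e ∈ s.Z := (mem_Z h).2 ⟨e, rfl⟩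

theorem pZ {x : V6} {e : F4} : s.p x e ∈ s.Z ↔ x = 0 := (mem_Z h).trans
  ⟨fun ⟨_, a⟩ => (p_ext h (zp h _ ▸ a)).1.symm, fun a => ⟨e, a ▸ zp h e⟩⟩

theorem mem_cZ : g ∈ cen s.Z ↔ ∀ e, g * s.z e * g⁻¹ = s.z e :=
  mc.trans ⟨fun a e => a _ (zZ h e), fun a x hx => by
    obtain ⟨e, rfl⟩ := (mem_Z h).1 hx; exact a e⟩

theorem p_cZ (x : V6) (e : F4) : s.p x e ∈ cen s.Z := (mem_cZ h).2 fun e' => by
  rw [zp h, p_conj h]; simp [bf]

theorem P_cZ : s.P ≤ cen s.Z := fun g a => by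
  obtain ⟨x, e, rfl⟩ := (mem_P h).1 a; exact p_cZ h x e

theorem ZP : s.Z ≤ s.P := fun g a => by
  obtain ⟨e, rfl⟩ := (mem_Z h).1 a; exact zp h e ▸ pP h _ _

theorem A_cO : s.A ≤ cen s.O := le_centralizer_iff.1 (h.le.trans inf_le_left)

theorem p_cO (x : V6) (e : F4) : s.p x e ∈ cen s.O := mul_mem (mul_mem (mul_mem
  (le_centralizer_iff.1 (h.le.trans inf_le_right) (rR h _)) fun o ho => (h.βO _ o ho).eq.symm)
    (A_cO h (h.g0.uA _ _ _))) (A_cO h (h.g0.vA _ _))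

theorem P_cO : s.P ≤ cen s.O := fun g a => by
  obtain ⟨x, e, rfl⟩ := (mem_P h).1 a; exact p_cO h x e

theorem p4 (x : V6) (e : F4) : s.p x e ^ 4 = 1 := by
  rw [show 4 = 2 * 2 from rfl, pow_mul, sq, sq, p_sq h, z2 h]

theorem twoP : IsPGroup 2 s.P := fun ⟨g, m⟩ => ⟨2, Subtype.ext (by
  obtain ⟨y, e, rfl⟩ := (mem_P h).1 m; exact p4 h y e)⟩

theorem oddO {o : G} (ho : o ∈ s.O) : Odd (orderOf o) := h.odd.of_dvd_nat (orderOf_dvd_natCard _ ho)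

/-- A 2-element `o * p` lies in `P`. -/
theorem two_elt {o : G} (ho : o ∈ s.O) {x : V6} {e : F4} {k : ℕ} (a : (o * s.p x e) ^ 2 ^ k = 1) :
    o = 1 := by
  have c : Commute o (s.p x e) := p_cO h x e o ho
  refine H69.eq_one_of_odd_of_pow_two_pow (oddO h ho) (k := k + 2) ?_
  have := congrArg (· ^ 4) a
  simp only [← pow_mul, one_pow] at this
  rwa [c.mul_pow, mul_comm _ 4, pow_mul (s.p x e), p4 h, one_pow, mul_one, mul_comm 4,
    show 2 ^ k * 4 = 2 ^ (k + 2) by ring] at this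

theorem act_e (a : s.Act g φ) (n : g ∈ nor s.Z) (x : V6) (e : F4) :
    ∃ e', g * s.p x e * g⁻¹ = s.p (φ x) e' := by
  obtain ⟨e1, h1⟩ := a x
  obtain ⟨e2, h2⟩ := (mem_Z h).1 (conj_mem_of_mem_normalizer n (zZ h e))
  exact ⟨e1 + e2, by rw [← pz h, ← h1, h2, conj_mul, pz h, zero_add]⟩

theorem cp_c {x y : V6} {e₀ : F4} (c : g ∈ cen s.Z) (a : g * s.p x 0 * g⁻¹ = s.p y e₀) (e : F4) :
    g * s.p x e * g⁻¹ = s.p y (e₀ + e) := by
  rw [← pz h, ← a, ← (mem_cZ h).1 c e, conj_mul, pz h, zero_add]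

theorem act_mul (a : s.Act g φ) (n : g ∈ nor s.Z) (a' : s.Act g' φ') : s.Act (g * g') (φ ∘ φ') :=
  fun x => by
    obtain ⟨e, h1⟩ := a' x
    obtain ⟨e', h2⟩ := act_e h a n (φ' x) e
    exact ⟨e', by rw [Function.comp, ← h2, ← h1]; group⟩

theorem act_uniq (a : s.Act g φ) (a' : s.Act g φ') (x : V6) : φ x = φ' x := by
  obtain ⟨e, h1⟩ := a x
  obtain ⟨e', h2⟩ := a' x
  exact (p_ext h (h1.symm.trans h2)).1

theorem act_p (x : V6) (e : F4) : s.Act (s.p x e) id := fun y => ⟨_, p_conj h x y e 0⟩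

theorem act_nor (a : s.Act g φ) (n : g ∈ nor s.Z) : g ∈ nor s.P := mem_normalizer_fintype fun x hx => by
  obtain ⟨x, e, rfl⟩ := (mem_P h).1 hx
  obtain ⟨e', b⟩ := act_e h a n x e
  exact b ▸ pP h _ _

theorem z1c (a : g ∈ cen s.Z) : Commute (s.z 1) g := a _ (zZ h 1)

theorem cZ1 : cen s.Z ≤ cen1 (s.z 1) := fun _ a => mem_centralizer_singleton_iff.2 (z1c h a).symm.eq

theorem mem_cZ' : g ∈ cen s.Z ↔ g * s.z 1 * g⁻¹ = s.z 1 ∧ g * s.z F4.w * g⁻¹ = s.z F4.w := by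
  refine (mem_cZ h).trans ⟨fun a => ⟨a _, a _⟩, fun a e => ?_⟩
  cases e
  · simp [show F4.o = 0 from rfl, z0 h]
  · exact a.1
  · exact a.2
  · rw [show F4.v = 1 + F4.w from rfl, ← zz h, ← conj_mul, a.1, a.2]

theorem xz_of {X : G} (b : X * s.z 1 * X⁻¹ = s.z 1) (a : X * s.z F4.w * X⁻¹ = s.z F4.v) (e : F4) :
    X * s.z e * X⁻¹ = s.z (e ^ 2) := by
  cases e
  · exact (show _ = (1 : G) by rw [show F4.o = 0 from rfl, z0 h]; simp).trans (z0 h).symm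
  · exact b
  · exact a
  · rw [show F4.v = 1 + F4.w from rfl, ← zz h, ← conj_mul, a, b, zz h]; rfl

theorem czx {X : G} (xz : ∀ e, X * s.z e * X⁻¹ = s.z (e ^ 2)) (n : g ∈ nor s.Z) (c : g ∈ cen1 (s.z 1)) :
    g ∈ cen s.Z ∨ g * X ∈ cen s.Z := by
  obtain ⟨e, b⟩ := (mem_Z h).1 (conj_mem_of_mem_normalizer n (zZ h F4.w))
  have c := mc1.1 c
  cases e
  · rw [show F4.o = 0 from rfl, z0 h, eq_comm, conj_eq_one_iff, z_eq_one h] at b
    exact absurd b (by decide)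
  · rw [show F4.i = 1 from rfl, ← c, mul_left_inj, mul_right_inj] at b
    exact absurd (z_inj h b) (by decide)
  · exact Or.inl ((mem_cZ' h).2 ⟨c, b.symm⟩)
  · refine Or.inr ((mem_cZ' h).2 ⟨by rw [cj_mul, xz, one_pow, c], ?_⟩)
    rw [cj_mul, xz, show F4.w ^ 2 = 1 + F4.w from rfl, ← zz h, ← conj_mul, c, ← b, zz h]
    rfl

theorem cm_p {y : V6} {e e' : F4} (b : g * s.p y e * g⁻¹ = s.p y e') : Cm (s.z 1) g (s.p y e) ↔ B (e' + e) := by
  unfold Cm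
  rw [b, pz h]
  refine or_congr ⟨fun a => ?_, fun a => ?_⟩ ⟨fun a => ?_, fun a => ?_⟩
  · rw [(p_ext h a).2, F4.add_self]
  · rw [← add_zero e', ← F4.add_self e, ← add_assoc, a, zero_add]
  · rw [(p_ext h a).2, add_right_comm, F4.add_self, zero_add]
  · rw [← add_zero e', ← F4.add_self e, ← add_assoc, a, add_comm]

theorem cm_fix {y y' : V6} {e e' : F4} (b : g * s.p y e * g⁻¹ = s.p y' e') (c : Cm (s.z 1) g (s.p y e)) :
    y' = y := c.elim (fun d => (p_ext h (b.symm.trans d)).1) fun d => (p_ext h (b.symm.trans (d.trans (pz h _ _ _)))).1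

theorem ββ (x : F4) : s.β x * s.β x = 1 := by rw [← h.add, F4.add_self, β0 h]
theorem ww₁ (y : F4) : s.w₁ y * s.w₁ y = 1 := by simp [SG.w₁, conj_mul, ββ h]

theorem w₁u (y a e : F4) : s.w₁ y * s.u a 0 e * (s.w₁ y)⁻¹ = s.u a 0 e := by
  rw [← h.g0.nu, SG.w₁, conj_inv, conj_mul, conj_mul, (h.βD y _ (uD h _ _ _)).eq, mul_inv_cancel_right]

theorem w₁_cZ (y : F4) : s.w₁ y ∈ cen s.Z := (mem_cZ h).2 (w₁u h y 0)

theorem xp (y : V6) (e : F4) : s.x * s.p y e * s.x⁻¹ =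
    s.p (y.1, y.2.1, y.2.2.1, y.2.2.2.1, F4.v * y.2.2.2.2.1, F4.w * y.2.2.2.2.2) e := by
  simp only [SG.p]
  rw [← conj_mul, ← conj_mul, ← conj_mul, h.g0.xv, (h.g0.xu _ _ _).eq, ← (h.βD _ _ (xD h)).eq, rA h _ (xD h).1]
  simp only [mul_inv_cancel_right]

theorem τp (y : V6) : ∃ e', ∀ e, s.τ * s.p y e * s.τ⁻¹ = s.p (Wτ y) (e + e') := by
  obtain ⟨c, d, a, b, k, t⟩ := y
  have e1 : s.τ * s.v 0 t * s.τ⁻¹ = s.v t 0 := by
    rw [← h.g0.τv, ← cj_mul, h.g0.ττ]; simp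
  have e2 : s.v k t = s.v k 0 * s.v 0 t := by simp [h.g0.vv, z0 h]
  refine ⟨a * b + k * t, fun e => ?_⟩
  simp only [SG.p, Wτ]
  rw [e2, ← conj_mul, ← conj_mul, ← conj_mul, ← conj_mul, h.g0.τu, h.g0.τv, e1, h.g0.vv,
    ← (h.βD _ _ (τD h)).eq, rA h _ (τD h).1, ← (h.g0.uv 0 0 _ _ _).eq]
  simp only [mul_inv_cancel_right, zero_add, add_zero]
  rw [mul_assoc _ (s.u b a _), ← mul_assoc (s.u b a _), (hm h).mul]
  simp [add_assoc, mul_assoc]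

end H52.CgK
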