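import Cfsg.Agent.H52.CgK

/-! CG, job CQ: the extraspecial group `Q` of order `2⁹`. -/

set_option autoImplicit false
set_option linter.unusedSectionVars false

namespace H52.CgQ

open Subgroup Cfsg H98 H1.Gold H86.L34 H88.AS H88.CG H52.CgK Equiv
open H6 (F4)
open H52.TeK (mem_cl mc mc1 two flip rn)
open H52.TeS6 (B Cm f1 f2 f4 f5 f6)

universe u
variable {G : Type u} [Group G] [Finite G] {s : SG G} {g g' x j X q q' t z : G} {y y' : V6} {e e' : F4}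
  {θ : s.M →* Perm (Fin 8)} {Q₁ : Subgroup G}

def Fx (y : V6) : Prop := Xs y = y
instance : DecidablePred Fx := fun _ => by unfold Fx; infer_instance

/-- The action of `x`. -/
def Xa (y : V6) : V6 := (y.1, y.2.1, y.2.2.1, y.2.2.2.1, F4.v * y.2.2.2.2.1, F4.w * y.2.2.2.2.2)
def eb : V6 := (0, 0, 0, 1, 0, 0)
def g₁ : V6 := (1, 1, 1, 1, 0, 0)
def g₂ : V6 := (F4.w, F4.v, 1, 1, 0, 0)
def g₃ : V6 := (F4.v, F4.w, 1, 1, 0, 0)
def g₅ : V6 := (0, 0, 0, 0, 1, 1)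
def g₆ : V6 := (0, 0, 0, 0, F4.w, F4.v)
def e₅ : V6 := (0, 0, 0, 0, 1, 0)
def e₆ : V6 := (0, 0, 0, 0, 0, 1)
/-- the first four and the last two coordinates -/
def hd (y : V6) : V6 := (y.1, y.2.1, y.2.2.1, y.2.2.2.1, 0, 0)
def tl (y : V6) : V6 := (0, 0, 0, 0, y.2.2.2.2.1, y.2.2.2.2.2)

section
set_option maxRecDepth 100000
set_option synthInstance.maxSize 4096
theorem d3 : ∀ y : V6, B (bf y g₁) → B (bf y g₂) → B (bf y ea) → B (bf y eb) → B (bf y g₅) → B (bf y g₆) →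
    Fx y := by decide +kernel
theorem d4 : ∀ y : V6, bf y g₁ = 0 → bf y g₂ = 0 → bf y ea = 0 → bf y eb = 0 → hd y = 0 := by decide +kernel
theorem d4' : ∀ y : V6, hd y = 0 → bf y g₅ = 0 → bf y g₆ = 0 → y = 0 := by decide +kernel
theorem d5 : ∀ y : V6, Fx y → Xs (F4.w • y) + F4.w • y = y := by decide +kernel
theorem d8 : ∀ y : V6, Fx y → ∃ x ∈ [0, ea, eb, g₁, g₂, (0, 0, 1, 1, 1, 1), (0, 0, 1, 1, F4.w, F4.v)],
    Fx x ∧ qf x = 0 ∧ qf (x + y) = 0 := by decide +kernel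
theorem d11 : Fintype.card {y : V6 // Fx y} = 64 := by decide +kernel
theorem d12 : Fintype.card {y : V6 // Fx y ∧ qf y = 0} = 36 := by decide +kernel
theorem d13 : ∀ y : V6, Fx y → B (qf y) ∧ Fx (hd y) ∧ Fx (tl y) ∧
    (tl y = 0 ∨ tl y = g₅ ∨ tl y = Xa g₅ ∨ tl y = Xa (Xa g₅)) := by decide +kernel
theorem d15 : ∀ y : V6, Fx y → tl y = 0 → ∃ i j k l : Bool,
    y = cond i g₁ 0 + cond j g₂ 0 + cond k g₃ 0 + cond l ea 0 := by decide +kernel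
theorem d16 : ∀ y : V6, Xa y = y → tl y = 0 := by decide +kernel
end

theorem d14 (y : V6) : Xs (Xs y) = y := by simp [Xs, (by decide : ∀ a : F4, (a ^ 2) ^ 2 = a)]

theorem d17 : ∀ y : V6, Fx (y + F4.w • (Xs y + y)) ∧ Fx (Xs y + y) ∧
    y = y + F4.w • (Xs y + y) + F4.w • (Xs y + y) ∧ (tl y = 0 → tl (y + F4.w • (Xs y + y)) = 0 ∧ tl (Xs y + y) = 0) := by
  rintro ⟨c, d, a, b, s, t⟩
  have k : ∀ c d : F4, (d + F4.w * (c ^ 2 + d)) ^ 2 = c + F4.w * (d ^ 2 + c) := by decide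
  have k' : ∀ c d : F4, (c ^ 2 + d) ^ 2 = d ^ 2 + c := by decide
  refine ⟨?_, ?_, by rw [add_assoc, xx, add_zero], ?_⟩ <;>
    simp only [Fx, Xs, tl, Prod.mk_add_mk, Prod.smul_mk, smul_eq_mul, k, k', Prod.mk_eq_zero, true_and]
  rintro ⟨rfl, rfl⟩
  decide

theorem hd_tl (y : V6) : hd y + tl y = y := by ext <;> simp [hd, tl]

theorem xs_add (x y : V6) : Xs (x + y) = Xs x + Xs y := by
  have : ∀ a b : F4, (a + b) ^ 2 = a ^ 2 + b ^ 2 := by decide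
  simp [Xs, this]

theorem bf_xs (x y : V6) : bf (Xs x) (Xs y) = bf x y ^ 2 := by
  have : ∀ a b : F4, (a + b) ^ 2 = a ^ 2 + b ^ 2 := by decide
  simp only [bf, Xs, this, mul_pow]; ring

theorem bf_add (x y y' : V6) : bf (x + y) y' = bf x y' + bf y y' := by simp only [bf, Prod.fst_add, Prod.snd_add]; ring
theorem bf_comm (x y : V6) : bf x y = bf y x := by simp only [bf]; ring

theorem B_of {a : F4} (h : a ^ 2 = a) : B a := by revert a; decide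
theorem d10 (x : V6) (a : Fx x) (y : V6) (b : Fx y) : B (bf x y) ∧ Fx (x + y) :=
  ⟨B_of (by rw [← bf_xs, a, b]), by rw [Fx, xs_add, a, b]⟩

structure GX (s : SG G) (X : G) : Prop where
  xO : X ∈ cen s.O
  xa : s.Act X Xs
  xz : ∀ e, X * s.z e * X⁻¹ = s.z (e ^ 2)
  xx : X * X = 1
  xq : ∀ y e, Fx y → Cm (s.z 1) X (s.p y e)

variable (h : Cg s)
include h

theorem nZ_of (xz : ∀ e, X * s.z e * X⁻¹ = s.z (e ^ 2)) : X ∈ nor s.Z := mem_normalizer_fintype fun z hz => by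
  obtain ⟨e, rfl⟩ := (mem_Z h).1 hz
  exact xz e ▸ zZ h _

theorem cp_of (xz : ∀ e, X * s.z e * X⁻¹ = s.z (e ^ 2)) (b : X * s.p y 0 * X⁻¹ = s.p y' e') (e : F4) :
    X * s.p y e * X⁻¹ = s.p y' (e' + e ^ 2) := by
  rw [← pz h, ← b, ← xz, conj_mul, pz h, zero_add]

/-- The subgroup `Q₀`. -/
def Q0 : Subgroup G where
  carrier := {g | ∃ y e, Fx y ∧ s.p y e = g}
  one_mem' := ⟨0, 0, by decide, p0 h⟩
  mul_mem' := by
    rintro _ _ ⟨y, e, a, rfl⟩ ⟨y', e', a', rfl⟩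
    exact ⟨_, _, (d10 y a y' a').2, (p_mul h _ _ _ _).symm⟩
  inv_mem' := by
    rintro _ ⟨y, e, a, rfl⟩
    exact ⟨_, _, a, (p_inv h _ _).symm⟩

theorem pQ0 (a : Fx y) (e : F4) : s.p y e ∈ Q0 h := ⟨y, e, a, rfl⟩
theorem zQ0 (e : F4) : s.z e ∈ Q0 h := zp h e ▸ pQ0 h (by decide) e
theorem Q0P : Q0 h ≤ s.P := by rintro _ ⟨y, e, -, rfl⟩; exact pP h y e

theorem cardQ0 : Nat.card (Q0 h) = 256 := by
  rw [← Nat.card_congr (Equiv.ofBijective (fun x : {y // Fx y} × F4 => (⟨_, pQ0 h x.1.2 x.2⟩ : Q0 h))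
    ⟨fun a b c => Prod.ext (Subtype.ext (p_ext h (congrArg Subtype.val c)).1)
      (p_ext h (congrArg Subtype.val c)).2, fun ⟨_, y, e, a, rfl⟩ => ⟨(⟨y, a⟩, e), rfl⟩⟩),
    Nat.card_prod, Nat.card_eq_fintype_card, Nat.card_eq_fintype_card, d11]
  rfl

section
variable (a : GX s X)
include a

theorem GX.nZ : X ∈ nor s.Z := nZ_of h a.xz
theorem GX.cp (b : X * s.p y 0 * X⁻¹ = s.p y' e') (e : F4) : X * s.p y e * X⁻¹ = s.p y' (e' + e ^ 2) :=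
  cp_of h a.xz b e
theorem GX.inv : X⁻¹ = X := inv_eq_of_mul_eq_one_right a.xx
theorem GX.z1 : X * s.z 1 * X⁻¹ = s.z 1 := by rw [a.xz, one_pow]
theorem GX.zw : X * s.z F4.w * X⁻¹ = s.z F4.v := a.xz _

theorem GX.nQ0 : X ∈ nor (Q0 h) := mem_normalizer_fintype (by
  rintro _ ⟨y, e, b, rfl⟩
  rcases a.xq y e b with c | c <;> rw [c]
  exacts [pQ0 h b e, mul_mem (pQ0 h b e) (zQ0 h 1)])

theorem GX.mem : g ∈ Q0 h ⊔ zpowers X ↔ ∃ y e, Fx y ∧ (g = s.p y e ∨ g = X * s.p y e) := by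
  rw [H15.BG.mem_sup_inv a.xx (a.nQ0 h)]
  refine ⟨?_, ?_⟩
  · rintro (⟨y, e, b, c⟩ | ⟨y, e, b, c⟩)
    exacts [⟨y, e, b, Or.inl c.symm⟩, ⟨y, e, b, Or.inr (by rw [c, ← mul_assoc, a.xx, one_mul])⟩]
  · rintro ⟨y, e, b, rfl | rfl⟩
    exacts [Or.inl (pQ0 h b e), Or.inr (by rw [← mul_assoc, a.xx, one_mul]; exact pQ0 h b e)]

theorem GX.ncZ (m : q ∈ s.P) : X * q ∉ cen s.Z := fun b => by
  have := (mem_cZ h).1 ((mul_mem_cancel_right (P_cZ h m)).1 b) F4.w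
  rw [a.zw h] at this
  exact absurd (z_inj h this) (by decide)

theorem GX.memc (m : g ∈ Q0 h ⊔ zpowers X) (c : g ∈ cen s.Z) : g ∈ Q0 h := by
  obtain ⟨y, e, b, rfl | rfl⟩ := (a.mem h).1 m
  exacts [pQ0 h b e, (a.ncZ h (pP h _ _) c).elim]

theorem GX.cm (m : q ∈ Q0 h ⊔ zpowers X) (m' : q' ∈ Q0 h ⊔ zpowers X) : Cm (s.z 1) q q' := by
  have cX : Commute (s.z 1) X := (mul_inv_eq_iff_eq_mul.1 (a.z1 h)).symm
  have k : ∀ y e, Fx y → Cm (s.z 1) X (s.p y e) ∧ Cm (s.z 1) (s.p y e) X := fun y e b =>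
    ⟨a.xq y e b, Cm.symm cX (p_inv h y e ▸ a.xq y _ b)⟩
  have k' : ∀ y e y' e', Fx y → Fx y' → Cm (s.z 1) (s.p y e) (s.p y' e') := fun y e y' e' b b' =>
    (cm_p h (p_conj h _ _ _ _)).2 (by rw [add_right_comm, F4.add_self, zero_add]; exact (d10 y b y' b').1)
  have kX : Cm (s.z 1) X X := Or.inl (mul_inv_cancel_right _ _)
  obtain ⟨y, e, b, rfl | rfl⟩ := (a.mem h).1 m <;> obtain ⟨y', e', b', rfl | rfl⟩ := (a.mem h).1 m'
  · exact k' _ _ _ _ b b'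
  · exact (k y e b).2.right (z2 h 1) (z1c h (p_cZ h _ _)) (k' _ _ _ _ b b')
  · exact (k y' e' b').1.left (z2 h 1) (a.z1 h) (k' _ _ _ _ b b')
  · exact (kX.left (z2 h 1) (a.z1 h) (k y e b).2).right (z2 h 1) (z1c h (p_cZ h _ _))
      ((k y' e' b').1.left (z2 h 1) (a.z1 h) (k' _ _ _ _ b b'))

theorem GX.sqX (y : V6) (e : F4) : X * s.p y e * (X * s.p y e) = X * s.p y e * X⁻¹ * s.p y e := by
  rw [a.inv h, mul_assoc _ X]

theorem GX.sqq (m : q ∈ Q0 h ⊔ zpowers X) : q * q = 1 ∨ q * q = s.z 1 := by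
  obtain ⟨y, e, b, rfl | rfl⟩ := (a.mem h).1 m
  · rw [p_sq h]
    exact (d13 y b).1.imp (fun c => by rw [c, z0 h]) fun c => by rw [c]
  · rw [a.sqX h]
    rcases a.xq y e b with c | c <;> rcases (d13 y b).1 with d | d <;> rw [c]
    · exact Or.inl (by rw [p_sq h, d, z0 h])
    · exact Or.inr (by rw [p_sq h, d])
    · exact Or.inr (by rw [mul_assoc, (z1c h (p_cZ h _ _)).eq, ← mul_assoc, p_sq h, d, z0 h, one_mul])
    · exact Or.inl (by rw [mul_assoc, (z1c h (p_cZ h _ _)).eq, ← mul_assoc, p_sq h, d, z2 h])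

theorem GX.sqz (y : V6) (e e' : F4) : X * s.p y (e + e') * (X * s.p y (e + e')) =
    X * s.p y e * (X * s.p y e) * s.z (e' ^ 2 + e') := by
  obtain ⟨e1, h1⟩ := a.xa y
  rw [a.sqX h, a.sqX h, a.cp h h1, a.cp h h1, p_mul h, p_mul h, pz h]
  congr 1
  linear_combination (e * e') * two

/-- One of `X p`, `X p z(ω)` is an involution. -/
theorem GX.exi (b : Fx y) : ∃ ε, ∀ e, X * s.p y e * (X * s.p y e) = 1 ↔ B (e + ε) := by
  obtain ⟨ε, c⟩ : ∃ ε, X * s.p y ε * (X * s.p y ε) = 1 := by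
    rcases a.sqq h ((a.mem h).2 ⟨y, 0, b, Or.inr rfl⟩) with c | c
    exacts [⟨0, c⟩, ⟨0 + F4.w, by rw [a.sqz h, c, zz h]; exact z0 h⟩]
  refine ⟨ε, fun e => ?_⟩
  have := a.sqz h y ε (e + ε)
  rw [add_left_comm, F4.add_self, add_zero, c, one_mul] at this
  rw [this, z_eq_one h]
  generalize e + ε = e
  revert e; decide

theorem GX.le : Q0 h ⊔ zpowers X ≤ cen s.O ⊓ nor s.Z := sup_le
  (le_inf ((Q0P h).trans (P_cO h)) ((Q0P h).trans ((P_cZ h).trans (centralizer_le_normalizer _))))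
  (zpowers_le.2 ⟨a.xO, a.nZ h⟩)

omit a in
theorem fx_of (c : ∀ y', Fx y' → B (bf y y')) : Fx y :=
  d3 y (c _ (by decide)) (c _ (by decide)) (c _ (by decide)) (c _ (by decide)) (c _ (by decide)) (c _ (by decide))

theorem GX.fx (c : ∀ y', Fx y' → Cm (s.z 1) (s.p y e * X) (s.p y' 0)) : Fx y := fx_of h fun y' b => by
  obtain ⟨t, b1⟩ := a.xa y'
  rw [b] at b1
  have := (cm_p h (by rw [cj_mul, b1, p_conj h])).1 (c y' b)
  exact f5 t _ (by simpa using (cm_p h b1).1 (a.xq y' 0 b)) (by simpa using this)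

theorem GX.conjX (b : Fx y) (c : X * s.p y e * (X * s.p y e) = 1) :
    ∃ g ∈ s.P, g * X * g⁻¹ = X * s.p y e := by
  have d := d5 y b
  generalize F4.w • y = x at d
  subst d
  obtain ⟨e1, h1⟩ := a.xa x
  have k : ∀ ε, s.p x ε * X * (s.p x ε)⁻¹ =
      X * s.p (Xs x + x) (e1 + qf x + cc (Xs x) x + (ε ^ 2 + ε)) := fun ε => by
    calc _ = X * (X * s.p x ε * X⁻¹) * (s.p x ε)⁻¹ := by
          rw [a.inv h, ← mul_assoc X, ← mul_assoc X, a.xx, one_mul]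
      _ = _ := by rw [a.cp h h1, p_inv h, mul_assoc, p_mul h]; congr 2; ring
  generalize e1 + qf x + cc (Xs x) x = e2 at k
  have c' : X * s.p (Xs x + x) e2 * (X * s.p (Xs x + x) e2) = 1 := by
    have := k 0
    rw [zero_pow two_ne_zero, add_zero, add_zero] at this
    rw [← this, conj_mul, a.xx, mul_one, mul_inv_cancel]
  obtain ⟨e3, h3⟩ := a.xa (Xs x + x)
  rw [a.sqX h, a.cp h h3, b, p_mul h] at c c'
  obtain ⟨ε, d⟩ := (f6 (e3 + e2 ^ 2 + e2) (e2 + e) _ (p_one h c').2 (by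
    rw [← (p_one h c).2]
    linear_combination (e2 + e2 ^ 2 + e2 * e) * two)).resolve_left id
  exact ⟨_, pP h x ε, by rw [k, d, ← add_assoc, F4.add_self, zero_add]⟩

theorem GX.cnt : Nat.card {q : ↥(Q0 h ⊔ zpowers X) // q * q = 1} = 272 := by
  choose ε hε using fun y : {y // Fx y} => a.exi h y.2
  let f : {y : V6 // Fx y ∧ qf y = 0} × F4 ⊕ {y // Fx y} × {e // B e} →
      {q : ↥(Q0 h ⊔ zpowers X) // q * q = 1} := Sum.elim
    (fun x => ⟨⟨_, (a.mem h).2 ⟨x.1, x.2, x.1.2.1, Or.inl rfl⟩⟩, Subtype.ext (by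
      simp only [coe_mul, p_sq h, x.1.2.2, z0 h, coe_one])⟩)
    fun x => ⟨⟨_, (a.mem h).2 ⟨x.1, x.2 + ε x.1, x.1.2, Or.inr rfl⟩⟩, Subtype.ext ((hε _ _).2 (by
      rw [add_assoc, F4.add_self, add_zero]; exact x.2.2))⟩
  rw [← Nat.card_congr (Equiv.ofBijective f ⟨?_, ?_⟩), Nat.card_sum, Nat.card_prod, Nat.card_prod,
    Nat.card_eq_fintype_card, Nat.card_eq_fintype_card, Nat.card_eq_fintype_card, Nat.card_eq_fintype_card, d11, d12]
  · rfl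
  · rintro (⟨y, e⟩ | ⟨y, e⟩) (⟨y', e'⟩ | ⟨y', e'⟩) c <;> have c := congrArg (fun q => (q.1 : G)) c <;>
      simp only [f, Sum.elim_inl, Sum.elim_inr] at c
    · exact congrArg _ (Prod.ext (Subtype.ext (p_ext h c).1) (p_ext h c).2)
    · exact (a.ncZ h (pP h _ _) (c ▸ p_cZ h _ _)).elim
    · exact (a.ncZ h (pP h _ _) (c ▸ p_cZ h _ _)).elim
    · obtain ⟨c1, c2⟩ := p_ext h (mul_left_cancel c)
      obtain rfl := Subtype.ext c1
      rw [Subtype.ext (add_right_cancel c2)]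
  · rintro ⟨⟨q, m⟩, c⟩
    have c : q * q = 1 := congrArg Subtype.val c
    obtain ⟨y, e, b, rfl | rfl⟩ := (a.mem h).1 m
    · exact ⟨Sum.inl (⟨y, b, (z_eq_one h).1 (p_sq h y e ▸ c)⟩, e), rfl⟩
    · exact ⟨Sum.inr (⟨y, b⟩, ⟨e + ε ⟨y, b⟩, (hε ⟨y, b⟩ e).1 c⟩), Subtype.ext (Subtype.ext (by
        simp only [f, Sum.elim_inr, add_assoc, F4.add_self, add_zero]))⟩

variable (F : AF) (A : CA s θ) (hN : nor s.Z ≤ nor s.P)
include F A hN

omit h a F A in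
theorem mM (c : g ∈ cen s.Z) : g ∈ s.M := ⟨c, hN (centralizer_le_normalizer _ c)⟩

omit a in
theorem norQ0 (c : g ∈ cen s.Z) : g ∈ nor (Q0 h) := mem_normalizer_fintype (by
  rintro _ ⟨y, e, b, rfl⟩
  obtain ⟨e', h3⟩ := act_e h (A.act ⟨g, mM hN c⟩) (centralizer_le_normalizer _ c) y e
  exact h3 ▸ pQ0 h (by rw [Fx, F.xs, b]) _)

theorem GX.cjX (c : g ∈ cen s.Z) : ∃ y e, g * X * g⁻¹ = s.p y e * X := by
  have n := centralizer_le_normalizer _ c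
  have h1 := A.act ⟨g, mM hN c⟩
  have h3 := A.act (⟨g, mM hN c⟩ : s.M)⁻¹
  have n1 := mul_mem n (a.nZ h)
  obtain ⟨o, ho, y, e, b⟩ := A.ker (g * X * g⁻¹ * X) ((mem_cZ h).2 fun e => by
      rw [cj_mul, cj_mul, cj_mul, a.xz, (mem_cZ h).1 (inv_mem c), a.xz, (mem_cZ h).1 c]
      congr 1; revert e; decide)
    fun y => by
      have := act_mul h (act_mul h (act_mul h h1 n a.xa) n1 h3) (mul_mem n1 (inv_mem n)) a.xa y
      simp only [Function.comp, F.xs, d14, ← F.mul, map_inv, mul_inv_cancel, F.one] at this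
      exact this
  have b' : g * X * g⁻¹ = o * (s.p y e * X) := by
    rw [← mul_assoc, ← b, mul_assoc (g * X * g⁻¹), a.xx, mul_one]
  obtain rfl : o = 1 := by
    obtain ⟨y', e', b1⟩ := (mem_P h).1 (mul_mem (pP h y e)
      (conj_mem_of_mem_normalizer (hN (a.nZ h)) (pP h y e)))
    refine H69.eq_one_of_odd_of_mul_self (oddO h ho) (two_elt h (mul_mem ho ho) (x := y') (e := e')
      (k := 0) ?_)
    have c1 : Commute o (s.p y e * X) := mul_mem (p_cO h y e) a.xO o ho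
    rw [pow_zero, pow_one, b1, a.inv h, ← mul_assoc (s.p y e), ← mul_assoc (s.p y e), mul_assoc _ _ X,
      ← sq, ← sq, ← c1.mul_pow, ← b', conj_pow, sq, a.xx, mul_one, mul_inv_cancel]
  exact ⟨y, e, b'.trans (one_mul _)⟩

theorem GX.nZ0 (c : g ∈ cen s.Z) : g ∈ nor (Q0 h ⊔ zpowers X) := by
  obtain ⟨y, e, b'⟩ := a.cjX h F A hN c
  have k := norQ0 h F A hN c
  have fy : Fx y := a.fx h (e := e) fun y' c' => by
    have := a.cm h (mem_sup_right (mem_zpowers X))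
      (mem_sup_left (conj_mem_of_mem_normalizer' k (pQ0 h c' 0)))
    rw [← b']
    refine this.imp (fun d => ?_) fun d => ?_
    · calc _ = g * (X * (g⁻¹ * s.p y' 0 * g) * X⁻¹) * g⁻¹ := by group
        _ = _ := by rw [d]; group
    · calc _ = g * (X * (g⁻¹ * s.p y' 0 * g) * X⁻¹) * g⁻¹ := by group
        _ = s.p y' 0 * (g * s.z 1 * g⁻¹) := by rw [d]; group
        _ = _ := by rw [(mem_cZ h).1 c]
  have m : g * X * g⁻¹ ∈ Q0 h ⊔ zpowers X := by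
    rw [b']; exact mul_mem (mem_sup_left (pQ0 h fy e)) (mem_sup_right (mem_zpowers X))
  refine mem_normalizer_fintype fun q hq => ?_
  obtain ⟨y, e, b, rfl | rfl⟩ := (a.mem h).1 hq
  · exact mem_sup_left (conj_mem_of_mem_normalizer k (pQ0 h b e))
  · rw [← conj_mul]
    exact mul_mem m (mem_sup_left (conj_mem_of_mem_normalizer k (pQ0 h b e)))

theorem GX.nZ1 : nor s.Z ⊓ cen1 (s.z 1) ≤ nor (Q0 h ⊔ zpowers X) := fun _ c =>
  (czx h a.xz c.1 c.2).elim (a.nZ0 h F A hN) fun b =>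
    (mul_mem_cancel_right (le_normalizer (mem_sup_right (mem_zpowers X)))).1 (a.nZ0 h F A hN b)

theorem GX.cq0 (c : g ∈ cen s.Z) (b : ∀ q ∈ Q0 h ⊔ zpowers X, Cm (s.z 1) g q) :
    ∃ o ∈ s.O, ∃ q ∈ Q0 h, g = o * q := by
  have h1 := A.act ⟨g, mM hN c⟩
  have k : ∀ y, Fx y → th (θ ⟨g, mM hN c⟩) y = y := fun y d =>
    (h1 y).elim fun e h2 => cm_fix h h2 (b _ (mem_sup_left (pQ0 h d 0)))
  obtain ⟨o, ho, y, e, rfl⟩ := A.ker g c fun y => by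
    obtain ⟨b1, b2, d, -⟩ := d17 y
    have := h1 y
    rwa [d, F.add, F.smul, k _ b1, k _ b2, ← d] at this
  refine ⟨o, ho, _, pQ0 h (fx_of h fun y' d => ?_) e, rfl⟩
  simpa using (cm_p h (e' := 0 + bf y y')
    (by rw [cj_mul, p_conj h, p_cO h _ _ o ho, mul_inv_cancel_right])).1
    (b _ (mem_sup_left (pQ0 h d 0)))

/-- A `2`-element centralizing `Z`, the short real vectors and `X` modulo `z`. -/
theorem GX.inQ (c : g ∈ cen s.Z) (t : ∃ k, g ^ 2 ^ k = 1) (b : ∀ y, Fx y → tl y = 0 → Cm (s.z 1) g (s.p y 0))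
    (b' : Cm (s.z 1) X g) : g ∈ Q0 h := by
  have h1 := A.act ⟨g, mM hN c⟩
  have k : ∀ y, Fx y → tl y = 0 → th (θ ⟨g, mM hN c⟩) y = y := fun y d d' =>
    (h1 y).elim fun e h2 => cm_fix h h2 (b y d d')
  obtain ⟨y, e, rfl⟩ := (mem_P h).1 (A.k2 ⟨g, mM hN c⟩ (F.st4 _ (A.alt _) (t.imp fun k hk => by
    rw [← map_pow, show (⟨g, mM hN c⟩ : s.M) ^ 2 ^ k = 1 from Subtype.ext hk, map_one]) fun c d a b => by
      obtain ⟨b1, b2, d, d'⟩ := d17 (c, d, a, b, 0, 0)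
      rw [d, F.add, F.smul, k _ b1 (d' rfl).1, k _ b2 (d' rfl).2]) t)
  obtain ⟨e', h2⟩ := act_e h a.xa (a.nZ h) y e
  exact pQ0 h (cm_fix h h2 b') e

end

section
variable (C : C1 s Q₁)
include C

theorem zQ1 (e : F4) : s.z e ∈ Q₁ := C.v0 0 e (Or.inl rfl)

theorem Q1c : Q₁ ≤ cen1 (s.z 1) := fun q m => mc1.2 ((C.cm q m _ (zQ1 h C 1)).resolve_right fun c => by
  rw [z2 h, conj_eq_one_iff] at c; exact z1 h c)

theorem pQ1 (b : Fx y) (b' : tl y = 0) (e : F4) : s.p y e ∈ Q₁ := by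
  have k : ∀ y, (∃ e, s.p y e ∈ Q₁) → ∀ e, s.p y e ∈ Q₁ := fun y ⟨e, m⟩ e' => by
    simpa only [pz h, ← add_assoc, F4.add_self, zero_add] using mul_mem m (zQ1 h C (e + e'))
  have k0 : s.u 1 0 0 ∈ Q₁ := C.v0 1 0 (Or.inr rfl)
  have k1 : ∀ t : F4, ∃ e, s.p (t ^ 2, t, 1, t ^ 3, 0, 0) e ∈ Q₁ := fun t => by
    have tz := h.g1.dZ (τD h)
    have c : Commute (s.w₁ t) s.x :=
      (h.g0.xn.symm.mul_left (h.βD t _ (xD h))).mul_left h.g0.xn.symm.inv_left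
    have m := conj_mem_of_mem_normalizer (C.nZ (x := s.τ * s.w₁ t * s.τ⁻¹)
      ⟨(cen s.Z).mul_mem (mul_mem tz (w₁_cZ h t)) (inv_mem tz), mem_centralizer_singleton_iff.2 (by
        have := (c.inv_right.map (MulAut.conj s.τ)).eq
        rwa [MulAut.conj_apply, MulAut.conj_apply, ← h.g0.τx, ← cj_mul, h.g0.ττ, one_mul, inv_one, mul_one] at this)⟩) k0
    have e1 : s.τ⁻¹ * s.u 1 0 0 * s.τ⁻¹⁻¹ = s.u 0 1 0 := by
      rw [inv_eq_of_mul_eq_one_right h.g0.ττ, h.g0.τu]; simp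
    rw [cj_mul, cj_mul, e1, flip (ww₁ h t) (h.vw t 1), up h, up h, ← rp h, ← βp h, p_mul h, p_mul h, p_mul h] at m
    obtain ⟨e', d⟩ := τp h ((0, t * 1, 0, 0, 0, 0) + (t ^ 2 * 1, 0, 0, 0, 0, 0) + (0, 0, t ^ 3 * 1, 0, 0, 0) +
      (0, 0, 0, 1, 0, 0))
    rw [d] at m
    exact ⟨_, by simpa [Wτ] using m⟩
  obtain ⟨i, j, l, m, rfl⟩ := d15 y b b'
  have c : ∀ (i : Bool) (v : V6), (∃ e, s.p v e ∈ Q₁) → ∃ e, s.p (cond i v 0) e ∈ Q₁ := fun i v a => by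
    cases i
    exacts [⟨0, (p0 h).symm ▸ one_mem _⟩, a]
  have ad : ∀ x y, (∃ e, s.p x e ∈ Q₁) → (∃ e, s.p y e ∈ Q₁) → ∃ e, s.p (x + y) e ∈ Q₁ :=
    fun x y ⟨_, a⟩ ⟨_, b⟩ => ⟨_, p_mul h x y _ _ ▸ mul_mem a b⟩
  exact k _ (ad _ _ (ad _ _ (ad _ _ (c i _ (k1 1)) (c j _ (k1 F4.v))) (c l _ (k1 F4.w)))
    (c m _ ⟨0, up h 1 0 0 ▸ k0⟩)) e

theorem exX (hN : nor s.Z ≤ nor s.P) : ∃ X ∈ Q₁, GX s X := by
  obtain ⟨X, m, xx, zw⟩ := C.mv
  have xz := xz_of h (mc1.1 (Q1c h C m)) zw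
  have cx : X * s.x = s.x * X := mem_centralizer_singleton_iff.1 (C.le m).2
  choose φ ε hφ using fun y => (mem_P h).1 (conj_mem_of_mem_normalizer (hN (nZ_of h xz)) (pP h y 0))
  have cp := fun y => cp_of h xz (hφ y).symm
  have kx : ∀ y, φ (Xa y) = Xa (φ y) ∧ ε (Xa y) = ε y := fun y => p_ext h (by
    rw [hφ, Xa, Xa, ← xp h, ← xp h, hφ, ← cj_mul, ← cj_mul, cx])
  have kb : ∀ y y', bf (φ y) (φ y') = bf y y' ^ 2 := fun y y' => by
    have := p_conj h (φ y) (φ y') (ε y) (ε y')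
    rw [hφ, hφ, conj_inv, conj_mul, conj_mul, p_conj h, cp, zero_add] at this
    exact (add_left_cancel (p_ext h this).2).symm
  have ki : ∀ y, φ (φ y) = y := fun y => by
    have := cp (φ y) (ε y)
    rw [hφ, ← cj_mul, xx, one_mul, inv_one, mul_one] at this
    exact (p_ext h this).1.symm
  have k0 : ∀ y, Fx y → tl y = 0 → Cm (s.z 1) X (s.p y 0) := fun y b b' => C.cm X m _ (pQ1 h C b b' 0)
  have k1 : ∀ y, hd (φ y + Xs y) = 0 := fun y => by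
    have : ∀ y', Fx y' → tl y' = 0 → bf (φ y + Xs y) y' = 0 := fun y' b b' => by
      rw [bf_add, ← cm_fix h (hφ y').symm (k0 y' b b'), kb, cm_fix h (hφ y').symm (k0 y' b b'), ← bf_xs, b,
        F4.add_self]
    exact d4 _ (this _ (by decide) rfl) (this _ (by decide) rfl) (this _ (by decide) rfl) (this _ (by decide) rfl)
  have k2 : ∀ y y', bf (φ y) y' = bf y (φ y') ^ 2 := fun y y' => by rw [← kb, ki]
  have k5 : φ e₅ = e₆ ∧ φ e₆ = e₅ := by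
    have a1 := k1 e₅
    have a2 := k1 e₆
    have a3 := k2 e₅ e₆
    have a4 := k2 (Xa e₅) e₆
    have a5 := k2 e₅ e₅
    have a6 := k2 e₆ e₆
    have a7 := kb e₅ e₆
    rw [(kx _).1] at a4
    generalize φ e₅ = y at *
    generalize φ e₆ = y' at *
    obtain ⟨_, _, _, _, s₁, t₁⟩ := y
    obtain ⟨_, _, _, _, s₂, t₂⟩ := y'
    simp only [hd, Xs, e₅, e₆, Xa, bf, Prod.mk_add_mk, Prod.mk_eq_zero, ne_eq, OfNat.ofNat_ne_zero, not_false_eq_true,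
      zero_pow, add_zero, and_self, and_true] at *
    obtain ⟨rfl, rfl, rfl, rfl⟩ := a1
    obtain ⟨rfl, rfl, rfl, rfl⟩ := a2
    simp only [Prod.mk.injEq, true_and, mul_zero, zero_mul, add_zero, zero_add, mul_one, one_mul] at *
    revert s₁ t₁ s₂ t₂
    decide
  have xa : ∀ y, φ y = Xs y := fun y => by
    have a1 := k1 y
    have a2 := k2 y e₅
    have a3 := k2 y e₆
    rw [k5.1] at a2
    rw [k5.2] at a3
    have e : ∀ a b : F4, a + b = 0 → a = b := by decide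
    simp only [hd, Prod.mk_eq_zero, Prod.fst_add, Prod.snd_add] at a1
    exact Prod.ext (e _ _ a1.1) (Prod.ext (e _ _ a1.2.1) (Prod.ext (e _ _ a1.2.2.1) (Prod.ext (e _ _ a1.2.2.2.1)
      (Prod.ext (by simpa [bf, e₅, e₆, Xs] using a3) (by simpa [bf, e₅, e₆, Xs] using a2)))))
  have kB : ∀ y, Fx y → (Cm (s.z 1) X (s.p y 0) ↔ B (ε y)) := fun y b => by
    simpa using cm_p h (e := 0) (by rw [← hφ, xa, b])
  have ad : ∀ y y', Cm (s.z 1) X (s.p y 0) → Cm (s.z 1) X (s.p y' 0) → ∀ e, Cm (s.z 1) X (s.p (y + y') e) :=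
    fun y y' a a' e => by
      have := (a.right (z2 h 1) (z1c h (p_cZ h _ _)) a').right (z2 h 1) (z1c h (P_cZ h (ZP h (zZ h (cc y y' + e)))))
        (C.cm X m _ (zQ1 h C _))
      simpa only [p_mul h, pz h, zero_add, ← add_assoc, F4.add_self] using this
  have k7 : B (ε g₅) := by
    have e1 : X * _ * X⁻¹ = X * _ * X⁻¹ := congrArg (X * · * X⁻¹) (p_mul h g₅ (Xa g₅) 0 0)
    rw [← conj_mul, ← hφ, ← hφ, cp, p_mul h, (kx _).2, show g₅ + Xa g₅ = Xa (Xa g₅) by decide, (kx _).2,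
      (kx _).2, xa, xa, show Xs g₅ = g₅ by decide, show Xs (Xa g₅) = Xa g₅ by decide, F4.add_self] at e1
    have := (p_ext h e1).2
    generalize ε g₅ = a, cc g₅ (Xa g₅) = b at this
    revert a b
    decide
  refine ⟨X, m, (C.le m).1.1, fun y => ⟨_, by rw [← hφ, xa]⟩, xz, xx, fun y e b => ?_⟩
  obtain ⟨-, b1, b2, b3⟩ := d13 y b
  rw [← hd_tl y]
  refine ad _ _ (k0 _ b1 rfl) ((kB _ b2).2 ?_) e
  rcases b3 with c | c | c | c <;> rw [c]
  exacts [(kB _ (by decide)).1 (k0 _ (by decide) rfl), k7, by rwa [(kx _).2], by rwa [(kx _).2, (kx _).2]]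

variable (a : GX s X) (m : X ∈ Q₁) (F : AF) (A : CA s θ) (hN : nor s.Z ≤ nor s.P)
include a m F A hN

theorem Q1c0 (mq : q ∈ Q₁) (c : q ∈ cen s.Z) : ∃ y e, Fx y ∧ tl y = 0 ∧ s.p y e = q := by
  obtain ⟨y, e, b, rfl⟩ := a.inQ h F A hN c (H15.BG.e2_of_mem C.two mq)
    (fun y b b' => C.cm q mq _ (pQ1 h C b b' 0)) (C.cm X m q mq)
  exact ⟨y, e, b, d16 y (p_ext h ((xp h y e).symm.trans (mc1.1 (mem_centralizer_singleton_iff.2
    (mem_centralizer_singleton_iff.1 (C.le mq).2).symm)))).1, rfl⟩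

theorem Q1Q : Q₁ ≤ Q0 h ⊔ zpowers X := fun q mq =>
  have k : ∀ q ∈ Q₁, q ∈ cen s.Z → q ∈ Q0 h ⊔ zpowers X := fun q mq c => by
    obtain ⟨y, e, b, -, rfl⟩ := Q1c0 h C a m F A hN mq c
    exact mem_sup_left (pQ0 h b e)
  (czx h a.xz (C.le mq).1.2 (Q1c h C mq)).elim (k q mq) fun c =>
    (mul_mem_cancel_right (mem_sup_right (mem_zpowers X))).1 (k _ (mul_mem mq m) c)

theorem nQ1 : nor Q₁ ≤ nor (Q0 h ⊔ zpowers X) := fun g n => mem_normalizer_fintype fun q hq => by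
  have k : ∀ y e, Fx y → g * s.p y e * g⁻¹ ∈ Q0 h ⊔ zpowers X := fun y e b => by
    obtain ⟨-, b1, b2, -⟩ := d13 y b
    obtain ⟨ε, c⟩ : ∃ ε, X * s.p (tl y) ε * X⁻¹ = s.p (tl y) ε := by
      rcases a.xq _ 0 b2 with c | c
      exacts [⟨0, c⟩, ⟨F4.w, by rw [a.cp h (c.trans (pz h _ _ _))]; rfl⟩]
    have c1 : s.p (tl y) ε ∈ cen Q₁ := fun q mq => by
      have k : ∀ q ∈ Q₁, q ∈ cen s.Z → q * s.p (tl y) ε = s.p (tl y) ε * q := fun q mq c => by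
        obtain ⟨y', e', -, b', rfl⟩ := Q1c0 h C a m F A hN mq c
        rw [← mul_inv_eq_iff_eq_mul, p_conj h, ← hd_tl y', b']
        simp [bf, hd, tl]
      refine (czx h a.xz (C.le mq).1.2 (Q1c h C mq)).elim (k q mq) fun c' => ?_
      have := k _ (mul_mem mq m) c'
      rwa [mul_assoc, mul_inv_eq_iff_eq_mul.1 c, ← mul_assoc, ← mul_assoc, mul_left_inj] at this
    have c2 := H69.Std.conj_mem_cen n c1
    have e1 : s.p y e = s.p (hd y) (e + ε + cc (hd y) (tl y)) * s.p (tl y) ε := by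
      rw [p_mul h, hd_tl]
      congr 1
      linear_combination (-ε - cc (hd y) (tl y)) * two
    rw [e1, ← conj_mul]
    refine mul_mem (Q1Q h C a m F A hN (conj_mem_of_mem_normalizer n (pQ1 h C b1 rfl _))) (mem_sup_left
      (a.inQ h F A hN (fun z hz => ?_) ⟨2, by rw [conj_pow, show 2 ^ 2 = 4 from rfl, p4 h]; group⟩
        (fun y b b' => Or.inl (mc.1 c2 _ (pQ1 h C b b' 0))) (Or.inl (mul_inv_eq_iff_eq_mul.2 (c2 X m)))))
    obtain ⟨e, rfl⟩ := (mem_Z h).1 hz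
    exact c2 _ (zQ1 h C e)
  obtain ⟨y, e, b, rfl | rfl⟩ := (a.mem h).1 hq
  · exact k y e b
  · rw [← conj_mul]
    exact mul_mem (Q1Q h C a m F A hN (conj_mem_of_mem_normalizer n m)) (k y e b)

theorem tr (mq : q ∈ Q0 h ⊔ zpowers X) (qq : q * q = 1) (q1 : q ≠ 1) (qz : q ≠ s.z 1) :
    ∃ g ∈ nor (Q0 h ⊔ zpowers X), g * s.z F4.w * g⁻¹ = q := by
  have k : ∀ q' ∈ Q₁, ∀ g ∈ cen s.Z, g * q' * g⁻¹ = q → ∃ g ∈ nor (Q0 h ⊔ zpowers X), g * s.z F4.w * g⁻¹ = q :=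
    fun q' m' g c d => by
      obtain ⟨g', n, d'⟩ := C.tr q' m' (by rwa [← d, conj_mul, conj_eq_one_iff] at qq) (fun e => q1 (by simp [← d, e]))
        fun e => qz (by rw [← d, e, (mem_cZ h).1 c])
      exact ⟨g * g', mul_mem (a.nZ0 h F A hN c) (nQ1 h C a m F A hN n), by rw [cj_mul, d', d]⟩
  obtain ⟨y, e, b, rfl | rfl⟩ := (a.mem h).1 mq
  · by_cases y0 : y = 0
    · exact k _ (pQ1 h C b (by rw [y0]; rfl) e) 1 (one_mem _) (by simp)
    obtain ⟨σ, hσ, d⟩ := F.orbR y b ((z_eq_one h).1 (p_sq h y e ▸ qq)) y0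
    obtain ⟨g, -, rfl⟩ := A.sur σ hσ
    obtain ⟨e', d'⟩ := A.act g ea
    exact k _ (pQ1 h C (y := ea) (by decide) rfl (e' + e)) g g.2.1 (by
      rw [cp_c h g.2.1 d', d, ← add_assoc, F4.add_self, zero_add])
  · obtain ⟨g, hg, d⟩ := a.conjX h b qq
    exact k X m g (P_cZ h hg) d

end

theorem jobCQ : JobCQ.{u} := by
  intro G _ _ s θ Q₁ F h A hN C
  obtain ⟨X, m₁, a⟩ := exX h C hN
  have mX : X ∈ Q0 h ⊔ zpowers X := mem_sup_right (mem_zpowers X)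
  have mz := fun e => (mem_sup_left (zQ0 h e) : s.z e ∈ Q0 h ⊔ zpowers X)
  have n : X ∉ cen s.Z := by simpa using a.ncZ h (one_mem _)
  have zc : ∀ q ∈ Q0 h ⊔ zpowers X, (∀ q' ∈ Q0 h ⊔ zpowers X, q * q' = q' * q) → q = 1 ∨ q = s.z 1 :=
    fun q m c => by
      obtain ⟨y, e, b, rfl⟩ := a.memc h m ((mem_cZ h).2 fun e => by
        rw [c _ (mz e), mul_inv_cancel_right])
      have k : ∀ y', Fx y' → bf y y' = 0 := fun y' b' => by
        have := p_conj h y y' e 0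
        rw [c _ (mem_sup_left (pQ0 h b' 0)), mul_inv_cancel_right, zero_add] at this
        exact (p_ext h this).2.symm
      obtain rfl : y = 0 := d4' y (d4 y (k _ (by decide)) (k _ (by decide)) (k _ (by decide)) (k _ (by decide)))
        (k _ (by decide)) (k _ (by decide))
      have := a.xz e
      rw [← zp h] at *
      rw [← c _ mX, mul_inv_cancel_right] at this
      exact (B_of (z_inj h this).symm).imp (fun d => by rw [d, z0 h]) fun d => by rw [d]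
  have z1' : ∀ q ∈ Q0 h ⊔ zpowers X, s.z 1 * q = q * s.z 1 := fun q m => by
    obtain ⟨y, e, b, rfl | rfl⟩ := (a.mem h).1 m
    · exact z1c h (p_cZ h y e)
    · exact Commute.mul_right (mul_inv_eq_iff_eq_mul.1 (a.z1 h)).symm (z1c h (p_cZ h y e))
  refine ⟨Q0 h ⊔ zpowers X, ⟨mz 1, z1 h, z2 h 1, z1', zc, fun q m => a.sqq h m,
      fun q m q' m' => (a.cm h m m').imp mul_inv_eq_iff_eq_mul.1 fun d => by
        rw [mul_inv_eq_iff_eq_mul.1 d, mul_assoc, z1' q m, mul_assoc],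
      X, mX, _, mz F4.w, fun d => absurd (z_inj h ((a.zw h).symm.trans
        (mul_inv_eq_iff_eq_mul.2 d))) (by decide)⟩,
    by rw [H15.BG.card_sup_inv a.xx (a.nQ0 h) fun d => n (P_cZ h (Q0P h d)), cardQ0 h],
    fun y e => ⟨fun m => ?_, fun b => mem_sup_left (pQ0 h b e)⟩, fun q m => Q0P h (a.memc h m.1 m.2), a.le h,
    ⟨X, mX, a.xx, a.zw h, a.xa⟩, a.nZ1 h F A hN, fun q m => tr h C a m₁ F A hN m,
    sup_le ?_ (zpowers_le.2 (subset_closure ⟨mX, a.xx⟩)), fun g m b => ?_, a.cnt h⟩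
  · obtain ⟨y', e', b, d⟩ := a.memc h m (p_cZ h y e)
    exact (p_ext h d).1 ▸ b
  · rintro _ ⟨y, e, b, rfl⟩
    obtain ⟨y', -, b1, b2, b3⟩ := d8 y b
    have k : ∀ y e, Fx y → qf y = 0 → s.p y e ∈ closure {v | v ∈ Q0 h ⊔ zpowers X ∧ v * v = 1} :=
      fun y e b c => subset_closure ⟨mem_sup_left (pQ0 h b e), by rw [p_sq h, c, z0 h]⟩
    exact (mul_mem_cancel_left (k y' 0 b1 b2)).1 (p_mul h _ _ _ _ ▸ k _ _ (d10 y' b1 y b).2 b3)
  · rcases czx h a.xz m.1 m.2 with c | c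
    · obtain ⟨o, ho, q, hq, d⟩ := a.cq0 h F A hN c b
      exact ⟨o, ho, q, mem_sup_left hq, d⟩
    · obtain ⟨o, ho, q, hq, d⟩ := a.cq0 h F A hN c fun q hq =>
        Cm.left (z2 h 1) (mc1.1 m.2) (b q hq) (a.cm h mX hq)
      exact ⟨o, ho, q * X, mul_mem (mem_sup_left hq) mX, by
        rw [← mul_assoc, ← d, mul_assoc, a.xx, mul_one]⟩

end H52.CgQ
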