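import Cfsg.Agent.H41.C3Kit2

/-! The subgroup `J = 3⁴` and the Sylow `3`-subgroup (job L0 of the blueprint `CO2T.md`). -/

set_option autoImplicit false
set_option maxRecDepth 100000
set_option linter.unusedSectionVars false
open Cfsg H44 H56.L3 H42.L3 H98 H14 Subgroup H41.C3

namespace H52.CoL0

universe u

theorem ap4_add (c0 c1 c2 c3 x y : J4) :
    ap4 c0 c1 c2 c3 (x + y) = ap4 c0 c1 c2 c3 x + ap4 c0 c1 c2 c3 y := by
  have h : ∀ (a b : ZMod 3) (c : J4), (a + b).val • c = a.val • c + b.val • c := by decide +kernel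
  simp only [ap4, Prod.fst_add, Prod.snd_add, h]
  abel

theorem iter_add {f : J4 → J4} (h : ∀ x y, f (x + y) = f x + f y) (n : ℕ) (x y : J4) :
    f^[n] (x + y) = f^[n] x + f^[n] y := by
  induction n with
  | zero => rfl
  | succ n ih => simp only [Function.iterate_succ_apply', ih, h]

/-- the group `⟨σ, σ'⟩` -/
def K9 : Type := Multiplicative (ZMod 3 × ZMod 3)

instance : CommGroup K9 := inferInstanceAs (CommGroup (Multiplicative _))
instance : Fintype K9 := inferInstanceAs (Fintype (Multiplicative _))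
instance : DecidableEq K9 := inferInstanceAs (DecidableEq (Multiplicative _))

def K9.i (k : K9) : ZMod 3 := (Multiplicative.toAdd k).1
def K9.j (k : K9) : ZMod 3 := (Multiplicative.toAdd k).2
def K9.mk (i j : ZMod 3) : K9 := Multiplicative.ofAdd (i, j)

instance : SMul K9 J4 := ⟨fun k x => mS^[k.i.val] (mS'^[k.j.val] x)⟩

instance : DistribMulAction K9 J4 where
  one_smul _ := rfl
  mul_smul := by decide +kernel
  smul_zero := by decide +kernel
  smul_add k x y := (congrArg mS^[k.i.val] (iter_add (ap4_add _ _ _ _) _ x y)).trans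
    (iter_add (fun _ _ => rfl) _ _ _)

abbrev S0 := SD J4 K9

theorem card_K9 : Nat.card K9 = 9 := by rw [Nat.card_eq_fintype_card]; rfl
theorem card_S0 : Nat.card S0 = 729 := by rw [SD.card_eq, card_K9]; simp

theorem card_JJ : Nat.card (SD.JJ : Subgroup S0) = 81 := by
  have := (SD.π : S0 →* K9).ker.card_mul_index
  rw [index_ker, MonoidHom.range_eq_top.2 fun k => ⟨⟨0, k⟩, rfl⟩, card_top, card_K9,
    card_S0] at this
  exact Nat.eq_of_mul_eq_mul_right (by norm_num : 0 < 9) this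

theorem eq_JJ {A : Subgroup S0} (h1 : A ≤ cn A) (h3 : Nat.card A = 81) : A = SD.JJ := by
  refine eq_of_le_of_card_ge (fun x hx => ?_) (by rw [card_JJ, h3])
  by_contra hne
  let f : A →* K9 := SD.π.comp A.subtype
  have key : ∀ (P : J4 → Prop) [DecidablePred P], (∀ y ∈ A, y.k = 1 → P y.j) →
      Nat.card f.ker ≤ (Finset.univ.filter P).card := fun P _ hP => by
    rw [← Fintype.card_coe, ← Nat.card_eq_fintype_card]
    exact Nat.card_le_card_of_injective (fun y => ⟨y.1.1.j, Finset.mem_filter.2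
      ⟨Finset.mem_univ _, hP _ y.1.2 y.2⟩⟩) fun y z e => Subtype.ext (Subtype.ext
        (SD.ext (congrArg Subtype.val e) (Eq.trans y.2 (Eq.symm z.2))))
  have fx : ∀ x ∈ A, ∀ y ∈ A, y.k = 1 → x.k • y.j = y.j := fun x hx y hy e => by
    have h6 := congrArg SD.j (h1 hx _ hy)
    simp only [SD.mul_j, e, one_smul] at h6
    rw [add_comm] at h6
    exact (add_left_cancel h6).symm
  have h6 := f.ker.card_mul_index
  rw [index_ker, h3] at h6
  by_cases ht : f.range = ⊤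
  · have := (key (fun v => ∀ k : K9, k • v = v) fun y hy e k => by
      obtain ⟨a, rfl⟩ := ht.ge (mem_top k)
      exact fx _ a.2 y hy e).trans (by decide +kernel : _ ≤ 3)
    rw [ht, card_top, card_K9] at h6
    omega
  have h4 := (key (fun v => x.k • v = v) (fx x hx)).trans ((by decide +kernel : ∀ k : K9, k ≠ 1 →
    (Finset.univ.filter fun v : J4 => k • v = v).card ≤ 9) x.k hne)
  have h5 : Nat.card f.range < 9 := card_K9 ▸ lt_of_le_of_ne (card_le_card_group _)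
    fun e => ht (eq_top_of_card_eq _ e)
  nlinarith

variable {G : Type u} [Group G] [Finite G] {ψ : HS L24 →* G} {r : G} (h : St ψ r) {g : G}
include h

theorem rinv : r⁻¹ = r := inv_eq_of_mul_eq_one_right h.rr
theorem rconj (a : G) : r * a * r = r * a * r⁻¹ := by rw [rinv h]
theorem rfix {a : G} (e : Commute r a) : r * a * r = a := by rw [e.eq, mul_assoc, h.rr, mul_one]
theorem rmul (a b : G) : r * (a * b) * r = r * a * r * (r * b * r) := by
  simp only [rconj h, conj_mul]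
theorem rpow (a : G) (n : ℕ) : r * a ^ n * r = (r * a * r) ^ n := by
  simp only [rconj h, conj_pow]
theorem rrr (a : G) : r * (r * a * r) * r = a := by
  rw [← mul_assoc, ← mul_assoc, h.rr, one_mul, mul_assoc, h.rr, mul_one]

theorem ψ_cm (m : HS L24) {n : HS L24} (h1 : n.g ^ 4 = 1) (h2 : dH * n = n * dH) :
    Commute (ψ m) (r * ψ n * r) := by
  obtain ⟨i, -, e⟩ := (by decide +kernel : ∀ l : L24, ∃ i < 3, (l * (dH.g ^ i)⁻¹) ^ 4 = 1) m.g
  have e1 : (m * (dH ^ i)⁻¹).g ^ 4 = 1 := by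
    rwa [show (m * (dH ^ i)⁻¹).g = HS.π m * (HS.π dH ^ i)⁻¹ by
      rw [← map_pow, ← map_inv, ← map_mul]; rfl]
  rw [show m = m * (dH ^ i)⁻¹ * dH ^ i by group, map_mul, map_pow]
  refine (h.cm _ _ e1 h1).mul_left (Commute.pow_left ?_ i)
  rw [Commute, SemiconjBy, ← rfix h h.rd, ← rmul h, ← rmul h, ← map_mul, h2, map_mul]

theorem ψ_y (m : HS L24) : Commute (ψ m) (yG ψ r) :=
  ψ_cm h m (by decide +kernel) (by decide +kernel)

theorem ψ_t (m : HS L24) : Commute (ψ m) (tG ψ r) :=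
  ψ_cm h m (by decide +kernel) (by decide +kernel)

theorem y3 : yG ψ r ^ 3 = 1 := by
  rw [yG, ← rpow h, ← map_pow, (by decide +kernel : cH ^ 3 = 1), map_one, mul_one, h.rr]

omit h in
theorem pw {x : G} (hx : x ^ 3 = 1) (a b : ZMod 3) : x ^ (a + b).val = x ^ a.val * x ^ b.val := by
  rw [ZMod.val_add, ← pow_eq_pow_mod _ hx, pow_add]

theorem add (x x' : J4) : vv ψ r (x + x') = vv ψ r x * vv ψ r x' := by
  rw [vv, vv, vv, Prod.fst_add, Prod.snd_add, pw (y3 h), β_add, mul_assoc, mul_assoc,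
    ← mul_assoc (ψ _), ((ψ_y h _).pow_right _).eq, mul_assoc]

/-- `vv` as a homomorphism -/
def V : Multiplicative J4 →* G :=
  MonoidHom.mk' (fun x => vv ψ r x.toAdd) fun x y => add h x.toAdd y.toAdd

theorem v0 : vv ψ r 0 = 1 := (V h).map_one

theorem nsmul (n : ℕ) (x : J4) : vv ψ r (n • x) = vv ψ r x ^ n :=
  (V h).map_pow (Multiplicative.ofAdd x) n

theorem mem (g : G) : g ∈ JG ψ r ↔ ∃ x, vv ψ r x = g :=
  ⟨fun hg => (closure_le (V h).range).2 (by rintro _ ⟨x, rfl⟩; exact ⟨.ofAdd x, rfl⟩) hg,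
    fun ⟨x, e⟩ => subset_closure ⟨x, e⟩⟩

theorem aT : Acts ψ r (tG ψ r) fun x => (-x.1, x.2) := fun x => by
  have e : tG ψ r * yG ψ r * (tG ψ r)⁻¹ = yG ψ r ^ 2 := by
    rw [tG, yG, ← rmul h, rconj h (ψ H41.C3.tH), conj_inv, ← rconj h, ← rmul h, ← map_inv,
      ← map_mul, ← map_mul, ← rpow h, ← map_pow,
      (by decide +kernel : H41.C3.tH * cH * H41.C3.tH⁻¹ = cH ^ 2)]
  rw [vv, vv, ← conj_mul, ← conj_pow, e, ← (ψ_t h _).eq, mul_inv_cancel_right, ← pow_mul,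
    pow_eq_pow_mod _ (y3 h), (by decide : ∀ a : ZMod 3, 2 * a.val % 3 = (-a).val)]

theorem aK (k : K6) : Acts ψ r (ψ (ιK6 ⟨0, k⟩)) fun x => (x.1, k • x.2) := fun x => by
  rw [vv, vv, ← conj_mul, ((ψ_y h _).pow_right _).eq, mul_inv_cancel_right, ← map_inv, ← map_inv,
    ← map_mul, ← map_mul, ← map_mul, ← map_mul]
  congr 3
  ext : 1 <;> simp

theorem inj : Function.Injective (vv ψ r) := by
  refine fun a b e => Multiplicative.ofAdd.injective ((injective_iff_map_eq_one (V h)).2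
    (fun x (hx : vv ψ r x.toAdd = 1) => ?_) e)
  obtain ⟨a, j⟩ := x
  have e1 := aT h (a, j)
  change vv ψ r (a, j) = 1 at hx
  rw [hx, mul_one, mul_inv_cancel] at e1
  have e2 := add h (a, j) (-a, j)
  rw [hx, ← e1, Prod.mk_add_mk, add_neg_cancel, vvB, mul_one, ← ψ.map_one, h.inj.eq_iff,
    ← ιK6.map_one, ιK6_inj.eq_iff] at e2
  obtain rfl : j = 0 := (by decide : ∀ j : J3, j + j = 0 → j = 0) j (congrArg SD.j e2)
  rw [vv, show (⟨0, 1⟩ : SD J3 K6) = 1 from rfl, map_one, map_one, mul_one, yG, ← rpow h, rconj h,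
    conj_eq_one_iff, ← map_pow, ← ψ.map_one, h.inj.eq_iff] at hx
  obtain rfl := (by decide +kernel : ∀ a : ZMod 3, cH ^ a.val = 1 → a = 0) a hx
  rfl

theorem vy : vv ψ r (1, 0) = yG ψ r := by
  rw [vv, show (⟨0, 1⟩ : SD J3 K6) = 1 from rfl, map_one, map_one, mul_one]; exact pow_one _

theorem aR : Acts ψ r r mR := fun x => by
  obtain ⟨a, -, b, -, c, -, d, -, e1, e2⟩ := (by decide +kernel : ∀ x : J4, ∃ a < 3, ∃ b < 3,
    ∃ c < 3, ∃ d < 3, x = a • (1, 0) + b • (0, 1, 2, 0) + c • (0, pt 0) + d • (0, pt 1) ∧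
      mR x = a • (0, 1, 2, 0) + b • (1, 0) + c • (0, pt 0) + d • (0, pt 1)) x
  rw [e2, e1, rinv h]
  simp only [add h, nsmul h, rmul h, rpow h, vvB, vy h, ← zc_eq, ← dH_eq, rfix h h.rz, rfix h h.rd]
  rw [yG, rrr h]
  rfl

theorem vcomm (a b : J4) : Commute (vv ψ r a) (vv ψ r b) := by
  rw [Commute, SemiconjBy, ← add h, ← add h, add_comm]

theorem Jcomm : JG ψ r ≤ cn (JG ψ r) := fun a ha b hb => by
  obtain ⟨x, rfl⟩ := (mem h a).1 ha
  obtain ⟨y, rfl⟩ := (mem h b).1 hb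
  exact vcomm h y x

theorem zJ : ψ zc ∈ JG ψ r := (mem h _).2 ⟨(0, pt 0), by rw [vvB, zc_eq]⟩
theorem cJ : ψ cH ∈ JG ψ r := (mem h _).2 ⟨(0, 1, 2, 0), vvB _⟩
theorem yJ : yG ψ r ∈ JG ψ r := (mem h _).2 ⟨_, vy h⟩

theorem cA (h1 : Commute g (ψ zc)) (h2 : Commute g (yG ψ r)) (h3 : Commute g (ψ cH)) :
    g ∈ JG ψ r := by
  obtain ⟨m, i, rfl⟩ := h.cy g h1 h2
  have e : Commute (ψ m) (ψ cH) := by
    simpa using h3.mul_left ((ψ_y h cH).pow_right i).symm.inv_left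
  rw [Commute, SemiconjBy, ← map_mul, ← map_mul, h.inj.eq_iff] at e
  obtain ⟨j, rfl⟩ := (by decide +kernel : ∀ m, m * cH = cH * m → ∃ j, m = ιK6 ⟨j, 1⟩) m e
  exact mul_mem ((mem h _).2 ⟨_, vvB j⟩) (pow_mem (yJ h) i)

theorem Jcube (hg : g ∈ JG ψ r) : g ^ 3 = 1 := by
  obtain ⟨x, rfl⟩ := (mem h g).1 hg
  rw [← nsmul h, (by decide +kernel : ∀ x : J4, 3 • x = 0) x, v0 h]

/-- the group `Q = D D^r` -/
def QG : Subgroup G where
  carrier := {g | ∃ m n : HS L24, m.g = 1 ∧ n.g = 1 ∧ g = ψ m * (r * ψ n * r)}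
  one_mem' := ⟨1, 1, rfl, rfl, by simp [h.rr]⟩
  mul_mem' := by
    rintro _ _ ⟨m, n, hm, hn, rfl⟩ ⟨m', n', hm', hn', rfl⟩
    refine ⟨m * m', n * n', by simp [hm, hm'], by simp [hn, hn'], ?_⟩
    rw [map_mul, map_mul, rmul h, mul_assoc, ← mul_assoc (r * ψ n * r),
      ← (h.cm m' n (by simp [hm']) (by simp [hn])).eq]
    simp only [mul_assoc]
  inv_mem' := by
    rintro _ ⟨m, n, hm, hn, rfl⟩
    refine ⟨m⁻¹, n⁻¹, by simp [hm], by simp [hn], ?_⟩
    rw [(h.cm m n (by simp [hm]) (by simp [hn])).eq, mul_inv_rev, map_inv, map_inv, rconj h,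
      rconj h, conj_inv]

theorem ψQ {m : HS L24} (e : m.g = 1) : ψ m ∈ QG h := ⟨m, 1, e, rfl, by simp [h.rr]⟩
theorem rQ {m : HS L24} (e : m.g = 1) : r * ψ m * r ∈ QG h := ⟨1, m, rfl, e, by simp⟩

theorem Qcube (hg : g ∈ QG h) : g ^ 3 = 1 := by
  obtain ⟨m, n, hm, hn, rfl⟩ := hg
  have e := (by decide +kernel : ∀ m : HS L24, m.g = 1 → m ^ 3 = 1)
  rw [(h.cm m n (by simp [hm]) (by simp [hn])).mul_pow, ← rpow h, ← map_pow, ← map_pow, e m hm,
    e n hn]
  simp [h.rr]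

theorem nrQ (hg : Commute g (ψ zc)) : g ∈ nr (QG h) := mem_normalizer_of_cj_le (by
  rintro _ ⟨_, ⟨m, n, hm, hn, rfl⟩, rfl⟩
  have e : g * (r * ψ n * r) * g⁻¹ ∈ QG h := by
    rw [rconj h, show g * (r * ψ n * r⁻¹) * g⁻¹ = g * r * ψ n * (g * r)⁻¹ by group]
    exact h.qn _ (hg.mul_left h.rz) n hn
  rw [map_mul]
  exact mul_mem (h.qn g hg m hm) e)

theorem sigz (M : Subgroup G) (h1 : M ≤ Ce (ψ zc)) (h3 : (Nat.card M).Coprime 3)
    (hn : JG ψ r ≤ nr M) : M = ⊥ := eq_bot_iff.2 fun k hk => by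
  have hz := mem_Ce.1 (h1 hk)
  have key : ∀ a ∈ JG ψ r, a ∈ QG h → Commute k a := fun a ha hq => by
    have e := eq_one_of_mem h3 (mul_mem hk (conj_mem_of_mem_normalizer (hn ha) (inv_mem hk))) (by
      rw [← mul_assoc, ← mul_assoc]
      exact Qcube h (mul_mem (conj_mem_of_mem_normalizer (nrQ h hz) hq) (inv_mem hq)))
    rwa [← mul_assoc, ← mul_assoc, mul_inv_eq_one, mul_inv_eq_iff_eq_mul] at e
  exact eq_one_of_mem h3 hk (Jcube h (cA h hz (key _ (yJ h) (rQ h (by decide +kernel)))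
    (key _ (cJ h) (ψQ h (by decide +kernel)))))

omit h in
theorem acts_pow {M : J4 → J4} (e : Acts ψ r g M) (n : ℕ) : Acts ψ r (g ^ n) M^[n] := by
  induction n with
  | zero => intro x; simp
  | succ n ih => intro x; rw [Function.iterate_succ_apply', ← e, ← ih, pow_succ']; group

omit h in
theorem acts_mul {g' : G} {M M' : J4 → J4} (e : Acts ψ r g M) (e' : Acts ψ r g' M') :
    Acts ψ r (g * g') (M ∘ M') := fun x => by
  rw [Function.comp_apply, ← e, ← e']; group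

/-- the complement of `J` in `S` -/
def T : K9 →* G := MonoidHom.mk'
  (fun k => ψ (ιK6 K6.s) ^ k.i.val * (r * ψ (ιK6 K6.s) * r) ^ k.j.val) fun k l => by
    have e : (ιK6 K6.s).g = 1 := by decide +kernel
    have c := h.cm (ιK6 K6.s) (ιK6 K6.s) (by simp [e]) (by simp [e])
    rw [show (k * l).i = k.i + l.i from rfl, show (k * l).j = k.j + l.j from rfl,
      pw (Qcube h (ψQ h e)), pw (Qcube h (rQ h e))]
    exact (c.pow_pow _ _).mul_mul_mul_comm _ _

theorem TQ (k : K9) : T h k ∈ QG h :=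
  mul_mem (pow_mem (ψQ h (by decide +kernel)) _) (pow_mem (rQ h (by decide +kernel)) _)

theorem aTk (k : K9) : Acts ψ r (T h k) (k • ·) := by
  have e1 : Acts ψ r (ψ (ιK6 K6.s)) mS := fun x => (aK h (K6.mk 2) x).trans
    (congrArg _ ((by decide +kernel : ∀ x : J4, (x.1, K6.mk 2 • x.2) = mS x) x))
  have e2 : Acts ψ r (r * ψ (ιK6 K6.s) * r) mS' := fun x =>
    (acts_mul (acts_mul (aR h) e1) (aR h) x).trans
      (congrArg _ ((by decide +kernel : ∀ x : J4, mR (mS (mR x)) = mS' x) x))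
  exact fun x => acts_mul (acts_pow e1 k.i.val) (acts_pow e2 k.j.val) x

/-- the Sylow subgroup -/
def χ : S0 →* G := MonoidHom.mk' (fun m => vv ψ r m.j * T h m.k) fun a b => by
  rw [SD.mul_j, SD.mul_k, add h, map_mul, ← aTk h a.k b.j]; group

theorem χ_act (m : S0) : Acts ψ r (χ h m) (m.k • ·) := fun x => by
  show vv ψ r m.j * T h m.k * _ * (vv ψ r m.j * T h m.k)⁻¹ = _
  rw [mul_inv_rev, ← mul_assoc, mul_assoc _ (T h m.k), mul_assoc (vv ψ r m.j), aTk h,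
    (vcomm h _ _).eq, mul_inv_cancel_right]

theorem χ_inj : Function.Injective (χ h) := (injective_iff_map_eq_one _).2 fun m e => by
  have e1 : m.k = 1 := (by decide +kernel : ∀ k : K9, (∀ x : J4, k • x = x) → k = 1) _ fun x =>
    inj h (by rw [← χ_act h m x, e]; simp)
  have e2 : vv ψ r m.j * T h m.k = 1 := e
  rw [e1, map_one, mul_one, ← v0 h] at e2
  exact SD.ext (inj h e2) e1

theorem map_JJ : SD.JJ.map (χ h) = JG ψ r := by
  ext g
  rw [mem h]
  refine ⟨?_, fun ⟨x, e⟩ => ⟨⟨x, 1⟩, rfl, (congrArg _ (T h).map_one).trans ((mul_one _).trans e)⟩⟩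
  rintro ⟨⟨x, k⟩, (rfl : k = 1), rfl⟩
  exact ⟨x, ((congrArg _ (T h).map_one).trans (mul_one _)).symm⟩

theorem card_S : Nat.card (χ h).range = 3 ^ 6 := by
  rw [← Nat.card_congr (MonoidHom.ofInjective (χ_inj h)).toEquiv, card_S0]; rfl

theorem isSyl : IsSyl 3 (χ h).range ⊤ := ⟨le_top, .of_card (card_S h), fun P hP h1 _ =>
  (eq_of_le_of_card_ge h1 ((h.syl P hP).trans (card_S h).ge)).symm⟩

theorem J_le : JG ψ r ≤ (χ h).range := map_JJ h ▸ map_le_range _ _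

theorem wc0 (hg : cj g (JG ψ r) ≤ (χ h).range) : g ∈ nr (JG ψ r) := by
  have h1 : ((cj g (JG ψ r)).comap (χ h)).map (χ h) = cj g (JG ψ r) := map_comap_eq_self hg
  rw [← cj_eq_self_iff, ← h1, eq_JJ (A := (cj g (JG ψ r)).comap (χ h)) ?_ ?_, map_JJ]
  · intro a ha b hb
    refine χ_inj h ?_
    rw [map_mul, map_mul]
    exact ((cj_mono g (Jcomm h)).trans (cj_centralizer g _).le) ha _ hb
  · rw [← card_map_of_injective (χ_inj h), h1, card_cj, ← map_JJ h,
      card_map_of_injective (χ_inj h), card_JJ]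

theorem wc (P : Subgroup G) (g : G) (hP : IsPGroup 3 P) (h1 : JG ψ r ≤ P)
    (h2 : cj g (JG ψ r) ≤ P) : g ∈ nr (JG ψ r) := by
  obtain ⟨k, -, h3⟩ := (isSyl h).exists_cj_le hP le_top
  exact (mul_mem_cancel_left (wc0 h ((cj_mono k h1).trans h3))).1
    (wc0 h (cj_cj k g _ ▸ (cj_mono k h2).trans h3))

theorem S_eq : (χ h).range = QG h ⊔ JG ψ r := by
  refine le_antisymm ?_ (sup_le ?_ (J_le h))
  · rintro _ ⟨m, rfl⟩
    exact mul_mem (mem_sup_right ((mem h _).2 ⟨_, rfl⟩)) (mem_sup_left (TQ h _))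
  have hT : ∀ k, T h k ∈ (χ h).range := fun k =>
    ⟨⟨0, k⟩, (congrArg (· * T h k) (v0 h)).trans (one_mul _)⟩
  have e1 : ψ (ιK6 K6.s) ∈ (χ h).range := by
    simpa [T, K9.i, K9.j, K9.mk, ZMod.val_one] using hT (K9.mk 1 0)
  have e2 : r * ψ (ιK6 K6.s) * r ∈ (χ h).range := by
    simpa [T, K9.i, K9.j, K9.mk, ZMod.val_one] using hT (K9.mk 0 1)
  have key := (by decide +kernel : ∀ m : HS L24, m.g = 1 → ∃ a < 3, ∃ b < 3, ∃ c < 3,
    m = zc ^ a * cH ^ b * ιK6 K6.s ^ c)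
  rintro _ ⟨m, n, hm, hn, rfl⟩
  obtain ⟨a, -, b, -, c, -, rfl⟩ := key m hm
  obtain ⟨a', -, b', -, c', -, rfl⟩ := key n hn
  simp only [map_mul, map_pow, rmul h, rpow h, rfix h h.rz]
  exact mul_mem (mul_mem (mul_mem (pow_mem (J_le h (zJ h)) _) (pow_mem (J_le h (cJ h)) _))
    (pow_mem e1 _)) (mul_mem (mul_mem (pow_mem (J_le h (zJ h)) _) (pow_mem (J_le h (yJ h)) _))
      (pow_mem e2 _))

theorem S_le : (χ h).range ≤ Ce (ψ zc) := by
  rw [S_eq]
  refine sup_le ?_ fun g hg => mem_Ce.2 (Jcomm h hg _ (zJ h)).symm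
  rintro _ ⟨m, n, -, -, rfl⟩
  exact mem_Ce.2 ((ψ_z m).mul_left ((h.rz.mul_left (ψ_z n)).mul_left h.rz))

theorem l0 : L0 ψ r where
  add := add h
  inj := inj h
  mem := mem h
  aR := aR h
  aT := aT h
  aK := aK h
  cJ := fun _ hg => cA h (hg _ (zJ h)).symm (hg _ (yJ h)).symm (hg _ (cJ h)).symm
  sigz := sigz h
  wc := wc h
  fus := fun A g hA hg => by
    have hJ := (isSyl h).isPGroup.to_le (J_le h)
    obtain ⟨P, hP, h1⟩ := exists_isSyl_le hJ ((Jcomm h).trans (centralizer_anti hg))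
    obtain ⟨c, hc, h2⟩ := hP.exists_cj_le (isPGroup_cj g hJ)
      ((cj_mono g ((Jcomm h).trans (centralizer_anti hA))).trans (cj_centralizer g A).le)
    rw [cj_cj] at h2
    rw [← cj_centralizer] at hc
    exact ⟨c * g, wc h P _ hP.isPGroup h1 h2, by simpa [mul_assoc] using inv_mem (mem_cj.1 hc)⟩
  sz := fun g h1 h2 h3 => by
    obtain ⟨m, rfl⟩ := zpowers_le.1 ((isSyl h).le_of_le_normalizer'
      (isPGroup_zpowers (k := 1) (by rw [pow_one, h3])) le_top (by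
        rw [S_eq]
        exact le_normalizer_sup (zpowers_le.2 (nrQ h h2)) (zpowers_le.2 h1)))
    exact ⟨_, ZMod.val_lt _, _, ZMod.val_lt _, χ_act h m⟩
  cz := fun g h2 h3 => by
    obtain ⟨l, hl, h4⟩ := ((isSyl h).of_le (S_le h) le_top).exists_cj_le
      (isPGroup_zpowers (k := 1) (by rw [pow_one, h3])) (zpowers_le.2 (mem_Ce.2 h2))
    obtain ⟨m, e⟩ := h4 (conj_mem_cj (mem_zpowers g))
    rcases (by decide +kernel : ∀ m : S0, m ^ 3 = 1 → m.k = 1 ∨ (ιK6 ⟨m.j.2, 1⟩).g = 1) m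
      (χ_inj h (by rw [map_pow, e, conj_pow, h3]; simp)) with e1 | e1
    · obtain ⟨x, e2⟩ := (mem h _).1 ((map_JJ h).le ⟨m, e1, e⟩)
      exact ⟨l, x, mem_Ce.1 hl, e2.symm⟩
    obtain ⟨a, b, ha, hb, e2⟩ : χ h m ∈ QG h :=
      mul_mem (mul_mem (pow_mem (rQ h (by decide +kernel)) _) (ψQ h e1)) (TQ h _)
    obtain ⟨k, x, hk, e3⟩ := h.qc a b ha hb
    exact ⟨k * l, x, hk.mul_left (mem_Ce.1 hl), by rw [← e3, ← e2, e]; group⟩

omit h in
theorem jobL0 : JobL0.{u} := fun _ _ _ _ _ h => l0 h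

end H52.CoL0
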