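import Cfsg.Agent.H41.C3Spec

/-! The model of `C(z, t, y)` (job St of the blueprint `CO2T.md`). -/

set_option autoImplicit false
set_option maxRecDepth 100000
set_option linter.unusedSectionVars false
open Cfsg H44 H56.L3 H42.L3 H98 H14 Subgroup H41.C3
open scoped commutatorElement

namespace H52.CoSt

universe u

theorem mul27 (a b : H27) : a * b = ⟨a.z + b.z - om a.v b.v, a.v + b.v, ()⟩ := by
  revert a b; decide +kernel

/-- the automorphism of `3^{1+2}` given by a matrix -/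
def bw (w : L24) : H27 →* H27 :=
  MonoidHom.mk' (fun m => ⟨m.z, HS.act w m.v, ()⟩) fun a b => by
    simp only [mul27, HS.act_add, HS.om_act, (by decide +kernel : ∀ l : L24, HS.dt l = 1) w,
      one_mul]

theorem bw_mul (l w : L24) (m : H27) : bw (l * w) m = bw l (bw w m) :=
  HS.ext rfl (HS.act_mul _ _ _) rfl

theorem bw_one (m : H27) : bw 1 m = m := HS.ext rfl (HS.act_one _) rfl

theorem bw_surj (w : L24) (m : H27) : ∃ n, bw w n = m :=
  ⟨bw w⁻¹ m, by rw [← bw_mul, mul_inv_cancel, bw_one]⟩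

theorem bw_inj (w : L24) : Function.Injective (bw w) :=
  Finite.injective_iff_surjective.2 (bw_surj w)

theorem bw_faith : ∀ l l' : L24, bw l hp = bw l' hp → bw l hq = bw l' hq → l = l' := by
  decide +kernel

/-- the quaternion subgroup -/
def Q8L : Subgroup L24 where
  carrier := {l | l ^ 4 = 1}
  one_mem' := by decide +kernel
  mul_mem' {a b} := (by decide +kernel : ∀ g h : L24, g ^ 4 = 1 → h ^ 4 = 1 → (g * h) ^ 4 = 1) a b
  inv_mem' {a} := (by decide +kernel : ∀ g : L24, g ^ 4 = 1 → g⁻¹ ^ 4 = 1) a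

theorem card_Q8L : Nat.card Q8L = 8 := by
  rw [show Nat.card Q8L = Nat.card {l : L24 // l ^ 4 = 1} from rfl, Nat.card_eq_fintype_card]
  decide +kernel

theorem four_of_64 : ∀ l : L24, l ^ 64 = 1 → l ^ 4 = 1 := by decide +kernel

variable {G : Type u} [Group G]

/-- `g` acts on `κ` by the matrix `l` -/
def A (κ : H27 →* G) (g : G) (l : L24) : Prop := ∀ m, g * κ m * g⁻¹ = κ (bw l m)

theorem A.mul {κ : H27 →* G} {g g' : G} {l l' : L24} (h : A κ g l) (h' : A κ g' l') :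
    A κ (g * g') (l * l') := fun m => by
  rw [bw_mul, ← h, ← h']; group

theorem A.comm {κ : H27 →* G} {g : G} (h : A κ g 1) (m : H27) : Commute g (κ m) :=
  mul_inv_eq_iff_eq_mul.1 ((h m).trans (by rw [bw_one]))

theorem A.of_comm {κ : H27 →* G} {g : G} (h : ∀ m, Commute g (κ m)) : A κ g 1 := fun m => by
  rw [bw_one, (h m).eq, mul_inv_cancel_right]

variable [Finite G] {z s : G} {Q R : Subgroup G} {π : Ce z →* alternatingGroup (Fin 5)}
  {d f t r : G} {κ : H27 →* G} (M : Mid z s Q R π d f t r κ) {g k : G} {l l' : L24}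

/-- the group `Y` -/
abbrev YY (z s t : G) : Subgroup G := Ce z ⊓ Ce s ⊓ Ce t

include M

theorem A_uniq (h : A κ g l) (h' : A κ g l') : l = l' :=
  bw_faith _ _ (M.κi ((h hp).symm.trans (h' hp))) (M.κi ((h hq).symm.trans (h' hq)))

theorem κQ (m : H27) : κ m ∈ Q := (M.κr.le ⟨m, rfl⟩).1
theorem κt (m : H27) : κ m ∈ Ce t := (M.κr.le ⟨m, rfl⟩).2
theorem z3 : z ^ 3 = 1 := M.ord ▸ pow_orderOf_eq_one z
theorem rinv : r⁻¹ = r := inv_eq_of_mul_eq_one_right M.rr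
theorem rs : Commute r s := (M.xs.z_comm r M.rR).symm
theorem ts : Commute t s := (M.xs.z_comm t M.tR).symm
theorem rz : Commute r z := mem_Ce.1 (M.Rz M.rR)
theorem rtsr : r * (t * s) * r = t := by
  rw [← M.rt, ← mul_assoc, ← mul_assoc, M.rr, one_mul, mul_assoc, M.rr, mul_one]
theorem rrr (g : G) : r * (r * g * r) * r = g := by
  rw [← mul_assoc, ← mul_assoc, M.rr, one_mul, mul_assoc, M.rr, mul_one]
theorem rmul (a b : G) : r * (a * b) * r = r * a * r * (r * b * r) := by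
  rw [show r * a * r * (r * b * r) = r * a * (r * r) * b * r by group, M.rr]; group
theorem rcomm {a b : G} (h : Commute a b) : Commute (r * a * r) (r * b * r) := by
  rw [Commute, SemiconjBy, ← rmul M, h.eq, rmul M]
theorem rfix {a : G} (h : Commute r a) : r * a * r = a := by rw [h.eq, mul_assoc, M.rr, mul_one]

theorem rY (hg : g ∈ YY z s t) : r * g * r ∈ YY z s t := by
  refine ⟨⟨mem_Ce.2 ?_, mem_Ce.2 ?_⟩, mem_Ce.2 ?_⟩
  · exact rfix M (rz M) ▸ rcomm M (mem_Ce.1 hg.1.1)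
  · exact rfix M (rs M) ▸ rcomm M (mem_Ce.1 hg.1.2)
  · exact rtsr M ▸ rcomm M (Commute.mul_right (mem_Ce.1 hg.2) (mem_Ce.1 hg.1.2))

theorem zY : z ∈ YY z s t :=
  ⟨⟨mem_Ce.2 rfl, mem_Ce.2 (mem_Ce.1 (M.Rz M.xs.z_mem)).symm⟩, mem_Ce.2 (mem_Ce.1 (M.Rz M.tR)).symm⟩

theorem dY : d ∈ YY z s t := ⟨M.dz, mem_Ce.2 M.dt⟩

theorem tsY : t * s ∈ YY z s t :=
  ⟨⟨M.Rz (mul_mem M.tR M.xs.z_mem), mem_Ce.2 ((ts M).mul_left (Commute.refl s))⟩,
    mem_Ce.2 ((Commute.refl t).mul_left (ts M).symm)⟩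

theorem exists_A (hg : g ∈ YY z s t) : ∃ l, A κ g l := by
  let κ' : H27 →* (Ce z ⊓ Ce t : Subgroup G) := κ.codRestrict _ fun m => ⟨M.Qz (κQ M m), κt M m⟩
  have : κ'.range.Normal := ⟨by
    rintro _ ⟨m, rfl⟩ x
    obtain ⟨n, hn⟩ := M.κr.ge (mem_inf.2 ⟨conj_mem_of_mem_normalizer (M.Qn x.2.1) (κQ M m),
      mul_mem (mul_mem (mem_inf.1 x.2).2 (κt M m)) (inv_mem (mem_inf.1 x.2).2)⟩)
    exact ⟨n, Subtype.ext hn⟩⟩
  obtain ⟨α, hα⟩ := exists_alpha (f := κ') (fun a b e => M.κi (congrArg Subtype.val e))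
    fun x => Subtype.ext (by
      show (x : G) * κ hz = κ hz * x
      rw [M.κz]; exact mem_Ce.1 x.2.1)
  refine ⟨α ⟨g, hg.1.1, hg.2⟩, ?_⟩
  generalize hl : α ⟨g, hg.1.1, hg.2⟩ = l
  have h1 : ∀ m : H27, m.z = 0 → g * κ m * g⁻¹ = κ (bw l m) := fun m hm => by
    obtain ⟨j, e⟩ := hα ⟨g, hg.1.1, hg.2⟩ m
    have e1 : g * κ m * g⁻¹ = κ ⟨j, HS.act l m.v, ()⟩ := hl ▸ congrArg Subtype.val e
    have e2 : s * (g * κ m * g⁻¹) * s⁻¹ = (g * κ m * g⁻¹)⁻¹ := by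
      calc _ = (s * g * s⁻¹) * (s * κ m * s⁻¹) * (s * g * s⁻¹)⁻¹ := by group
        _ = _ := by
          rw [← mem_Ce.1 hg.1.2, mul_inv_cancel_right, M.κs,
            (by decide +kernel : ∀ m : H27, m.z = 0 → ng m = m⁻¹) m hm, map_inv]; group
    rw [e1, M.κs, ← map_inv] at e2
    rw [e1]
    exact congrArg κ (HS.ext (((by decide +kernel : ∀ m : H27, ng m = m⁻¹ → m.z = 0) _
      (M.κi e2)).trans hm.symm) rfl rfl)
  exact h27_ext (f := (MulAut.conj g).toMonoidHom.comp κ) (g := κ.comp (bw l)) (h1 hp rfl)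
    (h1 hq rfl) (by
      show g * κ hz * g⁻¹ = κ (bw l hz)
      rw [(by decide +kernel : ∀ l, bw l hz = hz), M.κz, mem_Ce'.1 hg.1.1])

theorem ker_A (hg : g ∈ YY z s t) (h1 : A κ g 1) (h2 : A κ (r * g * r) 1) : g ∈ zpowers z := by
  obtain ⟨m, rfl⟩ := M.κr.ge ⟨M.faith g hg.1.1 fun q hq => by
    obtain ⟨m, n, rfl⟩ := M.dec q hq
    have := rcomm M (h2.comm n)
    rw [rrr M] at this
    rw [commutatorElement_eq_one_iff_commute.2 ((h1.comm m).mul_right this)]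
    exact one_mem _, hg.2⟩
  have e := M.κs m
  rw [← mem_Ce.1 hg.1.2, mul_inv_cancel_right] at e
  rw [(by decide +kernel : ∀ m : H27, m = ng m → m = hz ^ m.z.val) m (M.κi e), map_pow, M.κz]
  exact pow_mem (mem_zpowers z) _

theorem exists_α : ∃ α : YY z s t →* L24 × L24,
    ∀ g : YY z s t, A κ g (α g).1 ∧ A κ (r * g * r) (α g).2 := by
  choose a ha using fun g : YY z s t => exists_A M g.2
  choose b hb using fun g : YY z s t => exists_A M (rY M g.2)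
  refine ⟨MonoidHom.mk' (fun g => (a g, b g)) fun g g' => Prod.ext
    (A_uniq M (ha _) ((ha g).mul (ha g'))) (A_uniq M (hb _) ?_), fun g => ⟨ha g, hb g⟩⟩
  rw [coe_mul, rmul M]
  exact (hb g).mul (hb g')

theorem zp_eq (h1 : g ∈ zpowers z) (h2 : g ^ 4 = 1) : g = 1 := by
  obtain ⟨i, rfl⟩ := h1
  have : (z ^ i) ^ 3 = 1 := by
    rw [← zpow_natCast, ← zpow_mul, mul_comm, zpow_mul, zpow_natCast, z3 M, one_zpow]
  rwa [pow_succ, this, one_mul] at h2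

theorem zp_comm (h1 : g ∈ zpowers z) (h2 : k ∈ Ce z) : Commute k g := by
  obtain ⟨i, rfl⟩ := h1
  exact Commute.zpow_right (mem_Ce.1 h2) i

/-- the structure of `Y` -/
structure YS (κ : H27 →* G) (r : G) (Y K : Subgroup G) : Prop where
  mem : ∀ g, g ∈ K ↔ g ∈ Y ∧ g ^ 4 = 1
  ex : ∀ x y : L24, x ^ 4 = 1 → y ^ 4 = 1 → ∃ k ∈ K, A κ k x ∧ A κ (r * k * r) y
  inj : ∀ k ∈ K, A κ k 1 → A κ (r * k * r) 1 → k = 1
  ns : ¬ ∀ x y : L24, ∃ k ∈ Y, A κ k x ∧ A κ (r * k * r) y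

theorem exists_K : ∃ K, YS κ r (YY z s t) K := by
  obtain ⟨α, hα⟩ := exists_α M
  have hk : ∀ g, α g = 1 → (g : G) ∈ zpowers z := fun g e =>
    ker_A M g.2 (by simpa [e] using (hα g).1) (by simpa [e] using (hα g).2)
  obtain ⟨K, hK⟩ := Sylow.exists_subgroup_card_pow_prime (G := YY z s t) 2 (n := 6)
    (by rw [M.card]; norm_num)
  have h64 : ∀ k ∈ K, k ^ 64 = 1 := fun k hk => congrArg Subtype.val
    (show (⟨k, hk⟩ : K) ^ 64 = 1 from by rw [show 64 = Nat.card K from hK.symm]; exact pow_card_eq_one')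
  have hinj : ∀ k ∈ K, α k = 1 → k = 1 := fun k hk' e => Subtype.ext (by
    obtain ⟨i, hi⟩ := hk k e
    have h1 : (k : G) ^ 3 = 1 := by
      rw [← hi, ← zpow_natCast, ← zpow_mul, mul_comm, zpow_mul, zpow_natCast, z3 M, one_zpow]
    have h2 : (k : G) ^ 64 = 1 := congrArg Subtype.val (h64 k hk')
    rwa [show 64 = 3 * 21 + 1 from rfl, pow_succ, pow_mul, h1, one_pow, one_mul] at h2)
  have hle : K.map α ≤ Q8L.prod Q8L := by
    rintro _ ⟨k, hk, rfl⟩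
    have := congrArg α (h64 k hk)
    rw [map_pow, map_one] at this
    exact ⟨four_of_64 _ (congrArg Prod.fst this), four_of_64 _ (congrArg Prod.snd this)⟩
  have heq : K.map α = Q8L.prod Q8L := eq_of_le_of_card_ge hle (by
    rw [Nat.card_congr (prodEquiv _ _).toEquiv, Nat.card_prod, card_Q8L,
      show K.map α = (α.comp K.subtype).range by rw [MonoidHom.range_comp, range_subtype],
      ← Nat.card_congr (MonoidHom.ofInjective (f := α.comp K.subtype)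
        ((injective_iff_map_eq_one _).2 fun k e => Subtype.ext (hinj k k.2 e))).toEquiv, hK]
    norm_num)
  have h4 : ∀ k ∈ K, k ^ 4 = 1 := fun k hk => hinj _ (pow_mem hk 4) (by
    have := hle ⟨k, hk, rfl⟩
    rw [map_pow]
    exact Prod.ext this.1 this.2)
  refine ⟨K.map (YY z s t).subtype, fun g => ⟨?_, fun ⟨hg, e⟩ => ?_⟩, fun x y hx hy => ?_, ?_,
    fun hs => ?_⟩
  · rintro ⟨k, hk, rfl⟩
    exact ⟨k.2, congrArg Subtype.val (h4 k hk)⟩
  · have e1 : α ⟨g, hg⟩ ^ 4 = 1 := by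
      rw [← map_pow, show (⟨g, hg⟩ : YY z s t) ^ 4 = 1 from Subtype.ext e, map_one]
    obtain ⟨k, hk', e2⟩ := heq.ge (show α ⟨g, hg⟩ ∈ Q8L.prod Q8L from
      ⟨congrArg Prod.fst e1, congrArg Prod.snd e1⟩)
    have e3 : (k : G)⁻¹ * g ∈ zpowers z :=
      hk (k⁻¹ * ⟨g, hg⟩) (by rw [map_mul, map_inv, e2, inv_mul_cancel])
    have e4 := zp_eq M e3 (by
      have c := zp_comm M e3 k.2.1.1
      have : ((k : G) * ((k : G)⁻¹ * g)) ^ 4 = 1 := by rw [mul_inv_cancel_left, e]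
      rwa [Commute.mul_pow c, show (k : G) ^ 4 = 1 from congrArg Subtype.val (h4 k hk'),
        one_mul] at this)
    exact ⟨k, hk', inv_mul_eq_one.1 e4⟩
  · obtain ⟨k, hk', e⟩ := heq.ge (show (x, y) ∈ Q8L.prod Q8L from ⟨hx, hy⟩)
    exact ⟨k, ⟨k, hk', rfl⟩, by simpa [e] using hα k⟩
  · rintro _ ⟨k, hk', rfl⟩ e1 e2
    exact congrArg Subtype.val (hinj k hk' (Prod.ext (A_uniq M (hα k).1 e1) (A_uniq M (hα k).2 e2)))
  have h1 := α.ker.card_mul_index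
  rw [index_ker, MonoidHom.range_eq_top.2 (fun x => by
    obtain ⟨k, hk, e1, e2⟩ := hs x.1 x.2
    exact ⟨⟨k, hk⟩, Prod.ext (A_uniq M (hα _).1 e1) (A_uniq M (hα _).2 e2)⟩), card_top,
    Nat.card_prod, L24.card_eq, M.card] at h1
  have h2 : (⟨z, zY M⟩ : YY z s t) ∈ α.ker := by
    have c : A κ z 1 := A.of_comm fun m => (mem_Ce.1 (M.Qz (κQ M m))).symm
    exact Prod.ext (A_uniq M (hα _).1 c) (A_uniq M (hα _).2 (by rwa [rfix M (rz M)]))
  rw [card_eq_one.1 (show Nat.card α.ker = 1 by omega), mem_bot] at h2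
  have := M.ord
  rw [show z = 1 from congrArg Subtype.val h2, orderOf_one] at this
  omega

omit M in
theorem A.inv (h : A κ g l) : A κ g⁻¹ l⁻¹ := fun m => by
  have := h (bw l⁻¹ m)
  rw [← bw_mul, mul_inv_cancel, bw_one] at this
  rw [← this]; group

omit M in
theorem A.pow (h : A κ g l) (n : ℕ) : A κ (g ^ n) (l ^ n) := by
  induction n with
  | zero => intro m; simp [bw_one]
  | succ n ih => rw [pow_succ, pow_succ]; exact ih.mul h

theorem rinv' (a : G) : r * a⁻¹ * r = (r * a * r)⁻¹ := by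
  rw [mul_inv_rev, mul_inv_rev, rinv M, mul_assoc]

/-- the complement `SL₂(3)` -/
structure GS (z s t r d : G) (κ : H27 →* G) (γ : L24 →* G) : Prop where
  mem : ∀ l, γ l ∈ YY z s t
  act : ∀ l, A κ (γ l) l
  gd : γ (L24.mk 3) = d
  gt : γ (L24.mk 6) = t * s
  two : ∀ l, l ^ 4 = 1 → A κ (r * γ l * r) 1
  cm : ∀ x y, x ^ 4 = 1 → y ^ 4 = 1 → Commute (γ x) (r * γ y * r)
  all : ∀ g ∈ YY z s t, ∃ l x, x ^ 4 = 1 ∧ ∃ c ∈ zpowers z, g = c * γ l * (r * γ x * r)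

theorem exists_γ (hd : A κ d (L24.mk 3)) : ∃ γ, GS z s t r d κ γ := by
  obtain ⟨K, hK⟩ := exists_K M
  have uq : ∀ {k k' x y}, k ∈ K → k' ∈ K → A κ k x → A κ k' x → A κ (r * k * r) y →
      A κ (r * k' * r) y → k = k' := fun {k k' x y} a b c d e f => inv_mul_eq_one.1
    (hK.inj _ (mul_mem (inv_mem a) b) (by simpa using c.inv.mul d) (by
      rw [rmul M, rinv' M]; simpa using e.inv.mul f))
  let K1 : Subgroup G :=
    { carrier := {k | k ∈ K ∧ A κ (r * k * r) 1}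
      one_mem' := ⟨one_mem _, by simpa [M.rr] using A.of_comm fun m => Commute.one_left _⟩
      mul_mem' := fun a b => ⟨mul_mem a.1 b.1, by rw [rmul M]; simpa using a.2.mul b.2⟩
      inv_mem' := fun a => ⟨inv_mem a.1, by rw [rinv' M]; simpa using a.2.inv⟩ }
  have hn : zpowers d ≤ nr K1 := zpowers_le.2 (mem_normalizer_of_cj_le (by
    rintro _ ⟨k, hk, rfl⟩
    have h1 := (hK.mem k).1 hk.1
    refine ⟨(hK.mem _).2 ⟨mul_mem (mul_mem (dY M) h1.1) (inv_mem (dY M)), ?_⟩, ?_⟩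
    · rw [← map_pow, h1.2, map_one]
    · show A κ (r * (d * k * d⁻¹) * r) 1
      rw [rmul M, rmul M, rinv' M, rfix M M.dr.symm]
      simpa using (hd.mul hk.2).mul hd.inv))
  have hY : K1 ⊔ zpowers d ≤ YY z s t :=
    sup_le (fun k hk => ((hK.mem k).1 hk.1).1) (zpowers_le.2 (dY M))
  choose a ha using fun g : (K1 ⊔ zpowers d : Subgroup G) => exists_A M (hY g.2)
  let β : (K1 ⊔ zpowers d : Subgroup G) →* L24 :=
    MonoidHom.mk' a fun g g' => A_uniq M (ha _) ((ha g).mul (ha g'))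
  have dec : ∀ g ∈ K1 ⊔ zpowers d, ∃ k ∈ K1, ∃ i < 3, g = k * d ^ i := fun g hg => by
    obtain ⟨k, hk, _, ⟨i, rfl⟩, rfl⟩ := (mem_sup_right_norm hn).1 hg
    refine ⟨k, hk, (i % 3).toNat, by omega, congrArg _ ?_⟩
    rw [← zpow_natCast, Int.toNat_of_nonneg (by omega)]
    exact zpow_eq_zpow_emod' i M.d3
  have h4 : ∀ k ∈ K, ∀ x, A κ k x → x ^ 4 = 1 := fun k hk x e => A_uniq M (e.pow 4) (by
    rw [((hK.mem k).1 hk).2]; exact A.of_comm fun m => Commute.one_left _)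
  have key : ∀ g : (K1 ⊔ zpowers d : Subgroup G), β g ^ 4 = 1 → (g : G) ∈ K1 := fun g e => by
    obtain ⟨k, hk, i, hi, e1⟩ := dec g g.2
    obtain ⟨x, hx⟩ := exists_A M ((hK.mem k).1 hk.1).1
    have e2 : β g = x * L24.mk 3 ^ i := A_uniq M (ha g) (e1 ▸ hx.mul (hd.pow i))
    rw [e1, (by decide +kernel : ∀ x : L24, x ^ 4 = 1 → ∀ i < 3, (x * L24.mk 3 ^ i) ^ 4 = 1 → i = 0)
      x (h4 k hk.1 x hx) i hi (e2 ▸ e), pow_zero, mul_one]
    exact hk
  have hb : Function.Bijective β := ⟨(injective_iff_map_eq_one _).2 fun g e => Subtype.ext (by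
      have := key g (by rw [e, one_pow])
      exact hK.inj _ this.1 (e ▸ ha g : A κ g 1) this.2), fun l => by
    obtain ⟨i, -, e⟩ := (by decide +kernel : ∀ l : L24, ∃ i < 3, (l * (L24.mk 3 ^ i)⁻¹) ^ 4 = 1) l
    obtain ⟨k, hk, e1, e2⟩ := hK.ex _ 1 e (one_pow _)
    exact ⟨⟨k * d ^ i, mul_mem_sup ⟨hk, e2⟩ (pow_mem (mem_zpowers d) i)⟩,
      A_uniq M (ha _) (by simpa using e1.mul (hd.pow i))⟩⟩
  let γ : L24 →* G := (Subgroup.subtype _).comp (MulEquiv.ofBijective β hb).symm.toMonoidHom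
  have hγ : ∀ l, β ((MulEquiv.ofBijective β hb).symm l) = l := fun l =>
    (MulEquiv.ofBijective β hb).apply_symm_apply l
  have h1 : ∀ l, A κ (γ l) l := fun l => by
    have := ha ((MulEquiv.ofBijective β hb).symm l)
    rwa [show a _ = l from hγ l] at this
  have h2 : ∀ l, l ^ 4 = 1 → γ l ∈ K1 := fun l e =>
    key ((MulEquiv.ofBijective β hb).symm l) (by rw [hγ, e])
  have h3 : ∀ l, γ l ∈ YY z s t := fun l => hY (Subtype.prop _)
  have rK : ∀ k ∈ K, r * k * r ∈ K := fun k hk => (hK.mem _).2 ⟨rY M ((hK.mem k).1 hk).1, by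
    rw [← rinv M, rinv M, show r * k * r = r * k * r⁻¹ by rw [rinv M], conj_pow,
      ((hK.mem k).1 hk).2]; simp⟩
  have h5 : ∀ g ∈ YY z s t, ∀ x, A κ g 1 → A κ (r * g * r) x → x ^ 4 = 1 := fun g hg x e1 e2 => by
    by_contra hx
    refine hK.ns fun a b => ?_
    obtain ⟨y, hy⟩ := exists_A M (rY M (h3 a))
    obtain ⟨i, -, e⟩ := (by decide +kernel : ∀ x : L24, x ^ 4 ≠ 1 → ∀ y : L24,
      ∃ i < 3, (y * (x ^ i)⁻¹) ^ 4 = 1) x hx (y⁻¹ * b)
    obtain ⟨k, hk, e3, e4⟩ := hK.ex 1 _ (one_pow _) e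
    refine ⟨γ a * (k * g ^ i), mul_mem (h3 a) (mul_mem ((hK.mem k).1 hk).1 (pow_mem hg i)),
      by simpa using (h1 a).mul (e3.mul (e1.pow i)), ?_⟩
    have e5 : r * g ^ i * r = (r * g * r) ^ i := by
      rw [show r * g * r = r * g * r⁻¹ by rw [rinv M], conj_pow, rinv M]
    rw [rmul M, rmul M, e5]
    simpa using hy.mul (e4.mul (e2.pow i))
  refine ⟨γ, h3, h1, ?_, ?_, fun l e => (h2 l e).2, fun x y hx hy => ?_, fun g hg => ?_⟩
  · exact congrArg Subtype.val ((MulEquiv.symm_apply_eq _).2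
      (A_uniq M hd (ha ⟨d, mem_sup_right (mem_zpowers d)⟩)) :
      (MulEquiv.ofBijective β hb).symm _ = ⟨d, mem_sup_right (mem_zpowers d)⟩)
  · refine uq (h2 _ (by decide +kernel)).1 ((hK.mem _).2 ⟨tsY M, ?_⟩) (h1 _) (fun m => ?_)
      (h2 _ (by decide +kernel)).2 ?_
    · rw [(ts M).mul_pow, show 4 = 2 * 2 from rfl, pow_mul, pow_mul, pow_two t, pow_two s, M.tt,
        M.xs.z_sq]; simp
    · rw [show t * s * κ m * (t * s)⁻¹ = t * (s * κ m * s⁻¹) * t⁻¹ by group, M.κs,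
        ← mem_Ce.1 (κt M _), mul_inv_cancel_right,
        (by decide +kernel : ∀ m, ng m = bw (L24.mk 6) m)]
    · rw [rtsr M]; exact A.of_comm fun m => (mem_Ce.1 (κt M m)).symm
  · have a := h2 x hx
    have b := h2 y hy
    refine uq (x := x) (y := y) (mul_mem a.1 (rK _ b.1)) (mul_mem (rK _ b.1) a.1)
      (by simpa using (h1 x).mul b.2) (by simpa using b.2.mul (h1 x)) ?_ ?_ <;> rw [rmul M, rrr M]
    · simpa using a.2.mul (h1 y)
    · simpa using (h1 y).mul a.2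
  obtain ⟨l, hl⟩ := exists_A M hg
  have e1 : A κ ((γ l)⁻¹ * g) 1 := by simpa using (h1 l).inv.mul hl
  have m1 := mul_mem (inv_mem (h3 l)) hg
  obtain ⟨x, hx⟩ := exists_A M (rY M m1)
  have e2 := h5 _ m1 x e1 hx
  have e3 := ker_A M (mul_mem m1 (inv_mem (rY M (h3 x)))) (by simpa using e1.mul (h2 x e2).2.inv)
    (by rw [rmul M, rinv' M, rrr M]; simpa using hx.mul (h1 x).inv)
  refine ⟨l, x, e2, _, e3, ?_⟩
  rw [← (zp_comm M e3 (h3 l).1.1).eq]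
  group

omit M in
theorem h7 (a b : HS L24) : (⟨(a * b).z, (a * b).v, ()⟩ : H27) =
    ⟨a.z, a.v, ()⟩ * bw a.g ⟨b.z, b.v, ()⟩ := by
  rw [mul27]
  exact HS.ext (by simp [bw, (by decide +kernel : ∀ l : L24, HS.dt l = 1) a.g]) rfl rfl

variable {γ : L24 →* G} (S : GS z s t r d κ γ)

omit M in
/-- the untwisted model -/
def ψ0 : HS L24 →* G := MonoidHom.mk' (fun m => κ ⟨m.z, m.v, ()⟩ * γ m.g) fun a b => by
  rw [h7, map_mul, ← S.act a.g ⟨b.z, b.v, ()⟩, HS.mul_g, map_mul]; group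

omit M in
/-- the model -/
def ψ : HS L24 →* G := (ψ0 S).comp (lam 2)

omit M in
theorem ψ_four {m : HS L24} (h : m.g ^ 4 = 1) : ψ S m = κ ⟨m.z, m.v, ()⟩ * γ m.g := by
  show κ ⟨m.z + 2 * chi m.g, m.v, ()⟩ * γ m.g = _
  rw [(by decide +kernel : ∀ l : L24, l ^ 4 = 1 → chi l = 0) _ h, mul_zero, add_zero]

omit M in
theorem ψ_κ (n : H27) : ψ S ⟨n.z, n.v, 1⟩ = κ n := by
  rw [ψ_four S (one_pow _), map_one, mul_one]

omit M in
theorem ψ_one {m : HS L24} (h : m.g = 1) : ψ S m = κ ⟨m.z, m.v, ()⟩ := by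
  rw [ψ_four S (by rw [h, one_pow]), h, map_one, mul_one]

omit M in
theorem ψ_γ {x : L24} (h : x ^ 4 = 1) : ψ S ⟨0, 0, x⟩ = γ x := by
  rw [ψ_four S (m := ⟨0, 0, x⟩) h]
  show κ 1 * γ x = γ x
  rw [map_one, one_mul]

omit M in
theorem ψ_surj (n : H27) (l : L24) : ∃ m, ψ S m = κ n * γ l := by
  obtain ⟨m, e⟩ := (lam_bij 2).2 ⟨n.z, n.v, l⟩
  have e1 : ψ S m = ψ0 S (lam 2 m) := MonoidHom.comp_apply _ _ _
  have e2 : ψ0 S ⟨n.z, n.v, l⟩ = κ n * γ l := rfl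
  exact ⟨m, by rw [e1, e, e2]⟩

theorem ψ_z : ψ S zc = z := (ψ_κ S hz).trans M.κz

omit M in
theorem ψ_c : ψ S cH = κ hp := (congrArg _ (by decide +kernel)).trans (ψ_κ S hp)

omit M in
theorem ψ_d : ψ S dH = d := by
  refine (congrArg (ψ0 S) (by decide +kernel : lam 2 dH = ⟨0, 0, L24.mk 3⟩)).trans ?_
  exact ((congrArg (· * γ _) κ.map_one).trans (one_mul _)).trans S.gd

theorem ψ_t : tG (ψ S) r = t := by
  rw [tG, (by decide +kernel : H41.C3.tH = ⟨0, 0, L24.mk 6⟩), ψ_γ S (by decide +kernel), S.gt, rtsr M]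

theorem ψ_inj : Function.Injective (ψ S) := Function.Injective.comp (g := ψ0 S) (f := lam 2)
  ((injective_iff_map_eq_one (ψ0 S)).2 fun m hm => by
    have e : γ m.g = κ (⟨m.z, m.v, ()⟩ : H27)⁻¹ := by
      rw [map_inv]; exact eq_inv_of_mul_eq_one_right hm
    have e1 : ∀ n, bw m.g n = (⟨m.z, m.v, ()⟩ : H27)⁻¹ * n * (⟨m.z, m.v, ()⟩ : H27)⁻¹⁻¹ := fun n =>
      M.κi (by rw [← S.act, e]; simp)
    have e2 : m.g = 1 := (by decide +kernel : ∀ (l : L24) (a : H27),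
      bw l hp = a * hp * a⁻¹ → bw l hq = a * hq * a⁻¹ → l = 1) _ _ (e1 hp) (e1 hq)
    rw [e2, map_one, ← κ.map_one, M.κi.eq_iff, eq_comm, inv_eq_one] at e
    exact HS.ext (congrArg HS.z e :) (congrArg HS.v e :) e2) (lam_bij 2).1

theorem ψ_cm (m n : HS L24) (hm : m.g ^ 4 = 1) (hn : n.g ^ 4 = 1) :
    Commute (ψ S m) (r * ψ S n * r) := by
  rw [ψ_four S hm, ψ_four S hn, rmul M]
  refine ((M.cm _ _).mul_right ((S.two _ hn).comm _).symm).mul_left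
    (Commute.mul_right ?_ (S.cm _ _ hm hn))
  have := rcomm M ((S.two _ hm).comm ⟨n.z, n.v, ()⟩)
  rwa [rrr M] at this

theorem QR (h1 : g ∈ Q) (h2 : g ∈ R) : g = 1 := by
  have e1 := orderOf_dvd_natCard (⟨g, h1⟩ : Q)
  have e2 := orderOf_dvd_natCard (⟨g, h2⟩ : R)
  rw [M.cardQ, orderOf_mk] at e1
  rw [M.cardR, orderOf_mk] at e2
  exact orderOf_eq_one_iff.1 (Nat.eq_one_of_dvd_coprimes (by norm_num) e1 e2)

theorem κ_zp {c : G} (hc : c ∈ zpowers z) : ∃ n, κ n = c := by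
  obtain ⟨i, rfl⟩ := hc
  exact ⟨hz ^ i, by rw [map_zpow, M.κz]⟩

theorem ψ_ct (g : G) (h1 : Commute g z) (h2 : Commute g t) :
    ∃ m, ∃ n ∈ Q8H, g = ψ S m * (r * ψ S n * r) := by
  obtain ⟨q, hq, hl⟩ := M.frat g (mem_Ce.2 h1)
  have hz : q⁻¹ * g ∈ Ce z := mul_mem (inv_mem (M.Qz hq)) (mem_Ce.2 h1)
  have e1 : t * (q⁻¹ * g * t⁻¹ * (q⁻¹ * g)⁻¹) = t * q⁻¹ * t⁻¹ * q := by
    rw [mul_assoc q⁻¹ g, h2.inv_right.eq]; group
  have e2 := QR M (e1 ▸ mul_mem (conj_mem_of_mem_normalizer (M.Qn (M.Rz M.tR)) (inv_mem hq)) hq)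
    (mul_mem M.tR (conj_mem_of_mem_normalizer (M.Rn ⟨hz, hl⟩) (inv_mem M.tR)))
  have ht : q ∈ Ce t := by
    rw [e1, mul_assoc, mul_assoc, mul_eq_one_iff_eq_inv, mul_inv_rev, mul_inv_rev, inv_inv,
      inv_inv, eq_comm, mul_assoc, inv_mul_eq_iff_eq_mul] at e2
    exact mem_Ce.2 e2.symm
  obtain ⟨a, rfl⟩ := M.κr.ge ⟨hq, ht⟩
  obtain ⟨l, x, hx, c, hc, e⟩ := S.all _
    (mem_inf.2 ⟨⟨hz, hl⟩, mul_mem (inv_mem ht) (mem_Ce.2 h2)⟩)
  obtain ⟨n, rfl⟩ := κ_zp M hc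
  obtain ⟨m, hm⟩ := ψ_surj S (a * n) l
  refine ⟨m, ⟨0, 0, x⟩, ⟨rfl, rfl, hx⟩, ?_⟩
  rw [hm, ψ_γ S hx, map_mul, mul_assoc (κ a), mul_assoc (κ a), ← e, mul_inv_cancel_left]

theorem ψ_y (m : HS L24) : Commute (ψ S m) (r * κ hp * r) := by
  obtain ⟨i, -, e⟩ := (by decide +kernel : ∀ l : L24, ∃ i < 3, (l * (L24.mk 3 ^ i)⁻¹) ^ 4 = 1) m.g
  have e1 : (m * (dH ^ i)⁻¹).g ^ 4 = 1 := by
    rwa [show (m * (dH ^ i)⁻¹).g = HS.π m * (HS.π dH ^ i)⁻¹ by
      rw [← map_pow, ← map_inv, ← map_mul]; rfl]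
  rw [show m = m * (dH ^ i)⁻¹ * dH ^ i by group, map_mul, map_pow, ← ψ_c S]
  refine (ψ_cm M S _ _ e1 (by decide +kernel)).mul_left (Commute.pow_left ?_ i)
  have := rcomm M (show Commute (ψ S dH) (ψ S cH) from
    Commute.map (show dH * cH = cH * dH by decide +kernel) _)
  rw [ψ_d S, rfix M M.dr.symm] at this
  rwa [ψ_d S]

theorem ψ_cy (g : G) (h1 : Commute g z) (h2 : Commute g (r * κ hp * r)) :
    ∃ m, ∃ i : ℕ, g = ψ S m * (r * κ hp * r) ^ i := by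
  have rp : ∀ (a : G) (i : ℕ), r * a ^ i * r = (r * a * r) ^ i := fun a i => by
    rw [show r * a * r = r * a * r⁻¹ by rw [rinv M], conj_pow, rinv M]
  obtain ⟨q, hq, hl⟩ := M.frat g (mem_Ce.2 h1)
  have hz : q⁻¹ * g ∈ Ce z := mul_mem (inv_mem (M.Qz hq)) (mem_Ce.2 h1)
  obtain ⟨a, b, rfl⟩ := M.dec q hq
  have sy : ∀ n, s * (r * κ n * r) * s⁻¹ = r * κ (ng n) * r := fun n => by
    rw [← M.κs, rmul M, rmul M, rinv' M, rfix M (rs M)]
  have e1 : (κ a * (r * κ b * r))⁻¹ * g * (r * κ hp * r) * ((κ a * (r * κ b * r))⁻¹ * g)⁻¹ =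
      r * κ (b⁻¹ * hp * b) * r := by
    rw [map_mul, map_mul, map_inv, rmul M, rmul M, rinv' M, mul_assoc _ g, h2.eq]
    calc _ = (r * κ b * r)⁻¹ * ((κ a)⁻¹ * (r * κ hp * r) * κ a) * (r * κ b * r) := by group
      _ = _ := by rw [mul_assoc (κ a)⁻¹, ← (M.cm a hp).eq, inv_mul_cancel_left]
  generalize hL : (κ a * (r * κ b * r))⁻¹ * g = l at hl hz e1
  have inj : ∀ {m n}, r * κ m * r = r * κ n * r → m = n := fun e =>
    M.κi (mul_left_cancel (mul_right_cancel e))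
  have e2 : ng (b⁻¹ * hp * b) = (b⁻¹ * hp * b)⁻¹ := inj (by
    rw [← sy, map_inv κ, rinv' M, ← e1]
    calc _ = (s * l * s⁻¹) * (s * (r * κ hp * r) * s⁻¹) * (s * l * s⁻¹)⁻¹ := by group
      _ = _ := by
        rw [← mem_Ce.1 hl, mul_inv_cancel_right, sy, show ng hp = hp⁻¹ by decide, map_inv,
          rinv' M]; group)
  obtain ⟨e3, i, -, j, -, rfl⟩ := (by decide +kernel : ∀ b : H27,
    ng (b⁻¹ * hp * b) = (b⁻¹ * hp * b)⁻¹ → b⁻¹ * hp * b = hp ∧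
      ∃ i < 3, ∃ j < 3, b = H56.L3.hz ^ i * hp ^ j) b e2
  rw [e3, mul_inv_eq_iff_eq_mul] at e1
  have ny : ¬ Commute s (r * κ hp * r) := fun c => absurd (inj ((sy hp).symm.trans
    (mul_inv_eq_iff_eq_mul.2 c.eq))) (by decide)
  have ty : Commute (t * s) (r * κ hp * r) := M.rt ▸ rcomm M (mem_Ce.1 (κt M hp)).symm
  have xy : Commute (l * (t * s) * l⁻¹) (r * κ hp * r) :=
    ((show Commute l _ from e1).mul_left ty).mul_left (show Commute l _ from e1).inv_left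
  have tR := mul_mem M.tR M.xs.z_mem
  have xR := conj_mem_of_mem_normalizer (M.Rn ⟨hz, hl⟩) tR
  have tt : t * s * (t * s) = 1 := by
    rw [mul_assoc, ← mul_assoc s, ← (ts M).eq, mul_assoc, M.xs.z_sq, mul_one, M.tt]
  have c1 : Commute (l * (t * s) * l⁻¹) (t * s) :=
    (M.xs.comm _ xR _ tR).resolve_right fun e => ny (by
      rw [eq_comm, ← eq_inv_mul_iff_mul_eq] at e
      rw [e]
      exact (ty.mul_left xy).inv_left.mul_left (xy.mul_left ty))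
  have c2 : Commute (l * (t * s) * l⁻¹) t := by
    have := c1.mul_right (show Commute _ s from (M.xs.z_comm _ xR).symm)
    rwa [mul_assoc t, M.xs.z_sq, mul_one] at this
  have c3 : Commute l t := by
    rcases M.only _ xR (by rw [conj_mul, tt]; simp) c2 with e | e | e | e
    · rw [conj_eq_one_iff] at e
      rw [eq_inv_of_mul_eq_one_right e] at ny
      exact absurd (rtsr M).symm (by
        rw [e, mul_one, M.rr]
        intro e'
        exact M.xs.z_ne (by simpa [e'] using e))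
    · exact absurd (e ▸ xy) ny
    · rw [e] at xy
      exact absurd (by simpa using xy.inv_left.mul_left ty) ny
    · have := Commute.mul_right (mul_inv_eq_iff_eq_mul.1 e) (mem_Ce.1 hl)
      rwa [mul_assoc t, M.xs.z_sq, mul_one] at this
  obtain ⟨m, n, hn, rfl⟩ := ψ_ct M S l (mem_Ce.1 hz) c3
  have e4 : Commute (r * ψ S n * r) (r * ψ S cH * r) := by
    rw [ψ_c S]; simpa using (ψ_y M S m).inv_left.mul_left e1
  have e5 := rcomm M e4
  rw [rrr M, rrr M, Commute, SemiconjBy, ← map_mul, ← map_mul, (ψ_inj M S).eq_iff] at e5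
  obtain rfl : n = 1 := (by decide +kernel : ∀ n : HS L24, n.z = 0 → n.v = 0 → n.g ^ 4 = 1 →
    n * cH = cH * n → n = 1) n hn.1 hn.2.1 hn.2.2 e5
  refine ⟨⟨a.z, a.v, 1⟩ * zc ^ i * m, j, ?_⟩
  rw [inv_mul_eq_iff_eq_mul] at hL
  rw [hL, map_one, mul_one, M.rr, mul_one, map_mul, map_mul, map_mul, map_pow, map_pow, map_pow,
    ψ_κ, ψ_z M, M.κz, rmul M, rp, rp, rfix M (rz M), mul_assoc _ (ψ S m),
    ((ψ_y M S m).pow_right j).eq]
  group

include S in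
theorem conj_D (q : G) (hq : q ∈ Q) : ∃ l ∈ Ce z, ∃ n, l * q * l⁻¹ = κ n := by
  obtain ⟨a, b, rfl⟩ := M.dec q hq
  have hzz : ∀ n : H27, n.v = 0 → r * κ n * r = κ n := fun n e => by
    rw [(by decide +kernel : ∀ n : H27, n.v = 0 → n = hz ^ n.z.val) n e, map_pow, M.κz]
    exact rfix M ((rz M).pow_right _)
  by_cases hb : b.v = 0
  · exact ⟨1, one_mem _, a * b, by rw [hzz b hb]; simp⟩
  by_cases ha : a.v = 0
  · exact ⟨r, M.Rz M.rR, a * b, by rw [rinv M, rmul M, rrr M, hzz a ha, map_mul]⟩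
  obtain ⟨x, hx, c, hc, e⟩ := (by decide +kernel : ∀ a b : H27, a.v ≠ 0 → b.v ≠ 0 →
    ∃ x : L24, x ^ 4 = 1 ∧ ∃ c : H27, c.v = 0 ∧ bw x b = a * c) a b ha hb
  obtain ⟨l, hl, e1⟩ := M.cls r M.rR M.rr (fun e => M.xs.z_ne (by simpa [e] using M.rt.symm))
    fun e => M.xs.z_ne (by
      have := M.rt
      rwa [e, ← (ts M).eq, mul_assoc, M.xs.z_sq, mul_one, left_eq_mul] at this)
  have e2 : r * γ x * r * (κ a * (r * κ b * r)) * (r * γ x * r)⁻¹ =
      κ a * (r * κ a * r) * κ c := by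
    rw [← mul_assoc, ((S.two x hx).comm a).eq, mul_assoc, mul_assoc (κ a), mul_assoc (κ a),
      ← rinv' M, ← mul_assoc (r * γ x * r), ← rmul M, ← rmul M, S.act, e, map_mul, rmul M,
      hzz c hc]
  have e3 : Commute (κ a * (r * κ a * r) * κ c) r := by
    have : r * (κ a * (r * κ a * r) * κ c) * r = κ a * (r * κ a * r) * κ c := by
      rw [rmul M, rmul M, rrr M, hzz c hc, (M.cm a a).eq]
    rw [← rinv M, rinv M, ← eq_mul_inv_iff_mul_eq, rinv M] at this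
    exact this.symm
  have hk := mul_mem (mem_inf.1 hl).1 (rY M (S.mem x)).1.1
  obtain ⟨n, hn⟩ := M.κr.ge (mem_inf.2 ⟨conj_mem_of_mem_normalizer (M.Qn hk) hq, by
    rw [show ∀ k q : G, l * k * q * (l * k)⁻¹ = l * (k * q * k⁻¹) * l⁻¹ from fun _ _ => by group,
      e2, ← e1]
    exact conj_mem_Ce (mem_Ce.2 e3) l⟩)
  exact ⟨_, hk, n, hn.symm⟩

theorem st : St (ψ S) r where
  inj := ψ_inj M S
  rr := M.rr
  rz := by rw [ψ_z M]; exact rz M
  rd := by rw [ψ_d]; exact M.dr.symm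
  cm := ψ_cm M S
  ct := fun g h1 h2 => ψ_ct M S g (ψ_z M S ▸ h1) (ψ_t M S ▸ h2)
  cy := fun g h1 h2 => by
    rw [yG, ψ_c S] at h2 ⊢
    exact ψ_cy M S g (ψ_z M S ▸ h1) h2
  qn := fun g h1 m hm => by
    obtain ⟨a, b, e⟩ := M.dec _ (conj_mem_of_mem_normalizer
      (M.Qn (mem_Ce.2 (ψ_z M S ▸ h1 : Commute g z))) (κQ M ⟨m.z, m.v, ()⟩))
    exact ⟨⟨a.z, a.v, 1⟩, ⟨b.z, b.v, 1⟩, rfl, rfl, by rw [ψ_one S hm, ψ_κ, ψ_κ, e]⟩
  qc := fun m n hm hn => by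
    obtain ⟨l, hl, a, e⟩ := conj_D M S (ψ S m * (r * ψ S n * r)) (by
      rw [ψ_one S hm, ψ_one S hn]
      refine mul_mem (κQ M _) ?_
      have := conj_mem_of_mem_normalizer (M.Qn (M.Rz M.rR)) (κQ M ⟨n.z, n.v, ()⟩)
      rwa [rinv M] at this)
    obtain ⟨x, j, e1⟩ := (by decide +kernel : ∀ a : H27, ∃ x : L24, ∃ j : J3,
      (⟨0, 0, x⟩ : HS L24) * ⟨a.z, a.v, 1⟩ * (⟨0, 0, x⟩ : HS L24)⁻¹ = ιK6 ⟨j, 1⟩) a
    refine ⟨ψ S ⟨0, 0, x⟩ * l, (0, j), Commute.mul_left (Commute.map (zc_comm _) _)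
      (by rw [ψ_z M]; exact mem_Ce.1 hl), ?_⟩
    rw [show ∀ k q : G, k * l * q * (k * l)⁻¹ = k * (l * q * l⁻¹) * k⁻¹ from fun _ _ => by group,
      e, ← ψ_κ S, ← map_inv, ← map_mul, ← map_mul, e1]
    simp [vv]
  ff := ⟨f, by rw [ψ_z M]; exact mem_Ce.1 M.fz, by rw [ψ_d]; exact M.fd⟩
  syl := M.syl
  c5 := fun w h1 h2 h3 => M.c5 w h1 (ψ_z M S ▸ h2) (ψ_d S ▸ h3)
  nwc := by
    rw [ψ_z M]
    obtain ⟨g, h1, h2⟩ := M.nwc
    exact ⟨g, mem_Ce.1 h1, h2⟩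

theorem mid_inv : Mid z s Q R π d⁻¹ f t r κ :=
  { M with
    dz := inv_mem M.dz
    d3 := by rw [inv_pow, M.d3, inv_one]
    dQ := fun h => M.dQ (inv_mem_iff.1 h)
    fd := by rw [conj_inv.symm, M.fd]
    dt := M.dt.inv_left
    dr := M.dr.inv_left
    c5 := fun w h1 h2 h3 => M.c5 w h1 h2 (Commute.inv_right_iff.1 h3) }

theorem mid_bw (w : L24) : Mid z s Q R π d f t r (κ.comp (bw w)) :=
  { M with
    κi := M.κi.comp (bw_inj w)
    κr := by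
      rw [MonoidHom.range_comp, MonoidHom.range_eq_top.2 (bw_surj w), ← MonoidHom.range_eq_map,
        M.κr]
    κz := (congrArg κ ((by decide +kernel : ∀ l, bw l hz = hz) w)).trans M.κz
    κs := fun m => (M.κs _).trans (congrArg κ (HS.ext rfl (HS.act_neg _ _).symm rfl))
    dec := fun q hq => by
      obtain ⟨a, b, rfl⟩ := M.dec q hq
      obtain ⟨a, rfl⟩ := bw_surj w a
      obtain ⟨b, rfl⟩ := bw_surj w b
      exact ⟨a, b, rfl⟩
    cm := fun m n => M.cm _ _ }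

omit M in
theorem A.bw (h : A κ g l) (w : L24) : A (κ.comp (bw w)) g (w⁻¹ * l * w) := fun m => by
  show g * κ _ * g⁻¹ = κ _
  rw [h, ← bw_mul, ← bw_mul, ← mul_assoc, ← mul_assoc, mul_inv_cancel, one_mul]

omit M in
theorem jobSt : JobSt.{u} := fun _ _ _ z s _ _ _ d _ t r κ M => by
  obtain ⟨l, hl⟩ := exists_A M (dY M)
  have h3 : l ^ 3 = 1 := A_uniq M (hl.pow 3) (by
    rw [M.d3]; exact A.of_comm fun m => Commute.one_left _)
  have h1 : l ≠ 1 := by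
    rintro rfl
    exact M.dQ (zpowers_le.2 M.zQ (ker_A M (dY M) hl (by rwa [rfix M M.dr.symm])))
  obtain ⟨w, e | e⟩ := (by decide +kernel : ∀ l : L24, l ^ 3 = 1 → l ≠ 1 → ∃ w,
    w⁻¹ * l * w = L24.mk 3 ∨ w⁻¹ * l⁻¹ * w = L24.mk 3) l h3 h1
  · obtain ⟨γ, S⟩ := exists_γ (mid_bw M w) (e ▸ hl.bw w)
    exact ⟨_, st (mid_bw M w) S⟩
  · obtain ⟨γ, S⟩ := exists_γ (mid_bw (mid_inv M) w) (e ▸ hl.inv.bw w)
    exact ⟨_, st (mid_bw (mid_inv M) w) S⟩

end H52.CoSt
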