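/- D3 tower, job X2: for the field with eight elements the automizer of `S` is conjugate to a group of
semilinear maps on `S / Q₁`. -/
import Cfsg.Agent.H90.D3Kit
import Cfsg.Agent.H3.AutP
import Cfsg.Agent.H78.XS

set_option autoImplicit false
set_option linter.unusedSectionVars false

open Subgroup H90.RF H90.D3

universe v

namespace H52.D3X2

section Gen
variable {L : Type*} [Group L] [Finite L]

theorem conj_into {p : ℕ} [hp : Fact p.Prime] (h : ¬ p ^ 2 ∣ Nat.card L) {X Y : Subgroup L}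
    (hX : IsPGroup p X) (hY : Nat.card Y = p) : ∃ g : L, ∀ x ∈ X, g⁻¹ * x * g ∈ Y := by
  obtain ⟨P, hP⟩ := (IsPGroup.of_card (n := 1) (by rw [hY, pow_one]) : IsPGroup p Y).exists_le_sylow
  obtain ⟨Q, hQ⟩ := hX.exists_le_sylow
  obtain ⟨k, hk⟩ := P.isPGroup'.exists_card_eq
  have e : Y = P := by
    refine eq_of_le_of_card_ge hP ?_
    have : k < 2 := by
      by_contra c
      exact h (((pow_dvd_pow p (not_lt.1 c)).trans hk.symm.dvd).trans (card_subgroup_dvd_card _))
    rw [hk, hY]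
    calc p ^ k ≤ p ^ 1 := Nat.pow_le_pow_right hp.out.pos (by omega)
      _ = p := pow_one p
  obtain ⟨g, rfl⟩ := MulAction.exists_smul_eq L P Q
  refine ⟨g, fun x hx => ?_⟩
  have := hQ hx
  rw [Sylow.coe_subgroup_smul, mem_pointwise_smul_iff_inv_smul_mem] at this
  rw [e]
  simpa using this

theorem key (h : Nat.card L ∣ 168) {M S R : Subgroup L} (hM : Nat.card M = 7) (hS : Nat.card S = 3)
    (hSM : S ≤ normalizer (M : Set L)) (hR : ¬ 2 ∣ Nat.card R) :
    ∃ g : L, ∀ r ∈ R, g⁻¹ * r * g ∈ normalizer (M : Set L) := by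
  have : Fact (Nat.Prime 7) := ⟨by norm_num⟩
  have : Fact (Nat.Prime 3) := ⟨by norm_num⟩
  have d : Nat.card R ∣ 21 := by
    refine Nat.Coprime.dvd_of_dvd_mul_left (m := 2 ^ 3) (Nat.Coprime.pow_right 3 ?_)
      ((card_subgroup_dvd_card R).trans h)
    exact ((Nat.Prime.coprime_iff_not_dvd Nat.prime_two).2 hR).symm
  by_cases h7 : 7 ∣ Nat.card R
  · obtain ⟨x, hx⟩ := exists_prime_orderOf_dvd_card' 7 h7
    have cx : Nat.card (zpowers x) = 7 := by rw [Nat.card_zpowers, hx]
    have n : (zpowers x).Normal := by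
      have i := (zpowers x).card_mul_index
      have : Nat.card R = 7 ∨ Nat.card R = 21 := by
        have := Nat.le_of_dvd (by norm_num) d
        have := Nat.card_pos (α := R)
        obtain ⟨c, hc⟩ := h7
        have : c ≤ 3 := by omega
        interval_cases c <;> omega
      rcases this with e | e
      · rw [eq_top_of_card_eq _ (cx.trans e.symm)]; infer_instance
      · refine normal_of_index_eq_minFac_card ?_
        rw [e, cx] at i
        rw [e]; norm_num; omega
    have ox : orderOf (x : L) = 7 := by rw [orderOf_coe, hx]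
    obtain ⟨g, hg⟩ := conj_into (p := 7) (fun c => by have := c.trans h; norm_num at this)
      (X := zpowers (x : L)) (IsPGroup.of_card (n := 1) (by rw [Nat.card_zpowers, ox, pow_one])) hM
    have e : zpowers (g⁻¹ * x * g) = M := by
      refine eq_of_le_of_card_ge (zpowers_le.2 (hg _ (mem_zpowers _))) ?_
      rw [Nat.card_zpowers, hM, show g⁻¹ * x * g = MulAut.conj g⁻¹ (x : L) by simp,
        MulEquiv.orderOf_eq, ox]
    refine ⟨g, fun r hr => mem_normalizer_fintype fun m hm => ?_⟩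
    obtain ⟨k, rfl⟩ : m ∈ zpowers (g⁻¹ * x * g) := e ▸ hm
    obtain ⟨j, hj⟩ := n.conj_mem _ (zpow_mem_zpowers x k) ⟨r, hr⟩
    have hj' : (x : L) ^ j = r * x ^ k * r⁻¹ := by simpa using congrArg Subtype.val hj
    have := hg _ (zpow_mem_zpowers (x : L) j)
    rw [hj'] at this
    show g⁻¹ * r * g * (g⁻¹ * x * g) ^ k * (g⁻¹ * r * g)⁻¹ ∈ M
    rw [show g⁻¹ * (x : L) * g = g⁻¹ * x * g⁻¹⁻¹ by rw [inv_inv], conj_zpow]
    convert this using 1
    group
  · have d3 : Nat.card R ∣ 3 ^ 1 := Nat.Coprime.dvd_of_dvd_mul_left (m := 7)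
      ((Nat.Prime.coprime_iff_not_dvd (by norm_num)).2 h7).symm d
    obtain ⟨k, -, hk⟩ := (Nat.dvd_prime_pow Nat.prime_three).1 d3
    obtain ⟨g, hg⟩ := conj_into (p := 3) (fun c => by have := c.trans h; norm_num at this)
      (IsPGroup.of_card hk) hS
    exact ⟨g, fun r hr => hSM (hg r hr)⟩

end Gen

variable {K : Type*} [Field K] [Finite K] {T : CF K}

theorem a_eq (h : CH T) (θ : MulAut (Co T)) (u : Co T) : (θ (xa T u.a)).a = (θ u).a := by
  have := (h θ (au_aut θ)).1 5 ((xa T u.a)⁻¹ * u) (mod5.2 rfl)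
  rw [map_mul, map_inv] at this
  exact (mod5.1 this).symm

/-- the action on `S / Q₁` -/
def pa (h : CH T) : MulAut (Co T) →* MulAut (Multiplicative K) := MonoidHom.mk' (fun θ =>
  { toFun := fun t => .ofAdd (θ (xa T t.toAdd)).a
    invFun := fun t => .ofAdd (θ⁻¹ (xa T t.toAdd)).a
    left_inv := fun t => by simp only [toAdd_ofAdd, a_eq h]; simp [xa]
    right_inv := fun t => by simp only [toAdd_ofAdd, a_eq h]; simp [xa]
    map_mul' := fun s t => by rw [toAdd_mul, xa_add, map_mul, Co.mul_a, ofAdd_add] })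
  fun θ η => MulEquiv.ext fun t => by
    show Multiplicative.ofAdd (θ (η (xa T t.toAdd))).a = .ofAdd (θ (xa T (η (xa T t.toAdd)).a)).a
    rw [a_eq h]

theorem pa_apply (h : CH T) (θ : MulAut (Co T)) (t : K) :
    pa h θ (.ofAdd t) = .ofAdd (θ (xa T t)).a := rfl

/-- the torus -/
def mu (T : CF K) : Kˣ →* Pm T := MonoidHom.mk' (fun x => Pm.dia x 1 x.ne_zero (by simp))
  fun _ _ => Pm.ext' rfl (by simp [Pm.mul_y, Pm.dia]) rfl

/-- the field automorphism -/
noncomputable def sg (T : CF K) : RingAut K :=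
  RingEquiv.ofBijective T.σ (Finite.injective_iff_bijective.1 T.σ.injective)

theorem jobX2 : JobX2.{v} := fun p _ K _ _ _ T h h2 Y0 Y1 Y2 H => by
  have two : (2 : K) = 0 := by
    rcases h2 (1 + 1) with e | e
    · exact one_add_one_eq_two.symm.trans (congrArg Subtype.val e)
    · simp at e
  obtain rfl : p = 2 := (Nat.prime_dvd_prime_iff_eq Fact.out Nat.prime_two).1
    ((CharP.cast_eq_zero_iff K p 2).1 (by exact_mod_cast two))
  have ck : Nat.card T.k = 2 := Nat.card_eq_two_iff.2 ⟨0, 1, zero_ne_one,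
    Set.eq_univ_of_forall fun l => h2 l⟩
  have cK : Nat.card K = 8 := by rw [T.card_K, ck]; rfl
  have sq : ∀ a : Multiplicative K, a * a = 1 := fun a => by
    show Multiplicative.ofAdd (a.toAdd + a.toAdd) = .ofAdd 0
    rw [← two_mul, two, zero_mul]
  have cA : Nat.card (MulAut (Multiplicative K)) ∣ 168 :=
    (H3.card_mulAut_dvd (G := Multiplicative K) (p := 2) (n := 3) (r := 3) cK
      (by rw [H78.frattini_eq_bot_of_sq sq, index_bot]; exact cK)).trans (by decide)
  let π := (pa h).rangeRestrict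
  let f : Pm T →* (pa h).range := π.comp sdH
  have fa : ∀ δ t, (f δ : MulAut (Multiplicative K)) (.ofAdd t) = .ofAdd (δ.x * δ.φ t) := fun _ _ => rfl
  have cM : Nat.card (f.comp (mu T)).range = 7 := by
    rw [← Nat.card_congr (MonoidHom.ofInjective (f := f.comp (mu T)) ?_).toEquiv, Nat.card_units, cK]
    refine (injective_iff_map_eq_one _).2 fun x e => Units.ext ?_
    have := fa (mu T x) 1
    rw [show f (mu T x) = 1 from e] at this
    exact (mul_one _).symm.trans (Multiplicative.ofAdd.injective this).symm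
  let δ : Pm T := ⟨1, 1, sg T, one_ne_zero, by simp⟩
  have fd : ∀ t, (f δ : MulAut (Multiplicative K)) (.ofAdd t) = .ofAdd (T.σ t) := fun t => by
    rw [fa, one_mul]; rfl
  have cS : Nat.card (zpowers (f δ)) = 3 := by
    have : Fact (Nat.Prime 3) := ⟨by norm_num⟩
    rw [Nat.card_zpowers]
    refine orderOf_eq_prime (Subtype.ext (MulEquiv.ext fun t => ?_)) fun e => T.ne ?_
    · show (f δ : MulAut (Multiplicative K)) ((f δ : MulAut (Multiplicative K))
        ((f δ : MulAut (Multiplicative K)) (.ofAdd t.toAdd))) = t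
      rw [fd, fd, fd, T.cube]; rfl
    · have := fd T.ω
      rw [e] at this
      exact (Multiplicative.ofAdd.injective this).symm
  have nS : zpowers (f δ) ≤ normalizer ((f.comp (mu T)).range : Set (pa h).range) := by
    refine zpowers_le.2 (mem_normalizer_fintype ?_)
    rintro _ ⟨x, rfl⟩
    refine ⟨Units.map (T.σ : K →* K) x, ?_⟩
    rw [eq_mul_inv_iff_mul_eq]
    show f _ * f δ = f δ * f _
    rw [← map_mul, ← map_mul]
    exact congrArg f (Pm.ext' (by simp [Pm.mul_x, mu, Pm.dia, δ, sg])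
      (by simp [Pm.mul_y, mu, Pm.dia, δ]) rfl)
  let R := (Y0.comap (MulAut.toPerm (Co T))).map π
  have oR : ¬ 2 ∣ Nat.card R := fun c => by
    obtain ⟨⟨_, θ, hθ, rfl⟩, hr⟩ := exists_prime_orderOf_dvd_card' 2 c
    rw [← orderOf_coe] at hr
    obtain ⟨k, m, hm, e⟩ := Nat.exists_eq_two_pow_mul_odd (orderOf_pos θ).ne'
    obtain ⟨s, hs⟩ := H.pel0 _ (pow_mem hθ m) ⟨k, by
      rw [← map_pow, ← pow_mul, mul_comm, ← e, pow_orderOf_eq_one, map_one]⟩
    have : π θ ^ m = 1 := by
      rw [← map_pow]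
      refine Subtype.ext (MulEquiv.ext fun t => ?_)
      show Multiplicative.ofAdd ((θ ^ m) (xa T t.toAdd)).a = t
      rw [show (θ ^ m) (xa T t.toAdd) = _ from hs _]
      simp [xa]
    have := orderOf_dvd_of_pow_eq_one this
    rw [show orderOf (π θ) = 2 from hr] at this
    exact (Nat.not_even_iff_odd.2 hm) (even_iff_two_dvd.2 this)
  obtain ⟨⟨_, θ, rfl⟩, hg⟩ := key ((card_subgroup_dvd_card _).trans cA) cM cS nS oR
  refine ⟨θ, fun y hy => ?_⟩
  obtain ⟨α, hα, e⟩ := mem_cjY.1 hy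
  let β := (H.l0.au α hα).toTop
  have n := hg (π β) ⟨β, show MulAut.toPerm _ β ∈ Y0 from
    (show α = MulAut.toPerm _ β from Equiv.ext fun _ => rfl) ▸ hα, rfl⟩
  rw [show (⟨pa h θ, θ, rfl⟩ : (pa h).range) = π θ from rfl, ← map_inv, ← map_mul, ← map_mul] at n
  set γ := θ⁻¹ * β * θ
  have eγ : ∀ c, γ c = y c := fun c => by
    show θ.symm (α (θ c)) = y c
    rw [e, MulEquiv.symm_apply_apply]
  let F : K → K := fun t => (γ (xa T t)).a
  have F0 : ∀ t, F t = 0 → t = 0 := fun t e =>
    (map_eq_one_iff (pa h γ) (pa h γ).injective (x := .ofAdd t)).1 (congrArg Multiplicative.ofAdd e)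
  have Fa : ∀ s t, F (s + t) = F s + F t := fun s t => by simp only [F, xa_add, map_mul, Co.mul_a]
  obtain ⟨φ, hφ⟩ := H90.U5.exists_semi F Fa (fun e => one_ne_zero (F0 1 e)) fun x t => by
    by_cases hx : x = 0
    · have : F 0 = 0 := by simpa using Fa 0 0
      rw [hx, zero_mul, this, zero_mul, zero_mul]
    obtain ⟨x', k⟩ := (mem_normalizer_iff.1 n _).1 ⟨Units.mk0 x hx, rfl⟩
    rw [eq_mul_inv_iff_mul_eq] at k
    have k' : ∀ t, (x' : K) * F t = F (x * t) := fun t => Multiplicative.ofAdd.injective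
      (congrArg (fun z : (pa h).range => (z : MulAut (Multiplicative K)) (.ofAdd t)) k)
    rw [← k', ← mul_one x, ← k']
    ring
  exact ⟨F 1, φ, fun t => by rw [← eγ]; exact hφ t⟩

end H52.D3X2
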