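/- Slot `G3S-I5` of the tower for S3134: the Sylow 2-subgroup of `X`. -/
import Cfsg.Agent.H35.G3Spec1
import Cfsg.Agent.H92.GC4
import Cfsg.Agent.S3100
import Cfsg.Agent.S1619
import Cfsg.Agent.H73.LyM

set_option autoImplicit false
set_option maxRecDepth 100000
set_option linter.unusedSectionVars false

namespace H52.G3I5

open Subgroup Cfsg H98 H1.Gold H35.G3 H61.M12
open H99.Wr (El mem_cen cj_of_comm comm_of_cj inv_of_sq)

universe u

variable {G : Type u} [Group G] [Finite G] {D : Dt G} {P A : Subgroup G} {u v : G}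

omit [Finite G] in
theorem two (h : Ok D) (tX : D.t ∉ D.X) {K : Subgroup G} (hK : D.t ∈ K) :
    Nat.card K = 2 * Nat.card ↥(D.X ⊓ K) := by
  rw [← (D.X.subgroupOf K).card_mul_index, mul_comm, ← inf_subgroupOf_right,
    Nat.card_congr (subgroupOfEquivOfLe inf_le_right).toEquiv, inf_subgroupOf_right]
  congr 1
  exact relIndex_eq_two_iff.2 ⟨_, hK, fun b _ => (h.cfg.top b).elim
    (fun e => .inr ⟨e, fun e' => tX ((mul_mem_cancel_left e).1 e')⟩)
    fun e => .inl ⟨e, fun e' => tX ((mul_mem_cancel_left e').1 e)⟩⟩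

theorem memS (h : Ok D) (tX : D.t ∉ D.X) (o1 : D.o = 1) (hu : u ∈ D.T) (hx : u ∈ D.X) :
    u ∈ D.S := by
  obtain ⟨m, e⟩ := h.mem_T' hu
  simp only [o1, mul_one] at e
  rcases e with rfl | rfl | rfl | rfl
  exacts [h.lt.j_mem m, absurd ((mul_mem_cancel_left (h.cfg.le (h.lt.jL m))).1 hx) tX,
    h.lt.j_mem m, absurd ((mul_mem_cancel_left (h.cfg.le (h.lt.jL m))).1 hx) tX]

theorem VL (h : Ok D) : D.V ≤ D.L := h.lt.V_le_E.trans h.lt.E_le_L

omit [Finite G] in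
theorem tr (h : I1 D P) (hv : v ∈ D.V) (VL : D.V ≤ D.L) :
    ∃ p ∈ P ⊓ D.X, p ∈ cen D.V ∧ p * D.t * p⁻¹ = D.t * v := by
  obtain ⟨p, hp, p1, p2⟩ := h.tr v hv
  rcases h.c.ok.cfg.top p with e | e
  · exact ⟨p, ⟨hp, e⟩, p1, p2⟩
  · exact ⟨p * D.t, ⟨mul_mem hp (h.T h.c.ok.tT), e⟩,
      mul_mem p1 (centralizer_anti VL h.c.ok.tL), by rw [← p2]; group⟩

theorem SR (h : I1 D P) : D.S ≤ P ⊓ D.X :=
  le_inf (h.c.ok.S_le_T.trans h.T) (h.c.ok.lt.S_le.trans h.c.ok.cfg.le)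

theorem step1 (h : I1 D P) (h1 : A ≤ P ⊓ D.X) (h2 : P ⊓ D.X ≤ nor A) (h3 : El A) (hu : u ∈ A)
    (hc : u ∈ cen D.V) : u * D.t = D.t * u := by
  have ok := h.c.ok
  have m := h.mv u (h.syl.le (h1 hu).1)
  by_contra hn
  obtain ⟨β, -, b1, b2⟩ := h.mc u hc _ m
    (fun e => hn (comm_of_cj (by rw [eq_inv_of_mul_eq_one_left e, ok.tinv])))
    (by rw [← ok.cL (VL ok m), mul_assoc _ D.t D.t, ok.tt, mul_one])
  have c := SR h (ok.lt.jc ▸ ok.lt.j_mem mC)
  have : β ∈ A := by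
    rw [show β = D.c⁻¹ * u * D.c * u⁻¹ by rw [mul_assoc, mul_assoc, ← mul_assoc u, b2]; group]
    exact mul_mem (conj_mem_of_mem_normalizer' (h2 c) hu) (inv_mem hu)
  rw [h3 β this] at b1
  exact hn (comm_of_cj (by rw [eq_inv_of_mul_eq_one_left b1.symm, ok.tinv]))

theorem step2 (h : I1 D P) (h1 : A ≤ P ⊓ D.X) (h2 : P ⊓ D.X ≤ nor A) (h3 : El A) (hu : u ∈ A) :
    u ∈ cen D.V := by
  have ok := h.c.ok
  have lt := ok.lt
  have uN := h.syl.le (h1 hu).1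
  have uz : u * D.z * u⁻¹ = D.z := cj_of_comm (mem_cen1.1 (h.cz (h1 hu).1))
  have inj : ∀ {m}, u * D.a * u⁻¹ = u * lt.j m * u⁻¹ → mA = m := fun e =>
    lt.j_eq.1 (lt.ja.trans (mul_left_cancel (mul_right_cancel e)))
  rcases lt.V_cases (conj_mem_of_mem_normalizer (h.nV uN) lt.aV) with e | e | e | e
  · exact absurd (inj (m := 1) (by rw [e, map_one]; group)) (by decide)
  · exact absurd (inj (m := mZ) (by rw [e, lt.jz, uz])) (by decide)
  · exact mem_cen_cl (by simp [uz, e])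
  exfalso
  obtain ⟨p, hp, p1, p2⟩ := tr h lt.aV (VL ok)
  have q1 : u * p * u⁻¹ ∈ cen D.V :=
    conj_mem_of_mem_normalizer (normalizer_le_normalizer_centralizer _ (h.nV uN)) p1
  have w := step1 h h1 h2 h3 (u := (u * p * u⁻¹)⁻¹ * p) (by
    simpa only [mul_inv_rev, inv_inv, mul_assoc] using
      mul_mem hu (conj_mem_of_mem_normalizer' (h2 hp) (inv_mem hu))) (mul_mem (inv_mem q1) p1)
  obtain ⟨v, hv, e1⟩ : ∃ v ∈ D.V, u * D.t * u⁻¹ = v * D.t :=
    ⟨_, h.mv u uN, by rw [mul_assoc _ D.t D.t, ok.tt, mul_one]⟩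
  have e2 : u * p * u⁻¹ * (v * D.t) * (u * p * u⁻¹)⁻¹ = v * D.t * (D.a * D.z) := by
    rw [← e1, ← e, conj_mul (a := D.t), ← p2]; group
  generalize u * p * u⁻¹ = q at q1 w e2
  have e3 : q * D.t * q⁻¹ = p * D.t * p⁻¹ := by
    calc _ = q * (q⁻¹ * p * D.t * (q⁻¹ * p)⁻¹) * q⁻¹ := by rw [cj_of_comm w]
      _ = _ := by group
  rw [← conj_mul, cj_of_cen q1 hv, e3, p2, mul_assoc v, mul_right_inj, mul_right_inj,
    left_eq_mul] at e2
  exact lt.z1 e2

theorem no8 (h : I1 D P) (tX : D.t ∉ D.X) (o1 : D.o = 1) (h1 : A ≤ P ⊓ D.X)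
    (h2 : P ⊓ D.X ≤ nor A) (h3 : El A) : Nat.card A ≠ 8 := fun h4 => by
  have ok := h.c.ok
  have lt := ok.lt
  have hS : A ≤ D.S := fun u hu => memS ok tX o1 (ok.cen_eq h.syl.isPGroup h.T (h1 hu).1
    (step1 h h1 h2 h3 hu (step2 h h1 h2 h3 hu))) (h1 hu).2
  obtain ⟨p, hp, p1, p2⟩ := tr h lt.zV (VL ok)
  obtain ⟨β, b0, b1, b2⟩ := h.mc p p1 _ lt.zV lt.z1 p2
  obtain ⟨m, hm, rfl⟩ := lt.mem_B.1 b0
  rw [← map_mul, ← lt.jz, lt.j_eq] at b1
  have key := (by decide +kernel : ∀ m, pB m → m * m = mZ → ¬ pE (mC * m) ∧ pE' (mC * m)) m hm b1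
  rw [← lt.j_mem_E, ← lt.j_mem_E', map_mul, lt.jc, ← b2] at key
  rcases lt.el_normal hS ((SR h).trans h2) h3 with e | e
  · obtain rfl := eq_of_le_of_card_ge e (by rw [h4, lt.card_E])
    exact key.1 (conj_mem_of_mem_normalizer (h2 hp) lt.cE)
  · obtain rfl := eq_of_le_of_card_ge e (by rw [h4, lt.card_E'])
    have := conj_mem_of_mem_normalizer' (h2 hp) key.2
    rw [show p⁻¹ * (p * D.c * p⁻¹) * p = D.c by group, ← lt.jc, lt.j_mem_E'] at this
    exact absurd this (by decide)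

theorem jobI5 : JobI5.{u} := by
  intro G _ _ D P h hP tX o1
  have ok := h.c.ok
  have lt := ok.lt
  have := ok.cfg.normal
  have := ok.cfg.simple
  have hR : IsSyl 2 (P ⊓ D.X) D.X :=
    hP.inf_of_le_normalizer le_top (le_top.trans (normalizer_eq_top _).ge)
  have cT : Nat.card D.T = 128 := by
    rw [two ok tX ok.tT, show D.X ⊓ D.T = D.S from le_antisymm
      (fun u hu => memS ok tX o1 hu.2 hu.1) (le_inf ((SR h).trans inf_le_right) ok.S_le_T),
      lt.card_S]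
  have cR : Nat.card ↥(P ⊓ D.X) = 256 := by
    have := two ok tX (h.T ok.tT)
    rw [h.card, cT, inf_comm] at this
    omega
  have c13 : 13 ∣ Nat.card D.X := lt.c13.trans (card_dvd_of_le ok.cfg.le)
  refine ⟨ok, hR, cR, SR h, inf_le_left.trans h.cz, fun u hu hc => ?_, ?_⟩
  · have c := centralizer_anti (SR h) hc
    have ut := h.c.no u (centralizer_le_normalizer _ (centralizer_anti lt.E_le_S c))
      (lt.V_le_E (h.mv u (h.syl.le hu.1)))
    rcases ok.cen_T (ok.cen_eq h.syl.isPGroup h.T hu.1 ut) c with e | e | e | e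
    exacts [.inl e, .inr e, absurd (e ▸ hu.2) tX,
      absurd ((mul_mem_cancel_left (ok.cfg.le lt.zL)).1 (e ▸ hu.2)) tX]
  obtain ⟨S, hS⟩ := hR.exists_sylow_map
  let φ : (S : Subgroup D.X) →* G := D.X.subtype.comp (S : Subgroup D.X).subtype
  have inj : Function.Injective φ := D.X.subtype_injective.comp (subtype_injective _)
  have rg : φ.range = P ⊓ D.X := by rw [MonoidHom.range_comp, range_subtype, hS]
  have e : ↥(P ⊓ D.X) ≃* (S : Subgroup D.X) :=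
    (MulEquiv.subgroupCongr rg.symm).trans (MonoidHom.ofInjective inj).symm
  have cc : ∀ K ≤ P ⊓ D.X, Nat.card (K.comap φ) = Nat.card K := fun K hK => by
    rw [← card_map_of_injective inj, map_comap_eq_self (rg ▸ hK)]
  have el : ∀ K, El K → ∀ a ∈ K.comap φ, a ^ 2 = 1 := fun K hK a ha =>
    inj (by rw [map_pow, pow_two, hK _ ha, map_one])
  have mR : ∀ s, φ s ∈ P ⊓ D.X := fun s => rg ▸ ⟨s, rfl⟩
  have cV : Nat.card (D.V.comap φ) = 4 := by
    rw [cc _ (lt.V_le_E.trans (lt.E_le_S.trans (SR h))), lt.card_V]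
  refine (H92.GC.s3102 (fun N hN e => ?_) S (fun r => ?_) (fun E hE ⟨_, h2⟩ h8 => ?_)
    (D.V.comap φ) ⟨?_, ?_⟩ ⟨fun n hn g => ?_⟩ (fun a ha b hb a1 b1 => ?_)).elim
    (fun ⟨F, i1, i2, h1, R₀, ⟨f⟩⟩ => ?_) (Or.rec (fun ⟨R₀, ⟨f⟩⟩ => ?_) fun r => ?_)
  · rcases hN.eq_bot_or_eq_top with rfl | rfl
    · rw [index_bot] at e
      exact absurd (e ▸ c13) (by decide)
    · simp at e
  · have := r (D.E.comap φ) ⟨⟨fun a b => Subtype.ext (inj (by
      simpa only [Subgroup.coe_mul, map_mul] using lt.elE.comm a.2 b.2))⟩⟩ (el _ lt.elE)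
    rw [cc _ (lt.E_le_S.trans (SR h)), lt.card_E] at this
    exact absurd this (by decide)
  · refine no8 (A := E.map φ) h tX o1 (rg ▸ map_le_range φ E) (fun p hp => ?_) ?_
      (by rw [card_map_of_injective inj, h8])
    · obtain ⟨s, rfl⟩ := rg.ge hp
      exact map_le_normalizer_map φ (H := ⊤) (normalizer_eq_top E).ge ⟨s, trivial, rfl⟩
    · rintro _ ⟨a, ha, rfl⟩
      rw [← map_mul, ← pow_two, h2 a ha, map_one]
  · exact cV
  · have : Nontrivial (D.V.comap φ) := Finite.one_lt_card_iff_nontrivial.1 (by rw [cV]; decide)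
    refine (Monoid.exponent_eq_prime_iff Nat.prime_two).2 fun a a1 => orderOf_eq_prime ?_ a1
    exact Subtype.ext (el _ lt.elV a a.2)
  · show φ _ ∈ D.V
    rw [map_mul, map_mul, map_inv]
    exact conj_mem_of_mem_normalizer (h.nV (h.syl.le (mR g).1)) hn
  · have k : ∀ a ∈ D.V.comap φ, a ≠ 1 → IsConj (a : D.X) ⟨D.z, ok.cfg.le lt.zL⟩ := fun a ha a1 => by
      obtain ⟨l, hl, e⟩ := lt.one (φ a) (VL ok ha) (lt.elV _ ha) fun e => a1 (inj (e.trans φ.map_one.symm))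
      exact isConj_iff.2 ⟨⟨l, ok.cfg.le hl⟩, Subtype.ext e⟩
    exact (k a ha a1).trans (k b hb b1).symm
  · exact ⟨F, i1, i2, Nat.odd_iff.2 (by omega), R₀, ⟨e.trans f⟩⟩
  · have := card_subgroup_dvd_card (R₀ : Subgroup Spor.J2)
    rw [← Nat.card_congr (e.trans f).toEquiv, cR, Cfsg.Agent.S1619.result.2.2.2] at this
    exact absurd this (by decide)
  · obtain ⟨f⟩ := Cfsg.Agent.S3100.result (fun c => by
      have := congrArg Subtype.val (c.is_comm.comm (⟨_, ok.cfg.le (lt.jL mA)⟩ : D.X)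
        ⟨_, ok.cfg.le (lt.jL mD)⟩)
      exact absurd (lt.j_comm.1 this) (by decide)) S r
    rw [Nat.card_congr f.toEquiv, H73.LyT.card] at c13
    exact absurd c13 (by decide)

end H52.G3I5
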