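import Cfsg.Agent.H52.MCL
import Cfsg.Agent.H52.Block

/-! A characteristic subgroup centralized by the residual of a block. -/

set_option autoImplicit false
set_option linter.unusedSectionVars false

namespace H52

open Subgroup Cfsg H98 H96
open scoped commutatorElement

universe u

variable {X : Type u} [Group X] {p q : ℕ} [hp : Fact p.Prime] [Finite X]
  {L T T' O H K A B Y D N : Subgroup X} {g : X}

open Classical in
/-- the subgroup measuring how far `T` is from a Sylow subgroup of a block -/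
noncomputable def s0 (p : ℕ) (T : Subgroup X) : Subgroup X :=
  if p = 2 then ⁅Ph T, T⁆ ⊔ Ph (Ph T) else if p = 3 then ⁅⁅Ph T, T⁆, T⁆ ⊔ Ph (Ph T)
    else ⁅Ph T, T⁆ ⊔ powerClosure p 1 T

theorem map_s0 {X' : Type*} [Group X'] {f : X →* X'} (hf : Function.Injective f) (T : Subgroup X) :
    (s0 p T).map f = s0 p (T.map f) := by
  unfold s0
  split_ifs <;> simp only [Subgroup.map_sup, Subgroup.map_commutator, map_Ph hf, H19.map_powerClosure]

theorem s0_le_of (h1 : p = 3 ∨ ⁅Ph T, T⁆ ≤ N) (h2 : ⁅⁅Ph T, T⁆, T⁆ ≤ N) (h3 : Ph (Ph T) ≤ N)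
    (h4 : p = 2 ∨ p = 3 ∨ ∀ x ∈ T, x ^ p ∈ N) : s0 p T ≤ N := by
  unfold s0
  split_ifs with h5 h6
  · exact sup_le (h1.resolve_left (by omega)) h3
  · exact sup_le h2 h3
  · exact sup_le (h1.resolve_left h6) (H19.powerClosure_le_iff.2 fun x hx => by
      rw [pow_one]; exact (h4.resolve_left h5).resolve_left h6 x hx)

theorem R1.exists_field (h : R1 p q L) :
    ∃ (F : Type) (_ : Field F) (_ : Fintype F), Fintype.card F = q ∧ _root_.CharP F p := by
  obtain ⟨T, hT⟩ := exists_isSyl p L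
  obtain ⟨n, hn⟩ := hT.isPGroup.exists_card_eq
  obtain ⟨k, -, hq⟩ := (Nat.dvd_prime_pow hp.out).1 (hn ▸ Dvd.intro _ (h.card T hT).symm : q ∣ p ^ n)
  have h0 : k ≠ 0 := fun e => h.one_lt.ne' (by rw [hq, e, pow_zero])
  let _ := Fintype.ofFinite (GaloisField p k)
  exact ⟨GaloisField p k, inferInstance, inferInstance, by
    rw [← Nat.card_eq_fintype_card, GaloisField.card p _ h0, hq], inferInstance⟩

theorem mul_pow_mem {a c : X} (ha : a ∈ normalizer (N : Set X)) (hc : c ∈ N) (n : ℕ) :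
    (a * c) ^ n * (a ^ n)⁻¹ ∈ N := by
  induction n with
  | zero => simp
  | succ n ih =>
    have e : (a * c) ^ (n + 1) * (a ^ (n + 1))⁻¹ =
        (a * c) ^ n * (a ^ n)⁻¹ * (a ^ (n + 1) * c * (a ^ (n + 1))⁻¹) := by
      rw [pow_succ, pow_succ]; group
    exact e ▸ mul_mem ih (conj_mem_of_mem_normalizer (pow_mem ha _) hc)

/-- elements of the core centralized by the residual modulo the centre -/
abbrev Cs (p : ℕ) (L : Subgroup X) : Subgroup X := pCoreOf p L ⊓ stab (res p L) (Cv p L)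

theorem n_Cs (L : Subgroup X) : L ≤ normalizer (Cs p L : Set X) :=
  le_normalizer_inf (self_le_normalizer_pCoreOf L)
    (le_normalizer_stab (self_le_normalizer_res L) (n_Cv L))

theorem le_Cs (h1 : A ≤ pCoreOf p L) (h2 : ⁅res p L, A⁆ ≤ Cv p L) : A ≤ Cs p L :=
  le_inf h1 (le_stab_iff.2 ⟨(h1.trans (pCoreOf_le L)).trans (n_Cv L), h2⟩)

theorem Cv_le_Cs (L : Subgroup X) : Cv p L ≤ Cs p L :=
  le_Cs ((Cv_le L).trans (Vv_le_Q L)) (commutator_le_right' ((res_le L).trans (n_Cv L)))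

namespace Vtx

variable (h : Vtx p q L)
include h

theorem V_inf_Cs : Vv p L ⊓ Cs p L = Cv p L :=
  (h.spr.irred (le_inf (Cv_le L) (Cv_le_Cs L)) inf_le_left
    (le_normalizer_inf (n_Vv L) (n_Cs L))).resolve_right fun e => h.spr.not_res_le (by
      rw [commutator_comm]; exact (le_stab_iff.1 (e.ge.trans (inf_le_right.trans inf_le_right))).2)

variable (QE : ⁅pCoreOf p L, res p L⁆ ≤ Vv p L)
include QE

theorem Ph_le_Cs : Ph (pCoreOf p L) ≤ Cs p L :=
  le_Cs (Ph_le _) (by
    rw [commutator_comm]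
    exact (commutator_eq_bot_iff_le_centralizer.2
      (Ph_le_cent (Q_le_cent L) QE (zc_ab _) h.el)).le.trans bot_le)

theorem stabV : L ⊓ stab (Vv p L) (Cv p L) ≤ pCoreOf p L := by
  set K := L ⊓ stab (Vv p L) (Cv p L)
  have hK : K ≤ L := inf_le_left
  refine le_pCoreOf (isPGroup_of_res_le ?_ le_rfl) hK (le_normalizer_inf le_normalizer h.spr.n_stab)
  refine h.chr.isPGroup_of_chain ((res_le K).trans hK) (fun i => match i with
    | 0 => pCoreOf p L | 1 => Vv p L | 2 => Cv p L | _ + 3 => ⊥) le_rfl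
    (fun i => ?_) (n := 3) rfl
  match i with
  | 0 => exact (commutator_mono le_rfl (res_mono hK)).trans QE
  | 1 => exact (le_stab_iff.1 ((res_le K).trans inf_le_right)).2
  | 2 => exact (commutator_eq_bot_iff_le_centralizer.2
      (inf_le_right.trans (centralizer_anti ((res_le K).trans hK)))).le
  | _ + 3 => exact (commutator_bot_left _).le

theorem Q_le_sup (hp2 : p ≠ 2) : pCoreOf p L ≤ Vv p L ⊔ Cs p L := by
  obtain ⟨F, _, _, hF, _⟩ := h.r1.exists_field
  have h2 : (2 : F) ≠ 0 := fun e => hp2 ((Nat.prime_dvd_prime_iff_eq hp.out Nat.prime_two).1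
    ((CharP.cast_eq_zero_iff F p 2).1 (by exact_mod_cast e)))
  have hsq : ∀ {K : Subgroup X}, ∀ x ∈ pCoreOf p L, x * x ∈ K → x ∈ K := fun x hx e => by
    obtain ⟨k, hk⟩ := isPGroup_iff_forall.1 (isPGroup_pCoreOf (p := p) L) x hx
    refine mem_of_pow_mem_of_coprime (n := 2) (by rwa [sq]) (Nat.Coprime.coprime_dvd_left
      (orderOf_dvd_of_pow_eq_one hk) (Nat.Coprime.pow_left _ ?_))
    exact (Nat.coprime_primes hp.out Nat.prime_two).2 hp2
  have hQQ := (comm_le_Ph (isPGroup_pCoreOf (p := p) L)).trans (h.Ph_le_Cs QE)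
  have nQ := self_le_normalizer_pCoreOf (p := p) L
  obtain ⟨M, _, _, c, hc⟩ := exists_crd (L := L) inf_le_left nQ (n_Cs L) hQQ
  obtain ⟨t, ht, htQ, t2, tc⟩ := h.spr.exists_central hF h2 (h.stabV QE)
  have i1 := h.spr.inverts hF (h.stabV QE) ht htQ tc
  let t' : L := ⟨t, ht⟩
  have cm : ∀ (l : L), ∀ x ∈ pCoreOf p L, ⁅(l : X), x⁆ ∈ pCoreOf p L := fun l x hx =>
    commutator_le_right' nQ (commutator_mem_commutator l.2 hx)
  have hQ : ∀ s : L, (s : X) ∈ pCoreOf p L → ∀ m : M, s • m = m := fun s hs m => by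
    obtain ⟨u, hu, rfl⟩ := hc.surj m
    rw [← dl_eq_zero, hc.dl _ hu, hc.zero _ (cm s u hu)]
    exact hQQ (commutator_mem_commutator hs hu)
  have h4 : ∀ (l : L) (m : M), l • t' • m = t' • l • m := fun l m => by
    conv_rhs => rw [← hQ ⁅l, t'⁆ (tc l l.2) (t' • l • m)]
    simp only [← mul_smul, commutatorElement_def]
    congr 1; group
  have h5 : ∀ m : M, t' • t' • m = m := fun m => by rw [← mul_smul]; exact hQ (t' * t') t2 m
  have hE : ∀ e ∈ res p L, ∀ x ∈ pCoreOf p L, ⁅e, x⁆ ∈ Vv p L := fun e he x hx => by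
    rw [← commutatorElement_inv]
    exact inv_mem (QE (commutator_mem_commutator hx he))
  have h6 : ∀ v ∈ Vv p L, t' • c v + c v = 0 := fun v hv => by
    have h7 := conj_mem_of_mem_normalizer (nQ ht) hv.1
    rw [hc.act _ v hv.1, ← hc.mul _ h7 _ hv.1, hc.zero _ (mul_mem h7 hv.1)]
    exact Cv_le_Cs L (i1 v hv)
  intro x hx
  have h7 := conj_mem_of_mem_normalizer (nQ ht) hx
  have h8 : t' • c x + c x = c (t * x * t⁻¹ * x) := by rw [hc.act _ x hx, hc.mul _ h7 _ hx]
  have h9 : t * x * t⁻¹ * x ∈ Cs p L := ⟨mul_mem h7 hx, mem_stab.2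
    ⟨n_Cv L (pCoreOf_le L (mul_mem h7 hx)), fun e he => by
      have k1 := hE e he _ (mul_mem h7 hx)
      refine h.V_inf_Cs.le ⟨k1, hsq _ k1.1 ?_⟩
      have k2 := h6 _ k1
      rw [← hc.zero _ (mul_mem k1.1 k1.1), hc.mul _ k1.1 _ k1.1, ← k2, add_left_inj,
        ← hc.dl ⟨e, res_le L he⟩ (mul_mem h7 hx), ← h8, dl_apply, smul_sub, ← h4, smul_add t', h5,
        add_comm (c x)]⟩⟩
  obtain ⟨k, hk⟩ := exists_pow_mem_res (p := p) ht
  obtain ⟨j, hj⟩ := (hp.out.odd_of_ne_two hp2).pow (n := k)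
  have h10 := hE _ hk x hx
  have h11 : dl t' (c x) = c ⁅t ^ p ^ k, x⁆ := by
    refine Eq.trans ?_ (hc.dl (t' ^ p ^ k) hx)
    rw [dl_apply, dl_apply, hj, pow_succ, pow_mul, mul_smul,
      hQ ((t' ^ 2) ^ j) (pow_mem (by rwa [sq]) j)]
  refine hsq x hx ((mul_mem_cancel_left (mem_sup_left h10)).1 (mem_sup_right ?_))
  rw [← hc.zero _ (mul_mem h10.1 (mul_mem hx hx)), hc.mul _ h10.1 _ (mul_mem hx hx), hc.mul _ hx _ hx,
    ← h11, ← (hc.zero _ h9.1).2 h9, ← h8, dl_apply]
  abel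

theorem s0_le (hT : IsSyl p T L) (e : Y ⊔ pCoreOf p L = T) (hab : Y ≤ centralizer (Y : Set X))
    (hel : ∀ y ∈ Y, y ^ p = 1)
    (hQY : ⁅pCoreOf p L, Y⁆ ≤ Vv p L ⊔ pCoreOf p L ⊓ centralizer (Y : Set X)) :
    zc T ⊓ s0 p T ≤ centralizer (L : Set X) := by
  have hY : Y ≤ T := e ▸ le_sup_left
  have hP := h.Ph_le_Cs QE
  have hQQ := (comm_le_Ph (isPGroup_pCoreOf (p := p) L)).trans hP
  have nC : T ≤ normalizer (Cs p L : Set X) := hT.le.trans (n_Cs L)
  set K := pCoreOf p L ⊓ centralizer (Y : Set X) ⊔ Cs p L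
  have hKQ : K ≤ pCoreOf p L := sup_le inf_le_left inf_le_left
  have h1 : ⁅K, T⁆ ≤ Cs p L := by
    conv_lhs => rw [← e]
    refine commutator_sup_right_le (hY.trans nC) (hT.pCoreOf_le.trans nC) ?_
      ((commutator_mono hKQ le_rfl).trans hQQ)
    exact commutator_sup_left_le (inf_le_left.trans (hT.pCoreOf_le.trans nC)) le_normalizer
      ((commutator_eq_bot_iff_le_centralizer.2 inf_le_right).le.trans bot_le)
      (commutator_le_left' (hY.trans nC))
  have nK : T ≤ normalizer (K : Set X) := n_sup_of_comm (by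
    rw [commutator_comm]; exact ((commutator_mono le_sup_left le_rfl).trans h1).trans le_sup_right) nC
  have hZ : zc T ≤ K := le_sup_of_le_left (le_inf ((h.zc_le hT).trans (Vv_le_Q L))
    (inf_le_right.trans (centralizer_anti hY)))
  have h2 : ⁅pCoreOf p L, Y⁆ ≤ K := by
    by_cases hp2 : p = 2
    · refine commutator_le.2 fun x hx s hs => ?_
      by_cases hsQ : s ∈ pCoreOf p L
      · exact mem_sup_right (hQQ (commutator_mem_commutator hx hsQ))
      obtain ⟨v, hv, d, hd, e1⟩ := (mem_sup_right_norm (inf_le_left.trans ((pCoreOf_le L).trans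
        (n_Vv L)))).1 (hQY (commutator_mem_commutator hx hs))
      have h3 : v ∈ zc T := by
        refine h.reg hT (hY hs) hsQ hv (h.V_inf_Cs.le ⟨h.spr.comm_mem (hT.le (hY hs)) hv, ?_⟩)
        have h4 : s * s = 1 := by rw [← sq, ← hp2]; exact hel s hs
        have h5 : ⁅s, v⁆ = (⁅x, s⁆ ^ p)⁻¹ := by
          have h6 : ⁅s, v * d⁆ = ⁅s, v⁆ := by
            rw [H9.commutatorElement_mul_right', comm_eq_one_of_mem hs hd.2]; group
          rw [← h6, ← e1, hp2, sq, commutatorElement_def, commutatorElement_def,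
            show s⁻¹ = s from inv_eq_of_mul_eq_one_right h4]
          simp only [mul_inv_rev, inv_inv, mul_assoc, show s⁻¹ = s from inv_eq_of_mul_eq_one_right h4]
          rw [← mul_assoc s s, h4, one_mul]
        rw [h5]
        exact (Cs p L).inv_mem (hP (H9.pow_mem_map_frattini (isPGroup_pCoreOf L)
          (e1 ▸ mul_mem hv.1 hd.1)))
      exact e1 ▸ mul_mem (hZ h3) (mem_sup_left hd)
    · refine (commutator_mono (h.Q_le_sup QE hp2) le_rfl).trans (commutator_sup_left_le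
        (((Vv_le_Q L).trans hT.pCoreOf_le).trans nK) (le_normalizer_of_le le_sup_right) ?_
        ((commutator_le_left' (hY.trans nC)).trans le_sup_right))
      rw [commutator_comm]
      exact ((commutator_mono hY le_rfl).trans (h.comm_le hT)).trans hZ
  have h3 : ⁅Y ⊔ pCoreOf p L, Y ⊔ pCoreOf p L⁆ ≤ K := by
    have k1 := hY.trans nK
    have k2 := hT.pCoreOf_le.trans nK
    refine commutator_sup_left_le k1 k2 (commutator_sup_right_le k1 k2
      ((commutator_eq_bot_iff_le_centralizer.2 hab).le.trans bot_le) ?_)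
      (commutator_sup_right_le k1 k2 h2 (hQQ.trans le_sup_right))
    rwa [commutator_comm]
  have h4 : Ph T ≤ K := by
    rw [← e]
    exact Ph_le_of (p := p) h3 (pow_mem_of_sup (hKQ.trans le_sup_right) h3
      (fun y hy => hel y hy ▸ one_mem _)
      fun y hy => mem_sup_right (hP (H9.pow_mem_map_frattini (isPGroup_pCoreOf L) hy)))
  have h5 := (commutator_mono h4 le_rfl).trans h1
  refine le_trans (le_trans (inf_le_inf (h.zc_le hT) (s0_le_of (Or.inr h5)
    ((commutator_mono h5 le_rfl).trans (commutator_le_left' nC))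
    ((Ph_mono (isPGroup_pCoreOf L) (h4.trans hKQ)).trans hP) ?_)) h.V_inf_Cs.le) inf_le_right
  refine or_iff_not_imp_left.2 fun hp2 => Or.inr fun x hx => ?_
  obtain ⟨y, hy, z, hz, rfl⟩ := (mem_sup_left_norm (le_normalizer_pCoreOf_of_le (hY.trans hT.le))).1
    (e.ge hx)
  obtain ⟨v, hv, c, hc, rfl⟩ := (mem_sup_left_norm ((Vv_le L).trans (n_Cs L))).1 (h.Q_le_sup QE hp2 hz)
  have hvT := hT.pCoreOf_le hv.1
  have h6 := mul_pow_mem (nC (mul_mem (hY hy) hvT)) hc p
  have h7 : ⁅v, y⁆ ∈ zc T := by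
    rw [← commutatorElement_inv]
    exact inv_mem (h.comm_le hT (commutator_mem_commutator (hY hy) hv))
  rwa [H9.mul_pow_of_odd (h7.2 y (hY hy)) (h7.2 v hvT) (hp.out.odd_of_ne_two hp2) (h.zc_el hT _ h7),
    hel y hy, h.el v hv, mul_one, inv_one, mul_one, mul_assoc] at h6

end Vtx

theorem B1.s0_le (h : B1 p q L T A) : zc T ⊓ s0 p T ≤ centralizer (L : Set X) :=
  h.vtx.s0_le h.QE h.syl h.gA h.Aab h.Ael (by
    rw [h.Q_eq]; exact commutator_le_left' (le_normalizer_pCoreOf_of_le (h.AT.trans h.syl.le)))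

theorem B2.s0_le (h : B2 p q q L T A Y g) : zc T ⊓ s0 p T ≤ centralizer (L : Set X) := by
  set D := Dd p L A g ⊓ centralizer (Y : Set X)
  have hT := h.syl.isPGroup
  have hD : D ≤ T := h.dec ▸ le_sup_right
  have hY : Y ⊔ Uu A g ≤ T := h.dec ▸ le_sup_left
  have hK : A ⊔ Vv p L ≤ Y ⊔ Uu A g := h.AV_le.trans le_sup_right
  set N := T ⊓ centralizer (res p L : Set X)
  have nN : T ≤ normalizer (N : Set X) :=
    le_normalizer_inf le_normalizer (le_normalizer_centralizer (le_normalizer_res_of_le h.syl.le))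
  have h1 : Ph D ≤ N := le_inf ((Ph_le D).trans hD) (Ph_le_cent ((inf_le_left.trans h.DQ).trans
    (Q_le_cent L)) ((commutator_mono inf_le_left le_rfl).trans h.DE) (zc_ab _) h.vtx.el)
  have h2 : Ph T ≤ (A ⊔ Vv p L) ⊔ Ph D := by
    conv_lhs => rw [← h.dec]
    exact Ph_sup_le (hT.to_le hY) (hT.to_le hD) h.dec_cent
      (le_sup_of_le_left (Ph_le_of (p := p) h.YY h.Y_pow)) le_sup_right
  have h3 : ⁅Ph T, T⁆ ≤ N ⊔ zc T := by
    have k1 : T ≤ normalizer ((N ⊔ zc T : Subgroup X) : Set X) := le_normalizer_sup nN (n_zc le_normalizer)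
    refine (commutator_mono h2 le_rfl).trans (commutator_sup_left_le ((hK.trans hY).trans k1)
      (((Ph_le D).trans hD).trans k1) ?_ (((commutator_mono h1 le_rfl).trans
        (commutator_le_left' nN)).trans le_sup_left))
    rw [commutator_comm]
    exact h.TAV.trans le_sup_right
  have h4 : s0 p T ≤ N := by
    refine s0_le_of (Or.inl h.eq_three) ((commutator_mono h3 le_rfl).trans ?_) ((Ph_mono (hT.to_le
      (sup_le (hK.trans hY) ((Ph_le D).trans hD))) h2).trans (Ph_sup_le (hT.to_le (hK.trans hY))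
      (hT.to_le ((Ph_le D).trans hD)) (hK.trans (h.dec_cent.trans (centralizer_anti (Ph_le D))))
      (Ph_le_of_el ?_ h.AV_el) ((Ph_le _).trans h1))) (Or.inr (Or.inl h.eq_three))
    · rw [commutator_sup_centralizer_left inf_le_right (Or.inl (inf_le_left.trans nN))]
      exact commutator_le_left' nN
    · rw [centralizer_sup]
      exact le_inf (sup_le h.Aab h.VA) (sup_le (le_centralizer_iff.1 h.VA) (zc_ab _))
  rw [← h.syl.sup_res, centralizer_sup]
  exact inf_le_inf inf_le_right (h4.trans inf_le_right)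

end H52
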