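import Cfsg.Agent.H52.GNa

/-! The amalgam of all rank one groups over a fixed Sylow subgroup has no critical pair. -/

set_option autoImplicit false
set_option linter.unusedSectionVars false

namespace H52

open Subgroup Cfsg H98 H96
open scoped commutatorElement

universe u

variable {X : Type u} [Group X] {p q : ℕ} [hp : Fact p.Prime] [Finite X]
  {L T T' O H K A B Y D N a a' : Subgroup X} {g : X} {α S : ℕ → Subgroup X} {n b : ℕ}

/-- `p`-groups whose large abelian subgroups are centrally large -/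
structure Nice (p : ℕ) (T : Subgroup X) : Prop where
  cl : CL T T
  ab : ∀ A ∈ H13.maxAb 0 T, CD T A
  jt : T ≤ sSup (H13.maxAb 0 T)
  el : ∀ z ∈ zc T, z ^ p = 1

/-- the vertices -/
def Gv (p : ℕ) (L : Subgroup X) : Prop := (∃ q, R1 p q L) ∧ CharP p L ∧
  ∀ T, IsSyl p T L → Nice p T ∧ ¬ zc T ⊓ s0 p T ≤ centralizer (L : Set X)

theorem Nice.map {X' : Type u} [Group X'] [Finite X'] {f : X →* X'} (hf : Function.Injective f)
    (h : Nice p T) : Nice p (T.map f) := by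
  refine ⟨h.cl.map hf, fun A hA => ?_, ?_, ?_⟩
  · rw [H13.maxAb_map hf.injOn] at hA
    obtain ⟨A, hA, rfl⟩ := hA
    exact (h.ab A hA).map hf
  · rw [H13.sSup_maxAb_map hf.injOn]
    exact map_mono h.jt
  · rw [← map_zc hf]
    rintro _ ⟨z, hz, rfl⟩
    rw [← map_pow, h.el z hz, map_one]

theorem not_cent_map {X' : Type u} [Group X'] [Finite X'] {f : X →* X'} (hf : Function.Injective f)
    (h : ¬ zc T ⊓ s0 p T ≤ centralizer (L : Set X)) :
    ¬ zc (T.map f) ⊓ s0 p (T.map f) ≤ centralizer (L.map f : Set X') := fun e => h (by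
  rw [← map_zc hf, ← map_s0 hf, ← map_inf _ _ _ hf] at e
  exact le_centralizer_of_map hf e)

theorem Gv.of_one (h : R1 p q L) (hc : CharP p L) (hT : IsSyl p T L) (h1 : Nice p T)
    (h2 : ¬ zc T ⊓ s0 p T ≤ centralizer (L : Set X)) : Gv p L := ⟨⟨q, h⟩, hc, fun T' hT' => by
  obtain ⟨g, hg, rfl⟩ := hT.exists_cj_eq hT'
  refine ⟨h1.map (MulAut.conj g).injective, ?_⟩
  rw [← cj_eq_self_of_mem hg]
  exact not_cent_map (MulAut.conj g).injective h2⟩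

theorem Gv.map {X' : Type u} [Group X'] [Finite X'] {f : X →* X'} (hf : Function.Injective f)
    (h : Gv p L) : Gv p (L.map f) := by
  obtain ⟨⟨q, h1⟩, h2, h3⟩ := h
  obtain ⟨T, hT⟩ := exists_isSyl p L
  exact Gv.of_one (h1.map hf) (h2.map_of_injective hf) (hT.map_of_injective hf) ((h3 T hT).1.map hf)
    (not_cent_map hf (h3 T hT).2)

theorem Gv.cj (h : Gv p L) (g : X) : Gv p (cj g L) := h.map (MulAut.conj g).injective

theorem Nice.exists_not_le (h : Nice p T) (h1 : ¬ T ≤ N) : ∃ A ∈ H13.maxAb 0 T, ¬ A ≤ N := by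
  by_contra h2
  push Not at h2
  exact h1 (h.jt.trans (sSup_le h2))

theorem Gv.nice (h : Gv p L) (hT : IsSyl p T L) : Nice p T := (h.2.2 T hT).1

theorem Gv.vtx (h : Gv p L) : ∃ q, Vtx p q L := by
  obtain ⟨⟨q, h1⟩, h2, h3⟩ := h
  obtain ⟨T, hT⟩ := exists_isSyl p L
  obtain ⟨A, h4, h5⟩ := (h3 T hT).1.exists_not_le (h1.not_le_Q hT)
  have h6 := h1.nv h2 hT (fun e => (h3 T hT).2 (inf_le_left.trans e)) h4 h5
  exact ⟨q, Vtx.of_spr h6.spr h6.fxz h2 hT (h3 T hT).1.el⟩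

theorem am_gv : Am p (Gv p : Subgroup X → Prop) := ⟨fun _ h => h.vtx, fun _ _ g _ h _ => h.cj g⟩

theorem Gv.cl_Q (h : Gv p L) (hT : IsSyl p T L) : CL T (pCoreOf p L) :=
  let ⟨_, h1⟩ := h.vtx
  Nv.cl_Q ⟨h1.spr, h1.fxz, h1.chr⟩ hT (h.nice hT).cl

theorem Vtx.atom (h : Vtx p q L) (hT : IsSyl p T L) (hH : CD T H) (h1 : H ≤ Vv p L) :
    H = zc T ∨ H = Vv p L := by
  refine or_iff_not_imp_left.2 fun h2 => le_antisymm h1 (hH.le_of_cz_le
    ((Vv_le_Q L).trans hT.pCoreOf_le) (le_trans (fun s hs => ?_) (Q_le_cent L)))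
  obtain ⟨v, hv, hv'⟩ := SetLike.not_le_iff_exists.1 fun e => h2 (le_antisymm e hH.zc_le)
  by_contra h3
  exact hv' (h.reg hT hs.1 h3 (h1 hv) (by rw [comm_eq_one_of_mem' hs.2 hv]; exact one_mem _))

theorem Gv.key (h : Gv p a) (hT : IsSyl p T a) (hO : CL T O) (h1 : Vv p a ≤ O) (h2 : ¬ Vv p a ≤ zc O) :
    ⁅Vv p a ⊔ zc O, O⁆ = ⁅T, Vv p a⁆ ∧ CD O (Vv p a ⊔ zc O) ∧
      ∀ H, CD O H → H ≤ Vv p a ⊔ zc O → H = zc O ∨ H = Vv p a ⊔ zc O := by
  obtain ⟨q, hv⟩ := h.vtx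
  have hQ := h.cl_Q hT
  have h3 := (hv.atom hT (hQ.cd_zc.inf hO.cd_zc) inf_le_left).resolve_right fun e =>
    h2 (e.ge.trans inf_le_right)
  have h4 := hQ.cd_zc.cz_inf hO.cd_zc
  rw [h3, (h.nice hT).cl.cz_zc, hQ.cz_zc, hO.cz_zc, sup_comm] at h4
  have h5 : Vv p a ≤ normalizer (zc O : Set X) := h1.trans (n_zc le_normalizer)
  refine ⟨?_, (hO.down (hQ.cd_zc.sup hO.cd_zc) (sup_le h1 inf_le_left) le_sup_right).1, fun H h6 h7 => ?_⟩
  · rw [commutator_sup_centralizer_left inf_le_right (Or.inr h5), h4, commutator_sup_centralizer_left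
      (Q_le_cent a) (Or.inr (le_normalizer_pCoreOf_of_le (hO.le.trans hT.le))), commutator_comm]
  · have h8 : H = Vv p a ⊓ H ⊔ zc O := by rw [← sup_inf_of_le_right h5 h6.zc_le, inf_eq_right.2 h7]
    refine (hv.atom hT (hQ.cd_zc.inf (hO.up h6).1) inf_le_left).imp (fun e => ?_) fun e => ?_
    · rw [h8, e, sup_eq_right.2 hO.cd_zc.zc_le]
    · rw [h8, e]

theorem Gv.n_comm (h : Gv p L) (hT : IsSyl p T L) (hO : CL T O) (nO : L ≤ normalizer (O : Set X))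
    (hY : CD O Y) (hat : ∀ H, CD O H → H ≤ Y → H = zc O ∨ H = Y)
    (hn : T ≤ normalizer ((⁅Y, O⁆ : Subgroup X) : Set X)) :
    L ≤ normalizer ((⁅Y, O⁆ : Subgroup X) : Set X) := by
  obtain ⟨q, h1⟩ := h.1
  obtain ⟨g, hg, e⟩ := h1.exists_opp hT
  have hT' := hT.cj_of_mem hg
  obtain ⟨A, h2, h3⟩ := (h.nice hT').exists_not_le (h1.not_le_Q hT')
  obtain ⟨t, ht, htQ⟩ := SetLike.not_le_iff_exists.1 h3
  have h4 := hO.cj g
  rw [cj_eq_self (nO hg)] at h4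
  exact h1.ti T _ hT hT' e t (h2.1 ht) htQ _ hn (h4.n_comm_atom ((h.nice hT').ab A h2)
    (le_antisymm (le_of_cent_maxAb h2 inf_le_left inf_le_right) (le_inf h2.1 (maxAb_ab h2)))
    ((h2.1.trans hT'.le).trans nO) hY hat ht)

theorem not_norm_three (hb : Short p (Gv p : Subgroup X → Prop) (b + 3)) (h : Pth p (Gv p) α S)
    (hc : ¬ Vv p (α 0) ≤ pCoreOf p (α (b + 3))) :
    ¬ α 0 ≤ normalizer ((Vv p (α 1) ⊔ Vv p (α 0) : Subgroup X) : Set X) := fun hn => by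
  have g0 := h.vx 0
  have g1 := h.vx 1
  have s0 := h.s1 0
  have s1 := h.s2 0
  obtain ⟨q, v0⟩ := g0.vtx
  have h1 : Vv p (α 0) ≤ pCoreOf p (α 1) := hb 1 (by omega) _ _ (h.wk 0 1)
  have h2 : Vv p (α 1) ≤ pCoreOf p (α (b + 3)) := hb (b + 2) (by omega) _ _ (h.wk' (by omega))
  obtain ⟨x, hx, h3⟩ : ∃ x ∈ α 1, x ∉ normalizer ((Vv p (α 1) ⊔ Vv p (α 0) : Subgroup X) : Set X) :=
    SetLike.not_le_iff_exists.1 fun e => by
      obtain ⟨y, hy, e1⟩ := s1.exists_cj_eq (h.s1 1)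
      refine hc (le_sup_right.trans ((cj_eq_self (e hy)).ge.trans ?_))
      rw [cj_sup, cj_eq_self (n_Vv _ hy), cj_Vv]
      exact sup_le h2 (hb (b + 2) (by omega) _ _ ((h.wk' (i := 2) (k := b + 1) (by omega)).cons
        (g0.cj y) (e1 ▸ s0.cj y) (h.s2 1)))
  have hR : S 0 ≤ normalizer ((⁅S 0, Vv p (α 0)⁆ : Subgroup X) : Set X) :=
    le_normalizer_commutator le_normalizer (s0.le.trans (n_Vv _))
  obtain ⟨k1, k2, k3⟩ := g0.key s0 (g1.cl_Q s1) h1 fun e => hc (e.trans h2)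
  have h4 := g1.n_comm s1 (g1.cl_Q s1) (self_le_normalizer_pCoreOf _) k2 k3 (k1 ▸ hR)
  rw [k1] at h4
  have h5 := (g1.cl_Q s1).cd_zc.sup (g0.cl_Q s0).cd_zc
  have h6 : Vv p (α 1) ⊔ Vv p (α 0) ≤ centralizer ((Vv p (α 1) ⊔ Vv p (α 0) : Subgroup X) : Set X) := by
    rw [centralizer_sup]
    exact le_inf (sup_le (zc_ab _) (h1.trans (Q_le_cent _)))
      (sup_le (le_centralizer_iff.1 (h1.trans (Q_le_cent _))) (zc_ab _))
  have h7 := h5.cl_cz h6
  set O := cz (S 0) (Vv p (α 1) ⊔ Vv p (α 0))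
  have h8 : zc O = Vv p (α 1) ⊔ Vv p (α 0) := h7.cz_eq ▸ h5.cc
  have h9 : α 0 ≤ normalizer (O : Set X) := by
    rw [show O = pCoreOf p (α 0) ⊓ centralizer ((Vv p (α 1) ⊔ Vv p (α 0) : Subgroup X) : Set X) from
      le_antisymm (le_inf ((cz_anti le_sup_right).trans (g0.cl_Q s0).cz_zc.le) inf_le_right)
        (inf_le_inf_right _ s0.pCoreOf_le)]
    exact le_normalizer_inf (self_le_normalizer_pCoreOf _) (le_normalizer_centralizer hn)
  have s2 := s1.cj_of_mem hx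
  have h10 : Vv p (cj x (α 0)) ≤ pCoreOf p (α 1) :=
    hb 1 (by omega) _ _ (wk_one (g0.cj x) g1 (s0.cj x) s2)
  obtain ⟨l1, l2, l3⟩ := (g0.cj x).key (s0.cj x) ((g1.cl_Q s1).move' (g1.cl_Q s2) h7
    ((cz_anti le_sup_left).trans (g1.cl_Q s1).cz_zc.le)) (le_inf (h10.trans s1.pCoreOf_le) (by
      rw [centralizer_sup]
      exact le_inf (h10.trans (Q_le_cent _)) (hb.comm (n := 2) (by omega)
        ((h.wk 0 1).symm.cons (g0.cj x) (s0.cj x) s2)))) fun e => h3 (mem_normalizer_of_cj_le (by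
      rw [cj_sup, cj_eq_self (n_Vv _ hx), cj_Vv]
      exact sup_le le_sup_left (h8 ▸ e)))
  rw [← cj_Vv, ← cj_commutator, cj_eq_self (h4 hx), cj_Vv] at l1
  exact v0.not_norm_comm s0 (l1 ▸ g0.n_comm s0 h7 h9 l2 l3 (l1 ▸ hR))

theorem not_norm_two (hb : Short p (Gv p : Subgroup X → Prop) 2) (h : Pth p (Gv p) α S)
    (hc : ¬ Vv p (α 0) ≤ pCoreOf p (α 2)) :
    ¬ α 0 ≤ normalizer ((Vv p (α 1) ⊔ Vv p (α 0) : Subgroup X) : Set X) := fun hn => by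
  obtain ⟨⟨q, v0, v2⟩, c0, c2, -⟩ := h.crit am_gv hb 0 hc
  obtain ⟨q', v1⟩ := (h.vx 1).vtx
  have s0 := h.s1 0
  have nQ := self_le_normalizer_pCoreOf (p := p) (α 0)
  set O := pCoreOf p (α 0) ⊓ centralizer ((Vv p (α 1) ⊔ Vv p (α 0) : Subgroup X) : Set X)
  have nO : α 0 ≤ normalizer (O : Set X) := le_normalizer_inf nQ (le_normalizer_centralizer hn)
  have h1 : Vv p (α 2) ≤ S 0 := c0.gen ▸ le_sup_left
  have h2 : O ≤ Vv p (α 0) ⊔ pCoreOf p (α 0) ⊓ centralizer (Vv p (α 2) : Set X) := by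
    have h3 : O ≤ S 1 := ((inf_le_inf s0.pCoreOf_le (centralizer_anti le_sup_left)).trans
      (v1.inf_cent (h.s2 0)).le).trans (h.s1 1).pCoreOf_le
    refine (le_inf (h3.trans c2.gen.ge) inf_le_left).trans ?_
    rw [sup_inf_of_le_left (le_normalizer_pCoreOf_of_le (le_sup_left.trans (c2.gen.le.trans
      (h.s2 1).le))) (Vv_le_Q _)]
    exact sup_le_sup_left (le_inf inf_le_right (inf_le_left.trans (Q_le_cent _))) _
  have h3 : ⁅pCoreOf p (α 0), S 0⁆ ≤ O := le_inf (commutator_le_left' (s0.le.trans nQ)) (by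
    rw [centralizer_sup]
    exact le_inf (((commutator_mono s0.pCoreOf_le le_rfl).trans (v1.r1.comm _ (h.s2 0))).trans
      (Q_le_cent _)) ((commutator_le_left' (s0.le.trans nQ)).trans (Q_le_cent _)))
  have h4 := v0.r1.res_le_stab s0 nO (n_Vv _) h1 c0.nle ((commutator_mono h2 le_rfl).trans (by
    rw [commutator_sup_centralizer_left inf_le_right (Or.inl ((inf_le_left.trans (pCoreOf_le _)).trans
      (n_Vv _)))]
    exact commutator_le_left' ((h1.trans s0.le).trans (n_Vv _))))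
  have h5 := v0.r1.res_le_stab s0 nQ nO le_rfl (v0.r1.not_le_Q s0) h3
  refine ((h.vx 0).2.2 _ s0).2 (v0.s0_le ?_ s0 c0.gen (zc_ab _) v2.el
    (((commutator_mono le_rfl h1).trans h3).trans h2))
  rw [← commutator_res_res (isPGroup_pCoreOf _) nQ]
  exact (commutator_mono h5 le_rfl).trans h4

theorem good_gv (hb : Short p (Gv p : Subgroup X → Prop) (b + 2)) :
    Good p (Gv p : Subgroup X → Prop) (b + 2) := fun a a' h0 hc => by
  obtain ⟨α, S, h, rfl, rfl⟩ := h0.symm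
  obtain ⟨q, v⟩ := (h.vx 0).vtx
  have h1 := crit_symm v (h.s1 0) ((hb (b + 1) (by omega) _ _ (h.wk' (i := 1) (by omega)).symm).trans
    (h.s2 0).pCoreOf_le) hc
  refine ⟨_, _, h.vx 1, h.s2 0, h.s1 0, ?_⟩
  cases b with
  | zero => exact not_norm_two hb h h1
  | succ b => exact not_norm_three hb h h1

/-- there is no critical pair -/
theorem Wk.le_Q (h : Wk p (Gv p) n a a') : Vv p a ≤ pCoreOf p a' := by
  by_contra hc
  rcases amalgam am_gv (fun _ => good_gv) ⟨n, a, a', h, hc⟩ with ⟨a, a', S, h1, h2, h3, h4, h5⟩ |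
    ⟨q, L, T, A, Y, g, h1, h2⟩
  · obtain ⟨q, v⟩ := h1.vtx
    obtain ⟨q', v'⟩ := h2.vtx
    exact (h1.2.2 S h3).2 (b1_of_crit v v' h3 h4 h5).s0_le
  · exact (h1.2.2 T h2.syl).2 h2.s0_le

/-- the join of the modules of all vertices connected to `T` -/
def Wi (p : ℕ) (T : Subgroup X) : Subgroup X := Wj p fun a => ∃ n L, IsSyl p T L ∧ Wk p (Gv p) n L a

theorem le_Wi (hT : IsSyl p T L) (h : Wk p (Gv p) n L a) : Vv p a ≤ Wi p T := le_Wj ⟨n, L, hT, h⟩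

theorem Gv.Wi_le (h : Gv p L) (hT : IsSyl p T L) (hT' : IsSyl p T' L) : Wi p T ≤ Wi p T' :=
  Wj_le fun _ ⟨_, _, h1, h2⟩ => le_Wi hT' (h2.cons h hT h1)

theorem cj_Wi_le (g : X) (T : Subgroup X) : cj g (Wi p T) ≤ Wi p (cj g T) :=
  cj_le_iff.2 (Wj_le fun a ⟨_, _, h1, h2⟩ => cj_le_iff.1 (by
    rw [cj_Vv]; exact le_Wi (h1.cj g) (h2.cj g fun _ h => h.cj g)))

theorem n_Wi (T : Subgroup X) : normalizer (T : Set X) ≤ normalizer (Wi p T : Set X) := fun g hg =>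
  mem_normalizer_of_cj_le ((cj_Wi_le g T).trans (by rw [cj_eq_self hg]))

theorem Gv.n_Wi (h : Gv p L) (hT : IsSyl p T L) : L ≤ normalizer (Wi p T : Set X) := fun g hg =>
  mem_normalizer_of_cj_le ((cj_Wi_le g T).trans (h.Wi_le (hT.cj_of_mem hg) hT))

theorem Wk.Wi_spec (h : Wk p (Gv p) n L a) (hT : IsSyl p T L) :
    Wi p T ≤ pCoreOf p a ∧ ∃ H, CD T H ∧ Vv p a ≤ H ∧ H ≤ Wi p T := by
  have h0 : ∀ {L T : Subgroup X}, Gv p L → IsSyl p T L → Wi p T ≤ pCoreOf p L := fun h hT =>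
    Wj_le fun _ ⟨_, _, h1, h2⟩ => (h2.cons h hT h1).symm.le_Q
  induction n generalizing L T with
  | zero =>
    obtain ⟨α, S, h, rfl, rfl⟩ := h
    exact ⟨h0 (h.vx 0) hT, _, ((h.vx 0).cl_Q hT).cd_zc, le_rfl, le_Wi hT (wk_zero (h.vx 0))⟩
  | succ n ih =>
    obtain ⟨α, S, h, rfl, rfl⟩ := h
    obtain ⟨h1, H, h2, h3, h4⟩ := ih (h.wk' (i := 1) (by omega)) (h.s2 0)
    have h5 := (h.vx 0).cl_Q (h.s1 0)
    refine ⟨((h.vx 0).Wi_le hT (h.s1 0)).trans h1, H ⊔ Vv p (α 0), (h5.move ((h.vx 0).cl_Q hT)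
      (h2.sup h5.cd_zc) (sup_le (h4.trans (h0 (h.vx 0) (h.s1 0))) (Vv_le_Q _))
      ((cz_anti le_sup_right).trans h5.cz_zc.le)).1, le_sup_of_le_left h3,
      sup_le (h4.trans ((h.vx 0).Wi_le (h.s1 0) hT)) (le_Wi hT (wk_zero (h.vx 0)))⟩

theorem Gv.n_cz_Wi (h : Gv p L) (hT : IsSyl p T L) : L ≤ normalizer (cz T (Wi p T) : Set X) := by
  rw [show cz T (Wi p T) = pCoreOf p L ⊓ centralizer (Wi p T : Set X) from
    le_antisymm (le_inf ((cz_anti (le_Wi hT (wk_zero h))).trans (h.cl_Q hT).cz_zc.le) inf_le_right)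
      (inf_le_inf_right _ hT.pCoreOf_le)]
  exact le_normalizer_inf (self_le_normalizer_pCoreOf _) (le_normalizer_centralizer (h.n_Wi hT))

theorem Gv.cl_cz_Wi (h : Gv p L) (hT : IsSyl p T L) : CL T (cz T (Wi p T)) := by
  have h1 := (h.cl_Q hT).cd_zc
  have h2 := h1.iSup (f := fun H : {H // CD T H ∧ H ≤ Wi p T} => H.1) fun H => h1.sup H.2.1
  rw [show Vv p L ⊔ ⨆ H : {H // CD T H ∧ H ≤ Wi p T}, H.1 = Wi p T from le_antisymm
    (sup_le (le_Wi hT (wk_zero h)) (iSup_le fun H => H.2.2)) (Wj_le fun a ⟨_, _, h3, h4⟩ => by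
      obtain ⟨-, H, h5, h6, h7⟩ := h4.Wi_spec h3
      exact le_sup_of_le_right (h6.trans (le_iSup (fun H : {H // CD T H ∧ H ≤ Wi p T} => H.1)
        ⟨H, h5, h7⟩)))] at h2
  exact h2.cl_cz (Wj_le fun a ⟨_, _, h3, h4⟩ => le_centralizer_iff.1
    ((h4.Wi_spec h3).1.trans (Q_le_cent a)))

end H52
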