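/- HKS tower (blueprints/HKS2.md), job A1: an involution of type A, `2`-rank one. -/
import Cfsg.Agent.H7.HKSSpec3
import Cfsg.Agent.H89.KPlane
import Cfsg.Agent.H44.HkK
import Cfsg.Agent.H4.NilpCoprime
import Cfsg.Agent.S4263

set_option autoImplicit false
set_option linter.unusedSectionVars false
set_option linter.unusedVariables false

namespace H52.HK

open MulAction Cfsg Subgroup H89.K H65 H7.HKS H44.HK

universe u

theorem inv_mod {α : Type*} {S : Set α} (hS : S.Finite) (f : α → α) (h1 : ∀ x ∈ S, f x ∈ S)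
    (h2 : ∀ x ∈ S, f (f x) = x) : S.ncard % 2 = {x | x ∈ S ∧ f x = x}.ncard % 2 := by
  classical
  have : Fact (Nat.Prime 2) := ⟨Nat.prime_two⟩
  have := hS.fintype
  let F : Function.End S := fun x => ⟨f x, h1 x x.2⟩
  have e := Equiv.Perm.card_fixedPoints_modEq (f := F) (p := 2) (n := 1) (by
    funext x; exact Subtype.ext (h2 x x.2))
  rw [← Nat.card_eq_fintype_card, ← Nat.card_eq_fintype_card, Nat.card_coe_set_eq, Nat.card_coe_set_eq,
    ← Set.ncard_image_of_injective (Function.fixedPoints F) Subtype.val_injective] at e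
  rw [e]
  congr 2
  ext x
  exact ⟨by rintro ⟨y, hy, rfl⟩; exact ⟨y.2, congrArg Subtype.val hy⟩,
    fun hx => ⟨⟨x, hx.1⟩, Subtype.ext hx.2, rfl⟩⟩

theorem exists_fix {α : Type*} {S : Set α} (hS : S.Finite) (f : α → α) (h1 : ∀ x ∈ S, f x ∈ S)
    (h2 : ∀ x ∈ S, f (f x) = x) (ho : Odd S.ncard) : ∃ x ∈ S, f x = x := by
  have := inv_mod hS f h1 h2
  rw [Nat.odd_iff.1 ho] at this
  exact Set.nonempty_of_ncard_ne_zero (s := {x | x ∈ S ∧ f x = x}) (by omega)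

variable {G Ω : Type u} [Group G] [Finite G] [MulAction G Ω] {U : Ω → Subgroup G} {a b : Ω} {t : G}
  {E : Subgroup G}

theorem mem_Fx {c : Ω} : c ∈ Fx Ω ({t} : Set G) ↔ t • c = c := by simp

theorem r1' (h : R1 G Ω) {c d : Ω} (hcd : c ≠ d) (ht : Iv t c d) {w : G} (hw : w ∈ St G c d)
    (h2 : w * w = 1) (hc : w * t = t * w) : w = 1 ∨ w = t := by
  by_contra! hn
  exact h c d t w hcd ⟨ht, ⟨hw, orderOf_eq_two h2 hn.1⟩, hn.2.symm, hc.symm⟩

theorem St_ns (h : Sp U) {c d : Ω} {g : G} (hg : g ∈ St G c d) : g ∈ normalizer (U c : Set G) :=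
  mem_normalizer_fintype fun u hu => by simpa [show g • c = c from hg.1] using h.conj g c u hu

theorem eq_one_of_cent (h : Sp U) {c d : Ω} (hcd : c ≠ d) {g : G} (hg : g ∈ St G c d)
    (hc : ∀ u ∈ U c, g * u = u * g) : g = 1 := h.t2.faith g fun x => by
  by_cases e : x = c
  · rw [e]; exact hg.1
  · obtain ⟨u, hu, rfl⟩ := h.tr hcd.symm e
    exact fix_of_comm (hc u hu).symm hg.2

/-- two involutions with coprime index centralisers of the same order agree -/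
theorem uniq (h : Rg U) {c d : Ω} (hcd : c ≠ d) {t' : G} (ht : t ∈ St G c d) (ht' : t' ∈ St G c d)
    (h2 : t * t = 1) (h2' : t' * t' = 1) {m : ℕ} (hm : Nat.card (CU U {t} c) = m)
    (hm' : Nat.card (CU U {t'} c) = m) (hU : Nat.card (U c) = m * (m + 2)) : t' = t := by
  have := h.nil c
  have ho := fun {x} (hx : x ∈ U c) => odd_ord (h.odd c) hx
  have m0 : 0 < m := hm ▸ Nat.card_pos
  have key : ∀ s : G, Nat.card (CU U {s} c) = m → ∀ x ∈ U c, x ^ (m + 2) * s = s * x ^ (m + 2) :=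
    fun s hs x hx => by
      have e1 := Cfsg.Agent.S4263.pow_index_mem_of_isNilpotent ((CU U {s} c).subgroupOf (U c)) ⟨x, hx⟩
      have e2 := index_mul_card ((CU U {s} c).subgroupOf (U c))
      rw [Nat.card_congr (subgroupOfEquivOfLe inf_le_left).toEquiv, hs, hU, mul_comm m] at e2
      rw [Nat.eq_of_mul_eq_mul_right m0 e2] at e1
      exact mem_c1.1 (mem_inf.1 e1).2
  have k1 : ∀ s : G, Nat.card (CU U {s} c) = m → ∀ x ∈ U c, x * s = s * x → x ^ m = 1 := fun s hs x hx e =>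
    orderOf_dvd_iff_pow_eq_one.1 (hs ▸ orderOf_dvd_natCard (CU U {s} c) ⟨hx, mem_c1.2 e⟩)
  have k2 : ∀ s : G, Nat.card (CU U {s} c) = m → ∀ x ∈ U c, s * x * s⁻¹ = x⁻¹ → x ^ (m + 2) = 1 :=
    fun s hs x hx e => eq_one_of_sq (ho (pow_mem hx _)) (by
      have e1 : s * x ^ (m + 2) * s⁻¹ = x ^ (m + 2) := by rw [← key s hs x hx, mul_inv_cancel_right]
      rw [← conj_pow, e, inv_pow] at e1
      exact mul_eq_one_iff_inv_eq.2 e1)
  have k3 : ∀ x : G, x ^ m = 1 → x ^ (m + 2) = x * x := fun x e => by rw [pow_add, e, one_mul, pow_two]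
  refine (inv_mul_eq_one.1 (eq_one_of_cent h.toSp hcd (mul_mem (inv_mem ht) ht') fun u hu => ?_)).symm
  obtain ⟨i, hi, x, hx, e1, e2, rfl⟩ := odd_dec (h.odd c) (St_ns h.toSp ht) h2 hu
  obtain ⟨i', hi', x', hx', e1', e2', e3⟩ := odd_dec (h.odd c) (St_ns h.toSp ht') h2' hi
  have e4 : x * t' = t' * x := mem_c1.1 (mem_of_sq (ho hx) (mem_c1.2 (k3 x (k1 t hm x hx e2) ▸ key t' hm' x hx)))
  have e5 : Commute i' x' := H4.commute_of_nilpotent hi' hx' (Nat.Coprime.coprime_dvd_left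
    (orderOf_dvd_of_pow_eq_one (k2 t' hm' i' hi' e1')) (Nat.Coprime.coprime_dvd_right
      (orderOf_dvd_of_pow_eq_one (k1 t' hm' x' hx' e2')) (by
        rw [Nat.coprime_self_add_left, Nat.coprime_two_left, ← hm]
        exact (h.odd c).of_dvd_nat (card_dvd_of_le inf_le_left))))
  have e6 := k2 t hm i hi e1
  rw [e3, e5.mul_pow, k2 t' hm' i' hi' e1', one_mul, k3 x' (k1 t' hm' x' hx' e2')] at e6
  rw [eq_one_of_sq (ho hx') e6, mul_one] at e3
  subst e3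
  have e7 : Commute (t⁻¹ * t') i := by
    rw [← e1, mul_inv_eq_iff_eq_mul] at e1'
    change t⁻¹ * t' * i = i * (t⁻¹ * t')
    rw [mul_assoc, e1']; group
  exact e7.mul_right ((Commute.inv_left e2.symm).mul_left e4.symm)

/-- The hypotheses of the jobs A1 and A2. -/
structure Cx (U : Ω → Subgroup G) (a b : Ω) (t : G) (E : Subgroup G) : Prop where
  k1 : Kit1.{u}
  k2 : Kit2.{u}
  c3 : C3 U
  r1 : R1 G Ω
  ne : a ≠ b
  iv : Iv t a b
  ad : AD U {t} a E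

/-- `x` lies in the hyperplane attached to `w`. -/
def Hp (t : G) (E : Subgroup G) (w x : G) : Prop := ∃ g, g * t * g⁻¹ = w ∧ g⁻¹ * x * g ∈ E

/-- involutions centralising `t` -/
def Wm (t x : G) : Prop := x * x = 1 ∧ x * t = t * x

theorem Hp.cj {w x : G} (h : Hp t E w x) (g : G) : Hp t E (g * w * g⁻¹) (g * x * g⁻¹) := by
  obtain ⟨k, rfl, hk⟩ := h
  exact ⟨g * k, by group, by convert hk using 1; group⟩

theorem hp_cj {w x : G} (g : G) : Hp t E (g * w * g⁻¹) (g * x * g⁻¹) ↔ Hp t E w x :=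
  ⟨fun h => by simpa [mul_assoc] using h.cj g⁻¹, fun h => h.cj g⟩

namespace Cx
variable (h : Cx U a b t E)
include h

theorem tt : t * t = 1 := sq_of_orderOf h.iv.2
theorem t1 : t ≠ 1 := ne_one_of_orderOf h.iv.2
theorem sub : ({t} : Set G) ⊆ St G a b := Set.singleton_subset_iff.2 h.iv.1
theorem rg : Rg U := h.c3.toRg
theorem cardF : (Fx Ω ({t} : Set G)).ncard = Nat.card (CU U {t} a) + 1 := (h.k1.fx h.rg h.ne h.sub).2.1
theorem cardE : Nat.card E = Nat.card (CU U {t} a) + 1 := (h.k2.aa h.rg h.ne h.sub h.ad).1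
theorem oddm : Odd (Nat.card (CU U {t} a)) := (h.rg.odd a).of_dvd_nat (card_dvd_of_le inf_le_left)
theorem m3 : 3 ≤ Nat.card (CU U {t} a) := by
  have h1 := h.oddm
  have h2 := mt card_eq_one.1 (h.c3.fx3 h.ne h.iv)
  obtain ⟨k, hk⟩ := h1
  omega
theorem Et {e : G} (he : e ∈ E) : e * t = t * e :=
  mem_c1.1 ((h.k1.fx h.rg h.ne h.sub).2.2.2.1 (h.ad.sup ▸ mem_sup_left he))
theorem EE {e e' : G} (he : e ∈ E) (he' : e' ∈ E) : e * e' = e' * e :=
  comm_of_sq (h.ad.sq _ he) (h.ad.sq _ he') (h.ad.sq _ (mul_mem he he'))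
theorem nE {g : G} (hg : g * t = t * g) : g ∈ normalizer (E : Set G) :=
  h.ad.norm (centralizer_le_normalizer _ (mem_c1.2 hg))
theorem cjE {g e : G} (hg : g * t = t * g) (he : e ∈ E) : g * e * g⁻¹ ∈ E := (h.nE hg e).1 he
theorem exE {c d : Ω} (hc : t • c = c) (hd : t • d = d) : ∃ e ∈ E, e • c = d :=
  (h.ad.reg c (mem_Fx.2 hc) d (mem_Fx.2 hd)).exists
theorem eqE {c : Ω} (hc : t • c = c) {e e' : G} (he : e ∈ E) (he' : e' ∈ E) (e1 : e • c = e' • c) : e = e' :=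
  (h.ad.reg c (mem_Fx.2 hc) _ (mem_Fx.2 (fix_of_comm (h.Et he') hc))).unique ⟨he, e1⟩ ⟨he', rfl⟩
theorem tE : t ∉ E := fun ht => h.t1 (h.eqE h.iv.1.1 ht (one_mem _) (by rw [one_smul]; exact h.iv.1.1))

theorem fix1 {w : G} (hw : Wm t w) {c : Ω} (hc : t • c = c) (hwc : w • c = c) : w = 1 ∨ w = t := by
  have := h.rg.t2.finite
  have e := inv_mod (Set.toFinite (Fx Ω ({t} : Set G))) (w • ·) (fun x hx => mem_Fx.2 (fix_of_comm hw.2 (mem_Fx.1 hx)))
    fun x _ => by rw [← mul_smul, hw.1, one_smul]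
  obtain ⟨d, hd, hdc⟩ : ∃ d ∈ {x | x ∈ Fx Ω ({t} : Set G) ∧ w • x = x}, d ≠ c := by
    by_contra! hn
    rw [Set.eq_singleton_iff_unique_mem.2 (show c ∈ {x | x ∈ Fx Ω ({t} : Set G) ∧ w • x = x} ∧ _ from
      ⟨⟨mem_Fx.2 hc, hwc⟩, hn⟩), Set.ncard_singleton, h.cardF] at e
    have := Nat.odd_iff.1 h.oddm
    omega
  exact r1' h.r1 hdc ⟨⟨mem_Fx.1 hd.1, hc⟩, h.iv.2⟩ ⟨hd.2, hwc⟩ hw.1 hw.2

theorem memW {w : G} : Wm t w ↔ w ∈ E ∨ w * t ∈ E := by
  refine ⟨fun hw => ?_, ?_⟩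
  · obtain ⟨e, he, e1⟩ := h.exE h.iv.1.1 (fix_of_comm hw.2 h.iv.1.1)
    have e2 : w * e * w⁻¹ = e := h.eqE (fix_of_comm hw.2 h.iv.1.1) (h.cjE hw.2 he) he (by
      rw [mul_smul, mul_smul, inv_smul_smul, e1, ← mul_smul, hw.1, ← e1, ← mul_smul e, h.ad.sq e he])
    have e3 : Commute w e := mul_inv_eq_iff_eq_mul.1 e2
    rcases h.fix1 (w := w * e) ⟨by rw [e3.symm.mul_mul_mul_comm, hw.1, h.ad.sq e he, one_mul],
      Commute.mul_left hw.2 (h.Et he)⟩ h.iv.1.1 (by rw [mul_smul, e1, ← mul_smul, hw.1, one_smul]) with e4 | e4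
    · exact Or.inl (eq_inv_of_mul_eq_one_left e4 ▸ inv_mem he)
    · exact Or.inr (by rw [← e4, ← mul_assoc, hw.1, one_mul]; exact he)
  · rintro (hw | hw)
    · exact ⟨h.ad.sq w hw, h.Et hw⟩
    · have e1 : w * t = t * w := by
        have := h.Et hw
        rwa [← mul_assoc, mul_left_inj] at this
      have := h.ad.sq _ hw
      rw [(Commute.symm e1).mul_mul_mul_comm, h.tt, mul_one] at this
      exact ⟨this, e1⟩

theorem memW' {w : G} : w ∈ E ⊔ zpowers t ↔ Wm t w := by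
  refine ⟨fun hw => ?_, fun hw => ?_⟩
  · let W : Subgroup G :=
      { carrier := {w | w ∈ E ∨ w * t ∈ E}
        one_mem' := Or.inl (one_mem _)
        inv_mem' := fun {x} hx => by rwa [inv_eq_of_mul_eq_one_left (h.memW.2 hx).1]
        mul_mem' := fun {x y} hx hy => by
          have e := (h.memW.2 hy).2
          rcases hx with hx | hx <;> rcases hy with hy | hy
          · exact Or.inl (mul_mem hx hy)
          · exact Or.inr (mul_assoc x y t ▸ mul_mem hx hy)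
          · exact Or.inr (by rw [mul_assoc, e, ← mul_assoc]; exact mul_mem hx hy)
          · have := mul_mem hx hy
            rw [e, mul_assoc, ← mul_assoc t, h.tt, one_mul] at this
            exact Or.inl this }
    exact h.memW.2 ((sup_le (fun x hx => Or.inl hx) (zpowers_le.2 (Or.inr (h.tt ▸ one_mem E))) : _ ≤ W) hw)
  · rcases h.memW.1 hw with e | e
    · exact mem_sup_left e
    · exact (mul_mem_cancel_right (mem_sup_right (mem_zpowers t))).1 (mem_sup_left e)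

theorem Wmul {x y : G} (hx : Wm t x) (hy : Wm t y) : Wm t (x * y) :=
  h.memW'.1 (mul_mem (h.memW'.2 hx) (h.memW'.2 hy))
theorem WE {e : G} (he : e ∈ E) : Wm t e := h.memW.2 (Or.inl he)
theorem Wt : Wm t t := ⟨h.tt, rfl⟩
theorem commW {x y : G} (hx : Wm t x) (hy : Wm t y) : x * y = y * x := comm_of_sq hx.1 hy.1 (h.Wmul hx hy).1

theorem cjW {g x : G} (h1 : x * x = 1) (h2 : x * (g * t * g⁻¹) = g * t * g⁻¹ * x) : Wm t (g⁻¹ * x * g) :=
  ⟨by rw [show g⁻¹ * x * g * (g⁻¹ * x * g) = g⁻¹ * (x * x) * g by group, h1]; group, by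
    calc _ = g⁻¹ * (x * (g * t * g⁻¹)) * g := by group
      _ = _ := by rw [h2]; group⟩

theorem cardW : Nat.card ↥(E ⊔ zpowers t) = 2 * (Nat.card (CU U {t} a) + 1) := by
  have : ((E ⊔ zpowers t : Subgroup G) : Set G) = (E : Set G) ∪ (· * t) '' (E : Set G) := Set.ext fun w => by
    rw [SetLike.mem_coe, h.memW', h.memW]
    refine or_congr Iff.rfl ⟨fun e => ⟨_, e, by simp only [mul_assoc, h.tt, mul_one]⟩, ?_⟩
    rintro ⟨e, he, rfl⟩
    rwa [mul_assoc, h.tt, mul_one]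
  rw [← SetLike.coe_sort_coe, Nat.card_coe_set_eq, this, Set.ncard_union_eq (Set.disjoint_left.2 (by
    rintro _ h1 ⟨e, he, rfl⟩
    exact h.tE ((mul_mem_cancel_left he).1 h1))), Set.ncard_image_of_injective _ (mul_left_injective t),
    ← Nat.card_coe_set_eq, SetLike.coe_sort_coe, h.cardE, two_mul]

theorem oddJ : Odd (Jst t a b).ncard := by
  have e := inv_mod (Set.toFinite (Jst t a b)) (fun x => t * x * t⁻¹)
    (fun x hx => ⟨hx.1.trans (isConj_iff.2 ⟨t, rfl⟩), mul_mem (mul_mem h.iv.1 hx.2) (inv_mem h.iv.1)⟩)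
    fun x _ => by
      rw [show t * (t * x * t⁻¹) * t⁻¹ = t * t * x * (t * t)⁻¹ by group, h.tt]; group
  rw [Set.eq_singleton_iff_unique_mem.2 (show t ∈ {x | x ∈ Jst t a b ∧ t * x * t⁻¹ = x} ∧ _ from
    ⟨⟨⟨IsConj.refl t, h.iv.1⟩, by group⟩, fun x hx => ?_⟩), Set.ncard_singleton] at e
  · exact Nat.odd_iff.2 e
  · obtain ⟨g, rfl⟩ := isConj_iff.1 hx.1.1
    exact (r1' h.r1 h.ne h.iv hx.1.2 (by rw [conj_mul, h.tt]; group) (mul_inv_eq_iff_eq_mul.1 hx.2).symm).resolve_left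
      (by simpa using h.t1)

theorem delta {w : G} (hw : w ∈ Jsw t a b) : {x ∈ Jst t a b | x * w = w * x}.ncard = 1 := by
  obtain ⟨g, rfl⟩ := isConj_iff.1 hw.1
  have sq : ∀ {x}, IsConj t x → x * x = 1 := fun hx => by
    obtain ⟨k, rfl⟩ := isConj_iff.1 hx
    rw [conj_mul, h.tt]; group
  have w2 := sq hw.1
  obtain ⟨x, hx, e⟩ := exists_fix (Set.toFinite (Jst t a b)) (fun x => g * t * g⁻¹ * x * (g * t * g⁻¹)⁻¹)
    (fun x hx => ⟨hx.1.trans (isConj_iff.2 ⟨_, rfl⟩), swap_conj_mem hw.2.1 hw.2.2 hx.2⟩) (fun x _ => by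
      generalize g * t * g⁻¹ = w at w2
      rw [show w * (w * x * w⁻¹) * w⁻¹ = w * w * x * (w * w)⁻¹ by group, w2]; group) h.oddJ
  replace e := (mul_inv_eq_iff_eq_mul.1 e).symm
  refine Set.ncard_eq_one.2 ⟨x, Set.eq_singleton_iff_unique_mem.2 ⟨⟨hx, e⟩, fun y hy => ?_⟩⟩
  have e1 := h.commW (h.cjW (sq hy.1.1) hy.2) (h.cjW (sq hx.1) e)
  have x1 : ∀ {x}, IsConj t x → x ≠ 1 := fun hx e => h.t1 (isConj_one_left.1 (e ▸ hx))
  refine (r1' h.r1 h.ne ⟨hx.2, orderOf_eq_two (sq hx.1) (x1 hx.1)⟩ hy.1.2 (sq hy.1.1) ?_).resolve_left (x1 hy.1.1)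
  simpa [mul_assoc] using congrArg (g * · * g⁻¹) e1

theorem cardU : {w ∈ Jsw t a b | w * t = t * w}.ncard * (Nat.card (CU U {t} a) * (Nat.card (CU U {t} a) + 1)) +
    Nat.card (CU U {t} a) = Nat.card (U a) := by
  obtain ⟨-, -, c3, -, -, c6, c7⟩ := h.k1.cnt h.rg h.ne h.iv.1 h.iv.2 (h.c3.fx3 h.ne h.iv) rfl
  have e := le_antisymm (c6 1 fun w hw => (h.delta hw).ge) (c7 1 fun w hw => (h.delta hw).le)
  rw [mul_one] at e
  rw [e, mul_assoc] at c3
  rw [Nat.eq_of_mul_eq_mul_left h.oddJ.pos c3, Nat.sub_add_cancel (card_le_of_le inf_le_left)]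

theorem swW {e w : G} (he : e ∈ E) (hea : e • a = b) (hw : w ∈ {w ∈ Jsw t a b | w * t = t * w}) :
    w ∈ ({e, e * t} : Set G) := by
  have w2 : w * w = 1 := by
    obtain ⟨g, rfl⟩ := isConj_iff.1 hw.1.1
    rw [conj_mul, h.tt]; group
  rcases h.memW.1 ⟨w2, hw.2⟩ with e1 | e1
  · exact Or.inl (h.eqE h.iv.1.1 e1 he (hw.1.2.1.trans hea.symm))
  · refine Or.inr (show _ = _ from ?_)
    rw [← h.eqE h.iv.1.1 e1 he (by rw [mul_smul, h.iv.1.1, hw.1.2.1, hea]), mul_assoc, h.tt, mul_one]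

theorem beta {e : G} (he : e ∈ E) (hea : e • a = b) : IsConj t e ∧ IsConj t (e * t) ∧
    Nat.card (U a) = 2 * (Nat.card (CU U {t} a) * (Nat.card (CU U {t} a) + 1)) + Nat.card (CU U {t} a) := by
  have := h.rg.t2.finite
  have e1 := h.cardU
  have e2 := Set.ncard_le_ncard (fun w hw => h.swW he hea hw)
  have e3 : e ≠ e * t := fun e => h.t1 (left_eq_mul.1 e)
  have e4 := h.k1.card h.rg
  have m3 := h.m3
  rw [Set.ncard_pair e3] at e2
  have e5 : {w ∈ Jsw t a b | w * t = t * w}.ncard = 2 := by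
    generalize {w ∈ Jsw t a b | w * t = t * w}.ncard = β at e1 e2
    interval_cases β
    · refine absurd (h.rg.t2.faith t fun x => mem_Fx.1 ?_) h.t1
      rw [Set.eq_of_subset_of_ncard_le (Set.subset_univ (Fx Ω ({t} : Set G))) (by
        rw [Set.ncard_univ, h.cardF, e4 a]; omega)]
      trivial
    · refine absurd (jobL2 G Ω t (E ⊔ zpowers t) (Nat.card (CU U {t} a) + 1) h.rg.t2 h.iv.2 ?_ (by omega)
        (by rw [e4 a, ← e1]; ring) (fun c d t' hcd h1 h2 h3 => ?_) (fun w => h.memW') h.cardW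
        fun w hw x hx e => h.fix1 (h.memW'.1 hw) hx e) h.c3.naff
      · rw [← h.cardF, ← Nat.card_coe_set_eq]
        exact Nat.card_congr (Equiv.subtypeEquivRight fun x => mem_Fx.symm)
      · have f1 := (h.k1.fx h.rg hcd (Set.singleton_subset_iff.2 h1)).2.1
        have f2 := (h.k1.fx h.rg hcd (Set.singleton_subset_iff.2 h2)).2.1
        have f3 := card_fix_of_isConj (Ω := Ω) h3
        have f4 : ∀ s : G, Nat.card {c : Ω // s • c = c} = (Fx Ω ({s} : Set G)).ncard := fun s => by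
          rw [← Nat.card_coe_set_eq]
          exact Nat.card_congr (Equiv.subtypeEquivRight fun x => mem_Fx.symm)
        rw [f4, f4, f2, h.cardF] at f3
        rw [h.cardF] at f1
        obtain ⟨g, rfl⟩ := isConj_iff.1 h3
        refine uniq h.rg hcd h1 h2 h.tt (by rw [conj_mul, h.tt]; group) (m := Nat.card (CU U {t} a))
          (by omega) (by omega) ?_
        rw [Nat.add_right_cancel ((e4 c).symm.trans (e4 a)), ← e1]; ring
    · rfl
  have e6 := Set.eq_of_subset_of_ncard_le (fun w hw => h.swW he hea hw) (by rw [e5, Set.ncard_pair e3])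
  exact ⟨(e6.ge (Or.inl rfl)).1.1, (e6.ge (Or.inr rfl)).1.1, by rw [← e1, e5]⟩

theorem orbE {e e' : G} (he : e ∈ E) (hea : e • a = b) (he' : e' ∈ E) (h1 : e' ≠ 1) :
    ∃ u, u * t = t * u ∧ e' = u * e * u⁻¹ := by
  rcases ((h.k1.fx h.rg h.ne h.sub).1 (e' • a)).1 (mem_Fx.2 (fix_of_comm (h.Et he') h.iv.1.1)) with e1 | ⟨u, hu, e1⟩
  · exact absurd (h.eqE h.iv.1.1 he' (one_mem _) (by rw [e1, one_smul])) h1
  · refine ⟨u, mem_c1.1 hu.2, h.eqE h.iv.1.1 he' (h.cjE (mem_c1.1 hu.2) he) ?_⟩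
    rw [mul_smul, mul_smul, h.rg.fix a _ (inv_mem hu.1), hea, e1]

theorem orbW {e w : G} (he : e ∈ E) (hea : e • a = b) (hw : Wm t w) (h1 : w ≠ 1) (h2 : w ≠ t) :
    ∃ u, u * t * u⁻¹ = t ∧ ((w ∈ E ∧ w = u * e * u⁻¹) ∨ (w ∉ E ∧ w = u * (e * t) * u⁻¹)) := by
  rcases h.memW.1 hw with e1 | e1
  · obtain ⟨u, hu, e2⟩ := h.orbE he hea e1 h1
    exact ⟨u, mul_inv_eq_iff_eq_mul.2 hu, Or.inl ⟨e1, e2⟩⟩
  · obtain ⟨u, hu, e2⟩ := h.orbE he hea e1 fun e => h2 (mul_right_cancel (e.trans h.tt.symm))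
    refine ⟨u, mul_inv_eq_iff_eq_mul.2 hu, Or.inr ⟨fun e => h.tE ((mul_mem_cancel_left e).1 e1), ?_⟩⟩
    rw [← conj_mul, ← e2, mul_inv_eq_iff_eq_mul.2 hu, mul_assoc, h.tt, mul_one]

theorem allW {w : G} (hw : Wm t w) (h1 : w ≠ 1) : ∃ g, g * t * g⁻¹ = w := by
  obtain ⟨e, he, hea⟩ := h.exE h.iv.1.1 h.iv.1.2
  obtain ⟨c1, c2, -⟩ := h.beta he hea
  by_cases h2 : w = t
  · exact ⟨1, by simp [h2]⟩
  obtain ⟨u, -, ⟨-, rfl⟩ | ⟨-, rfl⟩⟩ := h.orbW he hea hw h1 h2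
  exacts [isConj_iff.1 (c1.trans (isConj_iff.2 ⟨u, rfl⟩)), isConj_iff.1 (c2.trans (isConj_iff.2 ⟨u, rfl⟩))]

theorem hp_iff {g x : G} : Hp t E (g * t * g⁻¹) x ↔ g⁻¹ * x * g ∈ E := by
  refine ⟨?_, fun e => ⟨g, rfl, e⟩⟩
  rintro ⟨k, e, hk⟩
  have := h.cjE (g := g⁻¹ * k) (by
    calc _ = g⁻¹ * (k * t * k⁻¹) * k := by group
      _ = _ := by rw [e]; group) hk
  convert this using 1; group

theorem hp_t {x : G} : Hp t E t x ↔ x ∈ E := by simpa using h.hp_iff (g := 1) (x := x)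

theorem hp_self (w : G) : ¬ Hp t E w w := by
  rintro ⟨g, rfl, e⟩
  exact h.tE (by simpa [mul_assoc] using e)

theorem hp_mul {w x y : G} (hw : Wm t w) (h1 : w ≠ 1) (hx : Wm t x) (hy : Wm t y) :
    Hp t E w (x * y) ↔ (Hp t E w x ↔ Hp t E w y) := by
  obtain ⟨g, rfl⟩ := h.allW hw h1
  have e1 := h.cjW hx.1 (h.commW hx hw)
  have e2 := h.cjW hy.1 (h.commW hy hw)
  rw [h.hp_iff, h.hp_iff, h.hp_iff, show g⁻¹ * (x * y) * g = g⁻¹ * x * g * (g⁻¹ * y * g) by group]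
  generalize g⁻¹ * x * g = x at e1
  generalize g⁻¹ * y * g = y at e2
  by_cases f1 : x ∈ E
  · rw [mul_mem_cancel_left f1]; tauto
  by_cases f2 : y ∈ E
  · rw [mul_mem_cancel_right f2]; tauto
  have := mul_mem ((h.memW.1 e1).resolve_left f1) ((h.memW.1 e2).resolve_left f2)
  rw [e2.2, mul_assoc, ← mul_assoc t, h.tt, one_mul] at this
  tauto

theorem hp_anti {w w' : G} (hw : Wm t w) (h1 : w ≠ 1) (hw' : Wm t w') (h1' : w' ≠ 1) (hne : w' ≠ w) :
    Hp t E w' w ↔ ¬ Hp t E w w' := by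
  obtain ⟨e, he, hea⟩ := h.exE h.iv.1.1 h.iv.1.2
  have key : ∀ {w w' : G}, Wm t w → w ≠ 1 → Wm t w' → w' ≠ 1 → w' ≠ w →
      (Hp t E w w' ∧ (Hp t E w' w ↔ Hp t E e t)) ∨ (¬ Hp t E w w' ∧ (Hp t E w' w ↔ Hp t E (e * t) t)) :=
    fun {w w'} hw h1 hw' h1' hne => by
      obtain ⟨g, rfl⟩ := h.allW hw h1
      obtain ⟨u, hu, e1⟩ := h.orbW he hea (h.cjW hw'.1 (h.commW hw' hw))
        (fun e => h1' (by simpa [mul_assoc] using congrArg (g * · * g⁻¹) e))
        (fun e => hne (by rw [← e]; group))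
      have e2 : ∀ y, g⁻¹ * w' * g = u * y * u⁻¹ → (Hp t E w' (g * t * g⁻¹) ↔ Hp t E y t) := fun y e => by
        rw [← hp_cj (w := y) u, ← e, hu, ← hp_cj (w := g⁻¹ * w' * g) g]
        simp [mul_assoc]
      rw [h.hp_iff]
      exact e1.imp (fun e => ⟨e.1, e2 _ e.2⟩) fun e => ⟨e.1, e2 _ e.2⟩
  have e1 : e ≠ 1 := by rintro rfl; exact h.ne (by simpa using hea)
  have et : e * t ∉ E := fun e => h.tE ((mul_mem_cancel_left he).1 e)
  have et1 : e * t ≠ 1 := fun e => et (e ▸ one_mem E)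
  have Wet := h.Wmul (h.WE he) h.Wt
  have a1 := key (h.WE he) e1 h.Wt h.t1 fun e => h.tE (e ▸ he)
  have a2 := key Wet et1 h.Wt h.t1 fun e => e1 (right_eq_mul.1 e)
  have a3 := key (h.WE he) e1 Wet et1 fun e => h.t1 (mul_eq_left.1 e)
  have a4 := h.hp_mul (h.WE he) e1 (h.WE he) h.Wt
  have a5 := h.hp_mul Wet et1 (h.WE he) h.Wt
  have a6 := h.hp_self e
  have a7 := h.hp_self (e * t)
  have a8 := key hw h1 hw' h1' hne
  rw [h.hp_t, iff_true_intro he] at a1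
  rw [h.hp_t, iff_false_intro et] at a2
  generalize Hp t E e t = α at *
  generalize Hp t E (e * t) t = β at *
  have : ¬ α ∧ β := by
    clear a8
    generalize Hp t E e (e * t) = p at *
    generalize Hp t E (e * t) e = q at *
    generalize Hp t E e e = r at *
    generalize Hp t E (e * t) (e * t) = s at *
    tauto
  clear a1 a2 a3 a4 a5
  tauto

theorem four {e e' : G} (he : e ∈ E) (e1 : e ≠ 1) (he' : e' ∈ E) (e1' : e' ≠ 1) (ee : e' ≠ e) {x : G} (hx : x ∈ E) :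
    x ∈ ({1, e, e', e * e'} : Set G) := by
  by_contra hn
  simp only [Set.mem_insert_iff, Set.mem_singleton_iff, not_or] at hn
  have et : e * t ∉ E := fun e => h.tE ((mul_mem_cancel_left he).1 e)
  have et1 : e * t ≠ 1 := fun e => et (e ▸ one_mem E)
  have Wet := h.Wmul (h.WE he) h.Wt
  have key : ∀ y ∈ E, y ≠ 1 → y ≠ e → (Hp t E (e * t) y ↔ ¬ Hp t E e y) := fun y hy y1 ye => by
    have a1 := h.hp_anti (h.WE hy) y1 Wet et1 fun e => et (e ▸ hy)
    have a2 := h.hp_anti (h.WE hy) y1 (h.WE he) e1 ye.symm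
    have a3 := (h.hp_anti (h.WE hy) y1 h.Wt h.t1 fun e => h.tE (e ▸ hy)).1 (h.hp_t.2 hy)
    rw [a1, a2, h.hp_mul (h.WE hy) y1 (h.WE he) h.Wt]
    tauto
  have s' := h.ad.sq e' he'
  have a1 := key _ (mul_mem he' hx) (fun e => hn.2.2.1 (mul_left_cancel (e.trans s'.symm))) fun e => hn.2.2.2 (by
    rw [h.EE he he', ← e, ← mul_assoc, s', one_mul])
  rw [h.hp_mul Wet et1 (h.WE he') (h.WE hx), h.hp_mul (h.WE he) e1 (h.WE he') (h.WE hx), key e' he' e1' ee,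
    key x hx hn.1 hn.2.1] at a1
  tauto

theorem ex' (e : G) : ∃ e' ∈ E, e' ≠ 1 ∧ e' ≠ e := by
  by_contra! hn
  have e1 : (E : Set G) ⊆ {1, e} := fun x hx => by
    by_cases x1 : x = 1
    exacts [Or.inl x1, Or.inr (hn x hx x1)]
  have := (Set.ncard_le_ncard e1).trans (Set.ncard_insert_le _ _)
  rw [Set.ncard_singleton, ← Nat.card_coe_set_eq, SetLike.coe_sort_coe, h.cardE] at this
  have := h.m3
  omega

theorem e1 {e : G} (hea : e • a = b) : e ≠ 1 := by rintro rfl; exact h.ne (by simpa using hea)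

theorem m_eq : Nat.card (CU U {t} a) = 3 := by
  obtain ⟨e, he, hea⟩ := h.exE h.iv.1.1 h.iv.1.2
  obtain ⟨e', he', e1', ee⟩ := h.ex' e
  have e1 : (E : Set G) ⊆ {1, e, e', e * e'} := fun x hx => h.four he (h.e1 hea) he' e1' ee hx
  have := (Set.ncard_le_ncard e1).trans ((Set.ncard_insert_le _ _).trans (Nat.succ_le_succ
    ((Set.ncard_insert_le _ _).trans (Nat.succ_le_succ (Set.ncard_insert_le _ _)))))
  rw [Set.ncard_singleton, ← Nat.card_coe_set_eq, SetLike.coe_sort_coe, h.cardE] at this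
  have := h.m3
  omega

theorem U27 : Nat.card (U a) = 27 := by
  obtain ⟨e, he, hea⟩ := h.exE h.iv.1.1 h.iv.1.2
  rw [(h.beta he hea).2.2, h.m_eq]

theorem cenE {g : G} (hg : g ∈ St G a b) (ht : g * t = t * g) {x : G} (hx : x ∈ E) : g * x = x * g := by
  obtain ⟨e, he, hea⟩ := h.exE h.iv.1.1 h.iv.1.2
  have ge : g * e * g⁻¹ = e := h.eqE h.iv.1.1 (h.cjE ht he) he (by
    rw [mul_smul, mul_smul, (inv_mem hg).1, hea, hg.2])
  by_cases x1 : x = 1
  · simp [x1]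
  by_cases xe : x = e
  · exact xe ▸ mul_inv_eq_iff_eq_mul.1 ge
  rcases h.four he (h.e1 hea) hx x1 xe (h.cjE ht hx) with e2 | e2 | e2 | e2
  · exact absurd (by simpa using e2) x1
  · exact absurd (by simpa using e2.trans ge.symm) xe
  · exact mul_inv_eq_iff_eq_mul.1 e2
  · have := hp_cj (t := t) (E := E) (w := e) (x := x) g
    rw [ge, show _ = _ from e2, h.hp_mul (h.WE he) (h.e1 hea) (h.WE he) (h.WE hx)] at this
    have := h.hp_self e
    tauto

theorem cardΩ : Nat.card Ω = 28 := by rw [h.k1.card h.rg a, h.U27]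

theorem cardI : {x : G | IsConj t x}.ncard = 63 * (Jst t a b).ncard := by
  have := (h.k1.cnt h.rg h.ne h.iv.1 h.iv.2 (h.c3.fx3 h.ne h.iv) h.m_eq).2.2.2.1
  rw [h.cardΩ, h.U27] at this
  omega

theorem one' {s : G} (hs : orderOf s = 2) : IsConj t s := by
  have s2 := sq_of_orderOf hs
  obtain ⟨x, hx, e⟩ := exists_fix (Set.toFinite {x : G | IsConj t x}) (fun x => s * x * s⁻¹)
    (fun x hx => hx.trans (isConj_iff.2 ⟨s, rfl⟩)) (fun x _ => by
      rw [show s * (s * x * s⁻¹) * s⁻¹ = s * s * x * (s * s)⁻¹ by group, s2]; group)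
    (h.cardI ▸ Odd.mul (by decide) h.oddJ)
  obtain ⟨g, rfl⟩ := isConj_iff.1 hx
  obtain ⟨k, hk⟩ := h.allW (h.cjW s2 (mul_inv_eq_iff_eq_mul.1 e)) fun e =>
    ne_one_of_orderOf hs (by simpa [mul_assoc] using congrArg (g * · * g⁻¹) e)
  exact isConj_iff.2 ⟨g * k, by rw [show g * k * t * (g * k)⁻¹ = g * (k * t * k⁻¹) * g⁻¹ by group, hk]; group⟩

theorem no4 : ¬ 4 ∣ Nat.card ↥(St G a b ⊓ centralizer {t}) := fun h4 => by
  have : Fact (Nat.Prime 2) := ⟨Nat.prime_two⟩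
  obtain ⟨K, hK⟩ := Sylow.exists_subgroup_card_pow_prime (G := ↥(St G a b ⊓ centralizer {t})) 2 (n := 2) h4
  obtain ⟨r, hr, r2⟩ : ∃ r ∈ St G a b ⊓ centralizer {t}, r * r = t := by
    by_contra! hn
    have e1 : ((K.map (Subgroup.subtype _) : Subgroup G) : Set G) ⊆ {1, t} := by
      rintro _ ⟨x, hx, rfl⟩
      have e2 : (x : G) * x * (x * x) = 1 := by
        have := pow_card_eq_one' (x := (⟨x, hx⟩ : K))
        rw [hK] at this
        simpa [pow_succ, mul_assoc] using congrArg (fun y : K => (y : G)) this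
      exact r1' h.r1 h.ne h.iv x.2.1 ((r1' h.r1 h.ne h.iv (mul_mem x.2 x.2).1 e2
        (mem_c1.1 (mul_mem x.2 x.2).2)).resolve_right (hn x x.2)) (mem_c1.1 x.2.2)
    have := (Set.ncard_le_ncard e1).trans (Set.ncard_insert_le _ _)
    rw [Set.ncard_singleton, ← Nat.card_coe_set_eq, SetLike.coe_sort_coe, card_map_of_injective (subtype_injective _),
      hK] at this
    omega
  obtain ⟨e, he, hea⟩ := h.exE h.iv.1.1 h.iv.1.2
  obtain ⟨g, hg⟩ := h.allW (h.WE he) (h.e1 hea)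
  have rt := mem_c1.1 hr.2
  have key : ∀ x, Wm t x → g * r * g⁻¹ * x = x * (g * r * g⁻¹) := fun x hx => by
    have e1 := h.cjW hx.1 (hg ▸ h.commW hx (h.WE he))
    have e2 : r * (g⁻¹ * x * g) = g⁻¹ * x * g * r := by
      generalize g⁻¹ * x * g = y at e1
      rcases h.memW.1 e1 with e2 | e2
      · exact h.cenE hr.1 rt e2
      · have := h.cenE hr.1 rt e2
        rwa [mul_assoc y, ← rt, ← mul_assoc, ← mul_assoc, mul_left_inj] at this
    simpa [mul_assoc] using congrArg (g * · * g⁻¹) e2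
  obtain ⟨e', he', e1⟩ := h.exE h.iv.1.1 (fix_of_comm (key t h.Wt) h.iv.1.1)
  refine h.ne ?_
  rw [← hea, ← hg, ← r2, ← conj_mul, mul_smul, ← e1, ← mul_smul, key e' (h.WE he'), mul_smul, ← e1, ← mul_smul,
    h.ad.sq e' he', one_smul]

theorem cardG : Nat.card G = 756 * ((Jst t a b).ncard * Nat.card ↥(St G a b ⊓ centralizer {t})) := by
  rw [(h.k1.cnt h.rg h.ne h.iv.1 h.iv.2 (h.c3.fx3 h.ne h.iv) h.m_eq).2.1, h.rg.t2.card_group h.ne, h.cardΩ]

theorem oddW : Odd (E ⊔ zpowers t).index := by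
  have e1 := index_mul_card (E ⊔ zpowers t)
  rw [h.cardW, h.m_eq, h.cardG] at e1
  by_contra hn
  obtain ⟨k, hk⟩ := Nat.not_odd_iff_even.1 hn
  refine h.no4 (Nat.Coprime.dvd_of_dvd_mul_left (m := 189 * (Jst t a b).ncard)
    (Nat.Coprime.pow_left 2 (Nat.coprime_two_left.2 (Odd.mul (by decide) h.oddJ))) ⟨k, ?_⟩)
  rw [mul_assoc]
  omega

end Cx

theorem jobA1 (k1 : Kit1.{u}) (k2 : Kit2.{u}) : JobA1.{u} := fun G Ω _ _ _ U a b t E c3 r1 ne iv ad =>
  have h : Cx U a b t E := ⟨k1, k2, c3, r1, ne, iv, ad⟩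
  ⟨h.U27, h.m_eq, fun _ _ hs hs' => (h.one' hs).symm.trans (h.one' hs'), h.oddW, fun _ h1 h2 => h.memW'.2 ⟨h1, h2⟩,
    fun _ hg ht _ hx => h.cenE hg ht hx⟩

end H52.HK
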