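/- HKS tower (blueprints/HKS2.md), job A2: identification of the smallest Ree group. -/
import Cfsg.Agent.H52.HKA1

set_option autoImplicit false
set_option linter.unusedSectionVars false
set_option linter.unusedVariables false

namespace H52.HK

open MulAction Cfsg Subgroup H89.K H65 H7.HKS H44.HK

universe u

variable {G Ω : Type u} [Group G] [Finite G] [MulAction G Ω] {U : Ω → Subgroup G} {a b : Ω} {t : G}
  {E M : Subgroup G}

theorem ree_num {r s : ℕ} (hr : 27 ≤ r) (h : r ^ 3 * (r ^ 3 + 1) * (r - 1) ≤ 24 * (r ^ 2 * (r ^ 2 - r + 1))) :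
    False := by
  have e1 : r ^ 2 - r + 1 ≤ r ^ 3 + 1 := Nat.succ_le_succ ((Nat.sub_le _ _).trans (Nat.pow_le_pow_right (by omega) (by omega)))
  have e2 : r ^ 2 ≤ r ^ 3 := Nat.pow_le_pow_right (by omega) (by omega)
  have e3 := h.trans (Nat.mul_le_mul_left 24 (Nat.mul_le_mul e2 e1))
  rw [mul_comm 24] at e3
  have := Nat.le_of_mul_le_mul_left e3 (by positivity)
  omega

namespace Cx
variable (h : Cx U a b t E)
include h

theorem W8 : Nat.card ↥(E ⊔ zpowers t) = 8 := by rw [h.cardW, h.m_eq]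

theorem G756 : Nat.card G = 756 * Nat.card (St G a b) := by rw [h.rg.t2.card_group h.ne, h.cardΩ]

theorem idx3 (s : Soc U M) : M.index ∣ 3 := by
  have := s.normal
  have e : M ⊔ CU U {t} a = ⊤ := top_unique ((s.sup a).ge.trans (sup_le le_sup_left fun u hu => by
    obtain ⟨i, hi, x, hx, e1, e2, rfl⟩ := odd_dec (h.rg.odd a) (St_ns h.rg.toSp h.iv.1) h.tt hu
    refine mul_mem (mem_sup_left (mem_of_sq (odd_ord (h.rg.odd a) hi) ?_)) (mem_sup_right ⟨hx, mem_c1.2 e2⟩)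
    have := mul_mem (this.conj_mem t (s.inv t h.tt) i) (inv_mem (s.inv t h.tt))
    rwa [show i * t * i⁻¹ * t⁻¹ = i * (t * i * t⁻¹)⁻¹ by group, e1, inv_inv] at this))
  rw [← relIndex_top_right, ← e, relIndex_sup_left, ← h.m_eq]
  exact relIndex_dvd_card _ _

theorem WM (s : Soc U M) : E ⊔ zpowers t ≤ M := fun w hw => s.inv w (h.memW'.1 hw).1

theorem WM8 (s : Soc U M) : Nat.card ((E ⊔ zpowers t).subgroupOf M) = 8 := by
  rw [Nat.card_congr (subgroupOfEquivOfLe (h.WM s)).toEquiv, h.W8]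

theorem WMo (s : Soc U M) : Odd ((E ⊔ zpowers t).subgroupOf M).index :=
  h.oddW.of_dvd_nat (relIndex_dvd_index_of_le (h.WM s))

theorem WMs (s : Soc U M) : ∀ w ∈ (E ⊔ zpowers t).subgroupOf M, w * w = 1 := fun w hw =>
  Subtype.ext (h.memW'.1 hw).1

theorem cardD (oc : JobOC.{u}) (s : Soc U M) : Nat.card ↥(M ⊓ (St G a b ⊓ centralizer {t})) ≤ 2 := by
  have := s.simple
  obtain ⟨k, m, hm, e⟩ := Nat.exists_eq_two_pow_mul_odd (Nat.card_pos (α := ↥(M ⊓ (St G a b ⊓ centralizer {t})))).ne'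
  have m1 : m = 1 := by
    by_contra m1
    obtain ⟨p, hp, pm⟩ := Nat.exists_prime_and_dvd m1
    have : Fact p.Prime := ⟨hp⟩
    obtain ⟨y, hy⟩ := exists_prime_orderOf_dvd_card' (G := ↥(M ⊓ (St G a b ⊓ centralizer {t}))) p
      (e ▸ pm.mul_left _)
    have yt := mem_c1.1 y.2.2.2
    have := oc M ((E ⊔ zpowers t).subgroupOf M) ⟨y, y.2.1⟩ s.nab (IsPGroup.of_card (n := 3) (h.WM8 s)) (h.WMo s)
      (Or.inr (h.WMs s)) (by rw [orderOf_mk, orderOf_coe, hy]; exact hm.of_dvd_nat pm) fun w hw => Subtype.ext (by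
        change (w : G) * y = y * w
        rcases h.memW.1 ((h.memW' (w := w)).1 hw) with e2 | e2
        · exact (h.cenE y.2.2.1 yt e2).symm
        · have := h.cenE y.2.2.1 yt e2
          rw [mul_assoc (w : G), ← yt, ← mul_assoc, ← mul_assoc, mul_left_inj] at this
          exact this.symm)
    have e1 : y = 1 := Subtype.ext (congrArg Subtype.val this :)
    rw [e1, orderOf_one] at hy
    exact hp.one_lt.ne hy
  rw [m1, mul_one] at e
  rcases k with _ | _ | k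
  · omega
  · omega
  · exact absurd (Dvd.dvd.trans ⟨2 ^ k, by rw [e]; ring⟩ (card_dvd_of_le inf_le_right)) h.no4

theorem nIM (s : Soc U M) : nI M = 63 * (Jst t a b).ncard := by
  rw [← h.cardI, nI, ← Set.ncard_image_of_injective _ Subtype.val_injective]
  congr 1
  ext x
  constructor
  · rintro ⟨y, hy, rfl⟩
    exact h.one' ((orderOf_coe y).trans hy)
  · intro hx
    obtain ⟨g, rfl⟩ := isConj_iff.1 hx
    exact ⟨⟨_, s.normal.conj_mem t (s.inv t h.tt) g⟩, (orderOf_mk _ _).trans (by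
      rw [← h.iv.2]; exact ((MulAut.conj g).orderOf_eq t :)), rfl⟩

theorem H2 (mr : JobMR.{u}) (oc : JobOC.{u}) {g : G} (hg : g ∈ St G a b) : g = 1 ∨ g = t := by
  obtain ⟨M, s⟩ := h.k1.soc h.c3.pre
  have := s.simple
  have := s.normal
  have i3 := (Nat.dvd_prime Nat.prime_three).1 (h.idx3 s)
  have e1 := index_mul_card M
  rcases mr M _ (h.WM8 s) (h.WMs s) (h.WMo s) with e | e | ⟨-, m, r, hm, hr, e, e', -⟩
  · by_contra! hn
    have e2 : ({g, 1, t} : Set G) ⊆ St G a b := by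
      rintro _ (rfl | rfl | rfl)
      exacts [hg, one_mem _, h.iv.1]
    have := Set.ncard_le_ncard e2
    rw [Set.ncard_insert_of_notMem (by simpa using hn), Set.ncard_pair h.t1.symm, ← Nat.card_coe_set_eq,
      SetLike.coe_sort_coe] at this
    rw [h.G756, e] at e1
    omega
  · rw [h.G756, e] at e1
    omega
  · refine (ree_num (s := 0) (r := r) (hr ▸ Nat.pow_le_pow_right (n := 3) (i := 3) (by omega) (by omega)) ?_).elim
    rw [← e, ← e', h.nIM s]
    have e2 := index_mul_card (M.subgroupOf (St G a b ⊓ centralizer {t}))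
    have e3 := Nat.le_of_dvd (Nat.pos_of_ne_zero index_ne_zero_of_finite)
      (relIndex_dvd_index_of_normal M (St G a b ⊓ centralizer {t}))
    rw [← inf_subgroupOf_right, Nat.card_congr (subgroupOfEquivOfLe inf_le_right).toEquiv, inf_subgroupOf_right] at e2
    have e4 := Nat.mul_le_mul e3 (h.cardD oc s)
    rw [relIndex, e2] at e4
    refine Nat.le_of_mul_le_mul_left ?_ (Nat.pos_of_ne_zero (index_ne_zero_of_finite (H := M)))
    rw [e1, h.cardG]
    nlinarith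

theorem disj (mr : JobMR.{u}) (oc : JobOC.{u}) {z : G} (hz : z ∈ U a) (zt : z * t = t * z)
    (zU : ∀ u ∈ U a, u * z = z * u) : z = 1 := by
  by_contra z1
  classical
  have := h.rg.t2.finite
  have k0 : ∀ g : G, g • a = a → g * z * g⁻¹ = z := fun g hg => by
    obtain ⟨u, hu, e⟩ := h.rg.tr h.ne.symm (c := g • b) fun e => h.ne (smul_left_cancel g (hg.trans e.symm))
    rw [mul_inv_eq_iff_eq_mul]
    rcases h.H2 mr oc (g := u⁻¹ * g) ⟨by change _ • a = a; rw [mul_smul, hg, h.rg.fix a _ (inv_mem hu)],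
      by change _ • b = b; rw [mul_smul, ← e, inv_smul_smul]⟩ with e1 | e1
    · exact inv_mul_eq_one.1 e1 ▸ zU u hu
    · rw [inv_mul_eq_iff_eq_mul.1 e1, mul_assoc, ← zt, ← mul_assoc, zU u hu, mul_assoc]
  have k1 : ∀ g k : G, g • a = k • a → g * z * g⁻¹ = k * z * k⁻¹ := fun g k e => by
    have := k0 (k⁻¹ * g) (by rw [mul_smul, e, inv_smul_smul])
    calc _ = k * (k⁻¹ * g * z * (k⁻¹ * g)⁻¹) * k⁻¹ := by group
      _ = _ := by rw [this]
  have k2 : ∀ g k : G, g * z * g⁻¹ = k * z * k⁻¹ → g • a = k • a := fun g k e => by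
    by_contra hn
    refine z1 (h.rg.reg (b := g⁻¹ • k • a) (fun e => hn (by rw [← e, smul_inv_smul, e])) z hz ?_)
    rw [show z = g⁻¹ * (g * z * g⁻¹) * g by group, e]
    simp only [mul_smul, smul_inv_smul, inv_smul_smul, h.rg.fix a z hz]
  obtain ⟨e, he, hea⟩ := h.exE h.iv.1.1 h.iv.1.2
  have x0 : e * z * e⁻¹ * z⁻¹ ∈ E := by
    simpa only [mul_assoc] using mul_mem he (h.cjE zt (inv_mem he))
  have k3 : ∀ g k : G, g * z * g⁻¹ * (k * z * k⁻¹)⁻¹ * (g * z * g⁻¹ * (k * z * k⁻¹)⁻¹) = 1 := fun g k => by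
    by_cases e1 : k • a = g • a
    · rw [k1 k g e1]; group
    obtain ⟨l, l1, l2⟩ := h.rg.t2.two h.ne e1
    rw [k1 g (l * e) (by rw [mul_smul, hea, l2]), k1 k l l1.symm]
    calc _ = l * (e * z * e⁻¹ * z⁻¹ * (e * z * e⁻¹ * z⁻¹)) * l⁻¹ := by group
      _ = _ := by rw [h.ad.sq _ x0]; group
  obtain ⟨g, hg⟩ := h.allW (h.WE x0) fun e1 => h.ne (by
    rw [← hea, k2 e 1 (by rw [mul_inv_eq_one.1 e1]; group), one_smul])
  choose f hf using fun c => h.rg.t2.two (c := c) h.ne (d := if c = a then b else a) (by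
    split_ifs with e1
    exacts [by rw [e1]; exact h.ne, e1])
  have k4 : ∀ k : G, k * z * k⁻¹ * z⁻¹ * (k * z * k⁻¹ * z⁻¹) = 1 := fun k => by simpa using k3 k 1
  have := Nat.card_le_card_of_injective (fun c : Ω => (⟨g⁻¹ * (f c * z * (f c)⁻¹ * z⁻¹) * g, h.memW'.2
    (h.cjW (k4 _) (hg ▸ comm_of_sq (k4 _) (k4 e) (by
      rw [← inv_eq_of_mul_eq_one_left (k4 e)]
      simpa only [mul_assoc, mul_inv_rev, inv_inv, inv_mul_cancel_left] using k3 (f c) e)))⟩ : ↥(E ⊔ zpowers t)))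
    fun c d e1 => (hf c).1.symm.trans ((k2 _ _ (by simpa using congrArg Subtype.val e1)).trans (hf d).1)
  rw [h.W8, h.cardΩ] at this
  omega

end Cx

theorem jobA2 (k1 : Kit1.{u}) (k2 : Kit2.{u}) (mr : JobMR.{u}) (oc : JobOC.{u}) : JobA2.{u} := by
  intro G Ω _ _ _ U a b t E c3 r1 ne iv ad _ _ one _ _ _
  have h : Cx U a b t E := ⟨k1, k2, c3, r1, ne, iv, ad⟩
  have L : LX U ∅ = ⊤ := top_unique (c3.gen.ge.trans (iSup_le fun c => CU0 (U := U) (a := c) ▸ CU_le_LX (by simp)))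
  have dj : ZU U ∅ a ⊓ centralizer {t} = ⊥ := eq_bot_iff.2 fun z hz =>
    h.disj mr oc hz.1.1.1 (mem_c1.1 hz.2) fun u hu => hz.1.2 u (CU0 (U := U) (a := a) ▸ hu :)
  have : Fact (Nat.Prime 3) := ⟨Nat.prime_three⟩
  refine ⟨Or.inr (Or.inr (Or.inr ⟨3, t, L ▸ mem_top t, iv.1, iv.2, ⟨0, rfl⟩, fun v _ hv ho =>
    (h.H2 mr oc hv).resolve_left (ne_one_of_orderOf ho), by rw [CU0, h.U27]; rfl, by rw [CU0, h.m_eq], ?_, ?_, dj, ?_,
    ⟨_, L ▸ le_top, h.W8, fun e he => (h.memW'.1 he).1, by rw [L, relIndex_top_right]; exact h.oddW⟩,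
    fun v _ ho => (isConj_iff.1 (h.one' ho)).imp fun g e => ⟨L ▸ mem_top g, e⟩⟩)), fun _ => ?_⟩
  · rw [CU0]
    have := isCyclic_of_prime_card h.m_eq
    exact fun g hg k hk => congrArg Subtype.val (mul_comm' (⟨g, hg⟩ : CU U {t} a) ⟨k, hk⟩)
  · rw [CU0]
    exact fun g hg => orderOf_dvd_iff_pow_eq_one.1 (h.m_eq ▸ orderOf_dvd_natCard _ hg)
  · have e1 : ⁅CU U ∅ a, CU U ∅ a⁆ ≠ ⊥ := fun e => c3.fx3 ne iv (eq_bot_iff.2 fun z hz => dj.le
      ⟨⟨⟨hz.1, fun _ e => e.elim⟩, commutator_eq_bot_iff_le_centralizer.1 e ⟨hz.1, fun _ e => e.elim⟩⟩, hz.2⟩)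
    obtain ⟨k, hk⟩ := ((c3.odd a).of_dvd_nat (card_dvd_of_le (commutator_le.2 fun x hx y hy =>
      mul_mem (mul_mem (mul_mem hx.1 hy.1) (inv_mem hx.1)) (inv_mem hy.1))) :
      Odd (Nat.card ↥⁅CU U ∅ a, CU U ∅ a⁆))
    have := mt card_eq_one.1 e1
    omega
  · have e1 := h.G756
    rcases mr G _ h.W8 (fun e he => (h.memW'.1 he).1) h.oddW with e | e | ⟨e, -⟩
    · omega
    · omega
    · exact Or.inr (Or.inr (Or.inr e))

end H52.HK
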