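import Cfsg.Agent.H53.KUSpec

/-! Tower KU, slot BC1: in the chamber transitive case `K ∩ Q_x ≤ Z_x`. -/

set_option autoImplicit false

namespace H52.KUBC1

open Cfsg H59 H53.WU H53.KU Module

variable {S : KS}

/-- The vectors that describe the action of `K ∩ Q_x` on `x^⊥`. -/
noncomputable def YY (S : KS) (x : S.V) : AddSubgroup S.V where
  carrier := {u | S.B x u = 0 ∧ ∃ g ∈ S.K, g ∈ S.Qs x ∧ ∀ v, S.B x v = 0 → g.1 v = v + S.B u v • x}
  zero_mem' := ⟨map_zero _, 1, S.K.one_mem, Subgroup.one_mem _, fun v _ => by simp⟩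
  add_mem' := by
    rintro u u' ⟨h, g, h1, h2, h3⟩ ⟨h', g', h1', h2', h3'⟩
    refine ⟨by rw [map_add, h, h', add_zero], g * g', S.K.mul_mem h1 h1',
      Subgroup.mul_mem _ h2 h2', fun v hv => ?_⟩
    have e : g.1 x = x := h2.2.1
    show g.1 (g'.1 v) = _
    rw [h3' v hv, map_add, map_smul, h3 v hv, e, map_add, LinearMap.add_apply, add_smul, add_assoc]
  neg_mem' := by
    rintro u ⟨h, g, h1, h2, h3⟩
    refine ⟨by rw [map_neg, h, neg_zero], g⁻¹, S.K.inv_mem h1, Subgroup.inv_mem _ h2,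
      fun v hv => ?_⟩
    have e : g.1 x = x := h2.2.1
    refine g.1.symm_apply_eq.2 ?_
    rw [map_add, map_smul, h3 v hv, e, map_neg, LinearMap.neg_apply, neg_smul, add_neg_cancel_right]

theorem smul_self {x : S.V} (hx : S.Iso x) (c : S.F) : c • x ∈ YY S x :=
  ⟨by rw [map_smul, hx.2, smul_zero], 1, S.K.one_mem, Subgroup.one_mem _, fun v hv => by
    rw [form_smul_left, hv]; simp⟩

theorem conj_mem {x u : S.V} {k : S.G} (hk : k ∈ S.K) {a : S.Fˣ} (ha : k.1 x = (a : S.F) • x)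
    (hu : u ∈ YY S x) : frob S.hF a • k.1 u ∈ YY S x := by
  obtain ⟨h, g, h1, h2, h3⟩ := hu
  have hB : ∀ v w, S.B (k.1 v) (k.1 w) = S.B v w := k.2.1
  have ha0 : frob S.hF a ≠ 0 := S.h.conj_ne_zero a.ne_zero
  have hx : ∀ w, frob S.hF a * S.B x (k.1 w) = S.B x w := fun w => by
    rw [← form_smul_left, ← ha, hB]
  refine ⟨by rw [form_smul_right, hx, h], k * g * k⁻¹,
    S.K.mul_mem (S.K.mul_mem hk h1) (S.K.inv_mem hk), ?_, fun v hv => ?_⟩
  · have := HS.conj_Qs k h2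
    rwa [ha, HS.Qs_smul x a.ne_zero] at this
  · obtain ⟨w, rfl⟩ := k.1.surjective v
    have hw : S.B x w = 0 := by rw [← hx, hv, mul_zero]
    have e : (k * g * k⁻¹).1 (k.1 w) = k.1 (g.1 w) := by
      show k.1 (g.1 (k.1.symm (k.1 w))) = _
      rw [k.1.symm_apply_apply]
    rw [e, h3 w hw, map_add, map_smul, ha, form_smul_left, S.h.invol, hB, smul_smul, mul_comm]

theorem fix_smul (hr : S.HR) {x u : S.V} (hx : S.Iso x) (hu : u ∈ YY S x) {c : S.F}
    (hc : frob S.hF c = c) : c • u ∈ YY S x := by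
  by_cases h0 : c = 0
  · rw [h0, zero_smul]; exact zero_mem _
  have hq := S.hq
  have h1 : (Units.mk0 c h0) ^ (S.q - 1) = 1 := by
    apply Units.ext
    have e : c ^ (S.q - 1) * c = 1 * c := by
      rw [← pow_succ, Nat.sub_add_cancel (by omega), one_mul]
      exact hc
    simpa using mul_right_cancel₀ h0 e
  obtain ⟨h, hh, f, hf, h2, h3⟩ := hr x hx _ h1
  have hf' : S.B f x ≠ 0 := fun e => hf (S.h.eq_zero_comm.1 e)
  have h4 := h3 (u - (S.B f u / S.B f x) • x)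
    (by rw [map_sub, map_smul, hu.1, hx.2, smul_zero, sub_zero])
    (by rw [map_sub, map_smul, smul_eq_mul, div_mul_cancel₀ _ hf', sub_self])
  rw [map_sub, map_smul, h2, sub_eq_iff_eq_add] at h4
  have h5 := conj_mem hh h2 hu
  rw [h4] at h5
  simp only [Units.val_mk0, hc] at h5
  have h6 := add_mem h5 (smul_self hx (c * (S.B f u / S.B f x) * (1 - c)))
  convert h6 using 1
  module

theorem form_fixed (nf : S.NF) (hr : S.HR) {x u w : S.V} (hx : S.Iso x) (hu : u ∈ YY S x)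
    (hw : w ∈ YY S x) : frob S.hF (S.B u w) = S.B u w := by
  obtain ⟨f, H⟩ := hx.exists_hyp
  have key : ∀ u ∈ YY S x, ∀ w ∈ YY S x,
      S.B u w - S.B w u ∈ H26.MU.Rof H (S.K.map S.G.subtype) := by
    have k1 : ∀ u ∈ YY S x, ∃ u' ∈ H26.MU.Yof H (S.K.map S.G.subtype),
        ∀ v, S.B x v = 0 → S.B u v = S.B u' v := by
      rintro u ⟨-, g, h1, h2, h3⟩
      refine ⟨H.cu g.1, ⟨g.1, ⟨g, h1, rfl⟩, h2, rfl⟩, fun v hv => ?_⟩
      have e := H.apply_eq (HS.mem_Qs.1 h2) v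
      rw [h3 v hv, hv, zero_smul, mul_zero, zero_smul, sub_zero, sub_zero, add_right_inj] at e
      exact smul_left_injective _ hx.1 e
    intro u hu w hw
    obtain ⟨u', hu', e1⟩ := k1 u hu
    obtain ⟨w', hw', e2⟩ := k1 w hw
    have e3 : S.B u w = S.B u' w' := by
      rw [e1 w hw.1, ← S.h.symm, e2 u' (IsHyp.ew u'), S.h.symm]
    have e4 : S.B w u = S.B w' u' := by rw [← S.h.symm, e3, S.h.symm]
    rw [e3, e4]
    exact H26.MU.sub_mem_Rof H hu' hw'
  by_contra hne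
  rw [S.h.symm] at hne
  have hd : S.B u w - S.B w u ≠ 0 := sub_ne_zero.2 (Ne.symm hne)
  refine nf x ⟨hx, fun t ht => ?_⟩
  have hle : axisGrp S.B x ≤ S.K.map S.G.subtype := by
    refine H26.MU.axis_le_of_Rof H fun c hc => ?_
    have hr' : frob S.hF (c / (S.B u w - S.B w u)) = c / (S.B u w - S.B w u) := by
      rw [map_div₀, map_sub, S.h.symm, S.h.symm, eq_neg_of_add_eq_zero_right hc, ← neg_sub,
        neg_div_neg_eq]
    have := key _ (fix_smul hr hx hu hr') w hw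
    rwa [form_smul_left, form_smul_right, hr', ← mul_sub, div_mul_cancel₀ _ hd] at this
  obtain ⟨g, hg, e⟩ := hle ht
  rwa [← Subtype.ext e]

theorem case_iso (ch : JobCh) (nf : S.NF) (ct : S.CT2) (hr : S.HR) {x u : S.V} (hu : u ∈ YY S x)
    (h : S.TI x u) : False := by
  have hx := h.1
  have mult : ∀ y, S.TI x y → ∃ s : S.F, s ≠ 0 ∧ s • y ∈ YY S x := fun y hy => by
    obtain ⟨k, hk, a, b, c, h1, h2⟩ := ct x u x y h hy
    have h3 := conj_mem hk h1 hu
    rw [h2] at h3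
    refine ⟨frob S.hF a * b, mul_ne_zero (S.h.conj_ne_zero a.ne_zero) b.ne_zero, ?_⟩
    have h4 := sub_mem h3 (smul_self hx (frob S.hF a * c))
    convert h4 using 1
    module
  obtain ⟨Φ, hΦ, -⟩ := ch S.toHS (S.r + 3) 1 S.hr ⟨0, by simp⟩ 1 (by omega) (fun _ => x)
    (fun _ _ => hx.2) (linearIndependent_unique_iff.2 hx.1) (fun _ => by simp)
  have e0 : Φ.e 0 = x := hΦ 0
  have n01 : (0 : Fin (S.r + 3)) ≠ 1 := by simp
  have n02 : (0 : Fin (S.r + 3)) ≠ 2 := by
    intro e; have := congrArg Fin.val e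
    simp [Nat.mod_eq_of_lt (show 2 < S.r + 3 by omega)] at this
  have n12 : (1 : Fin (S.r + 3)) ≠ 2 := by
    intro e; have := congrArg Fin.val e
    simp [Nat.mod_eq_of_lt (show 2 < S.r + 3 by omega)] at this
  have tf : ∀ i, 0 ≠ i → S.TI x (Φ.f i) := fun i hi =>
    ⟨hx, Φ.ff i i, by rw [← e0, Φ.ef, if_neg hi], fun c e => by
      have := Φ.ef i i
      rw [e, ← e0, map_smul, Φ.ee, if_pos rfl, smul_zero] at this
      exact zero_ne_one this⟩
  have te : ∀ c : S.F, S.TI x (Φ.e 1 + c • Φ.e 2) := fun c =>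
    ⟨hx, by simp [Φ.ee], by simp [← e0, Φ.ee], fun d e => by
      have := congrArg (S.B (Φ.f 1)) e
      rw [← e0] at this
      simp [Φ.fe, n12, n01.symm] at this⟩
  obtain ⟨s, hs, h1⟩ := mult _ (tf 1 n01)
  obtain ⟨t, ht, h2⟩ := mult _ (tf 2 n02)
  have key : ∀ c : S.F, frob S.hF (c * (frob S.hF t / frob S.hF s)) =
      c * (frob S.hF t / frob S.hF s) := fun c => by
    obtain ⟨l, hl, h3⟩ := mult _ (te c)
    have e1 := form_fixed nf hr hx h1 h3
    have e2 := form_fixed nf hr hx h2 h3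
    have f1 : S.B (s • Φ.f 1) (l • (Φ.e 1 + c • Φ.e 2)) = frob S.hF s * l := by
      rw [form_smul_left, form_smul_right]; simp [Φ.fe, n12]
    have f2 : S.B (t • Φ.f 2) (l • (Φ.e 1 + c • Φ.e 2)) = frob S.hF t * (l * c) := by
      rw [form_smul_left, form_smul_right]; simp [Φ.fe, n12.symm]
    rw [f1] at e1
    rw [f2] at e2
    have e3 : c * (frob S.hF t / frob S.hF s) = frob S.hF t * (l * c) / (frob S.hF s * l) := by
      have := S.h.conj_ne_zero hs
      field_simp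
    rw [e3, map_div₀, e1, e2]
  apply S.h.ne_id
  ext c
  have e1 := key 1
  have e2 := key c
  rw [one_mul] at e1
  rw [map_mul, e1] at e2
  exact mul_right_cancel₀ (div_ne_zero (S.h.conj_ne_zero ht) (S.h.conj_ne_zero hs)) e2

theorem rank_le (Y : AddSubgroup S.V) (hY : Nat.card Y ≤ S.q ^ 2)
    (hs : ∀ c : S.F, frob S.hF c = c → ∀ u ∈ Y, c • u ∈ Y) :
    finrank S.F (Submodule.span S.F (Y : Set S.V)) ≤ 2 := by
  obtain ⟨b, hb, -, hli⟩ := Submodule.exists_fun_fin_finrank_span_eq S.F (Y : Set S.V)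
  let φ : (Fin (finrank S.F (Submodule.span S.F (Y : Set S.V))) → {c : S.F // c ^ S.q = c}) → Y :=
    fun a => ⟨∑ i, (a i).1 • b i, sum_mem fun i _ => hs _ (a i).2 _ (hb i)⟩
  have hinj : Function.Injective φ := fun a a' e => by
    funext i
    exact Subtype.ext (Fintype.linearIndependent_iffₛ.1 hli _ _ (congrArg Subtype.val e) i)
  have h1 := (Nat.card_le_card_of_injective φ hinj).trans hY
  rw [Nat.card_fun, card_fixed S.hF, Nat.card_eq_fintype_card, Fintype.card_fin] at h1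
  have hq := S.hq
  exact (Nat.pow_le_pow_iff_right (by omega)).1 h1

theorem jobBC1 : JobCW → JobCh → JobBC1 := by
  intro cw ch S nf ct hr x hx g hg hQ v hv
  obtain ⟨f, H⟩ := hx.exists_hyp
  have hn : 6 ≤ finrank S.F S.V := by
    have : finrank S.F S.V / 2 = S.r + 3 := S.hr
    omega
  have ti : ∀ w, w ≠ 0 → S.B w w = 0 → S.B x w = 0 → S.B f w = 0 → S.TI x w :=
    fun w h0 h1 h2 h3 => ⟨hx, h1, h2, fun c e => h0 (by
      rw [e, map_smul, H.fe, smul_eq_mul, mul_one] at h3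
      rw [e, h3, zero_smul])⟩
  let Y : AddSubgroup S.V := YY S x ⊓ (LinearMap.ker (S.B f)).toAddSubgroup
  have hY : Nat.card Y ≤ S.q ^ 2 := by
    by_contra hlt
    obtain ⟨w, hw, h0, h1⟩ := cw S.toHS Y (not_le.1 hlt)
    exact case_iso ch nf ct hr hw.1 (ti w h0 h1 hw.1.1 hw.2)
  have hrk := rank_le Y hY fun c hc u hu =>
    ⟨fix_smul hr hx hu.1 hc, (LinearMap.ker (S.B f)).smul_mem c hu.2⟩
  have hW : 2 ≤ finrank S.F
      (perp S.B (Submodule.span S.F {x, f} ⊔ Submodule.span S.F (Y : Set S.V))) := by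
    have h1 := S.h.finrank_add_finrank_perp
      (Submodule.span S.F {x, f} ⊔ Submodule.span S.F (Y : Set S.V))
    have h2 := Submodule.finrank_add_le_finrank_add_finrank (Submodule.span S.F {x, f})
      (Submodule.span S.F (Y : Set S.V))
    have h3 := S.h.finrank_add_finrank_perp (Submodule.span S.F {x, f})
    have h4 : finrank S.F (perp S.B (Submodule.span S.F {x, f})) + 2 = finrank S.F S.V :=
      S.h.finrank_hypPerp H.ee H.ef
    omega
  obtain ⟨y, hy, hy0, hyy⟩ := S.h.exists_isotropic_mem hW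
  rw [perp_sup] at hy
  obtain ⟨hy1, hy2⟩ := mem_perp_pair.1 hy.1
  have hy3 : ∀ u ∈ YY S x, S.B u y = 0 := fun u hu => by
    have h1 : u - S.B f u • x ∈ Y := ⟨(YY S x).sub_mem hu (smul_self hx _), by
      show S.B f _ = 0
      rw [map_sub, map_smul, H.fe, smul_eq_mul, mul_one, sub_self]⟩
    have h2 := mem_perp_span.1 hy.2 _ h1
    rwa [map_sub, LinearMap.sub_apply, form_smul_left, hy1, mul_zero, sub_zero] at h2
  have hall : ∀ w, S.TI x w → ∀ u ∈ YY S x, S.B u w = 0 := fun w hw u hu => by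
    obtain ⟨k, hk, a, b, c, h1, h2⟩ := ct x w x y hw (ti y hy0 hyy hy1 hy2)
    have h3 := conj_mem hk h1 hu
    have h4 := hy3 _ h3
    have h5 := S.h.eq_zero_comm.1 h3.1
    have h6 : S.B (frob S.hF a • k.1 u) (k.1 w) = 0 := by
      rw [h2, map_add, form_smul_right, form_smul_right, h4, h5, mul_zero, mul_zero, add_zero]
    rw [form_smul_left, S.h.invol, k.2.1] at h6
    exact (mul_eq_zero.1 h6).resolve_left a.ne_zero
  have e : ∀ w, S.B x w = 0 → g.1 w = w + S.B (H.cu g.1) w • x := fun w hw => by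
    rw [H.apply_eq (HS.mem_Qs.1 hQ) w, hw, zero_smul, mul_zero, zero_smul, sub_zero, sub_zero]
  have hu : (H.cu g.1 : S.V) ∈ YY S x := ⟨IsHyp.ew _, g, hg, hQ, e⟩
  have h0 : H.cu g.1 = 0 := by
    by_contra h0
    have h4 := S.h.finrank_hypPerp H.ee H.ef
    obtain ⟨w, hw, hw'⟩ := H26.MU.exists_iso_ne_zero (S.h.isHerm_hypForm H.ee H.ef) (by omega) h0
    refine hw' (S.h.eq_zero_comm.1 (hall w (ti w (fun e => hw' ?_) hw (IsHyp.ew w) (IsHyp.fw w)) _ hu))
    rw [show w = 0 from Subtype.ext e, map_zero, LinearMap.zero_apply]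
  rw [e v hv, h0]
  simp

end H52.KUBC1
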