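import Cfsg.Agent.H63.KgvSpec

/-! Tower KGV: slot JAN. -/

set_option autoImplicit false

namespace H52.KgvAN

open Polynomial Finset Cfsg H63.Kgv

theorem shift {F : Type} [Field F] {m : ℕ} (b : F) {f : F[X]} (h : f.Monic ∧ f.natDegree = m + 2) :
    (f + C b * X ^ (m + 1)).Monic ∧ (f + C b * X ^ (m + 1)).natDegree = m + 2 := by
  have h1 : (C b * X ^ (m + 1) : F[X]).natDegree < f.natDegree := by
    have := natDegree_C_mul_X_pow_le b (m + 1)
    omega
  exact ⟨h.1.add_of_left (degree_lt_degree h1), by rw [natDegree_add_eq_left_of_natDegree_lt h1, h.2]⟩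

theorem job : H63.Kgv.JAN := by
  intro hp F _ _ ψ χ hψ
  obtain ⟨-, -, -, p4, p5⟩ := hp F
  constructor
  · have e : {f : F[X] | f.Monic ∧ f.natDegree = 1} = Set.range fun a : F => X - C a := by
      ext f
      constructor
      · rintro ⟨h1, h2⟩
        refine ⟨-f.coeff 0, ?_⟩
        show X - C (-f.coeff 0) = f
        rw [C_neg, sub_neg_eq_add]
        exact (h1.eq_X_add_C h2).symm
      · rintro ⟨a, rfl⟩
        exact ⟨monic_X_sub_C a, natDegree_X_sub_C a⟩
    have inj : Function.Injective fun a : F => (X - C a : F[X]) := fun a b h =>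
      C_injective (sub_right_injective h)
    rw [an, e, finsum_mem_range inj, finsum_eq_sum_of_fintype, gaussSum]
    refine Finset.sum_congr rfl fun a _ => ?_
    rw [lam, p5 1 a one_pos, natDegree_X_sub_C, mul_comm]
    simp
  · intro n hn
    obtain ⟨m, rfl⟩ : ∃ m, n = m + 2 := ⟨n - 2, by omega⟩
    obtain ⟨b, hb⟩ := AddChar.ne_one_iff.1 hψ
    have bij : Set.BijOn (fun f : F[X] => f + C (-b) * X ^ (m + 1))
        {f : F[X] | f.Monic ∧ f.natDegree = m + 2} {f : F[X] | f.Monic ∧ f.natDegree = m + 2} := by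
      refine ⟨fun f hf => shift _ hf, fun f _ g _ h => add_right_cancel h, fun f hf => ?_⟩
      refine ⟨f + C b * X ^ (m + 1), shift _ hf, ?_⟩
      show f + C b * X ^ (m + 1) + C (-b) * X ^ (m + 1) = f
      rw [C_neg]; ring
    have key : ψ b * an (lam ψ χ 1) (m + 2) = an (lam ψ χ 1) (m + 2) := by
      rw [an, mul_finsum_mem]
      refine finsum_mem_eq_of_bijOn _ bij fun f hf => ?_
      obtain ⟨s1, s2⟩ := shift (-b) hf
      have n1 : (f + C (-b) * X ^ (m + 1)).nextCoeff = f.nextCoeff - b := by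
        rw [nextCoeff_of_natDegree_pos (by omega), nextCoeff_of_natDegree_pos (by rw [hf.2]; omega),
          s2, hf.2, coeff_add, coeff_C_mul_X_pow]
        simp [sub_eq_add_neg]
      have n0 : (f + C (-b) * X ^ (m + 1)).coeff 0 = f.coeff 0 := by
        rw [coeff_add, coeff_C_mul_X_pow]; simp
      show ψ b * lam ψ χ 1 f = lam ψ χ 1 (f + C (-b) * X ^ (m + 1))
      rw [lam, lam, p4 _ s1, p4 _ hf.1, n1, n0, s2, hf.2, ← mul_assoc, ← AddChar.map_add_eq_mul]
      congr 2
      ring
    have : (ψ b - 1) * an (lam ψ χ 1) (m + 2) = 0 := by rw [sub_mul, key, one_mul, sub_self]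
    exact (mul_eq_zero.1 this).resolve_left (sub_ne_zero.2 hb)

end H52.KgvAN
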