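import Cfsg.Agent.H98.CharP
import Cfsg.Agent.H46.Coprime
import Cfsg.Agent.H10.StableNormal
import Cfsg.Agent.H11.QuadAct
import Cfsg.Agent.H98.Norm

/-! Subgroups of order prime to `p` normalized by a self-centralizing normal subgroup of a Sylow
`p`-subgroup. -/

set_option autoImplicit false
set_option linter.unusedSectionVars false

namespace H52.Loc

open Cfsg Subgroup H98

variable {G : Type*} [Group G] [Finite G] {p : ℕ} [hp : Fact p.Prime]

theorem inf_eq_bot_of_pgroup {R K : Subgroup G} (hR : IsPGroup p R) (hK : (Nat.card K).Coprime p) :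
    R ⊓ K = ⊥ := by
  rcases (hR.to_le (inf_le_left : R ⊓ K ≤ R)).card_eq_or_dvd with e | e
  · exact card_eq_one.1 e
  · exact absurd (e.trans (card_dvd_of_le inf_le_right))
      ((Nat.Prime.coprime_iff_not_dvd hp.out).1 hK.symm)

theorem eq_bot_of_scn {H P B K : Subgroup G} (h : CharP p H) (hP : IsSyl p P H) (hB : B ≤ P)
    (hn : P ≤ normalizer (B : Set G)) (hc : P ⊓ centralizer (B : Set G) = B) (hK : K ≤ H)
    (hK' : (Nat.card K).Coprime p) (hBK : B ≤ normalizer (K : Set G)) : K = ⊥ := by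
  set R := pCoreOf p H with hR
  have hRP : R ≤ P := hP.pCoreOf_le
  have hKR : K ≤ normalizer (R : Set G) := le_normalizer_pCoreOf_of_le hK
  have hBR : B ≤ normalizer (R : Set G) := le_normalizer_pCoreOf_of_le (hB.trans hP.le)
  have h1 : K ≤ centralizer ((R ⊓ B : Subgroup G) : Set G) := by
    rw [le_centralizer_iff, ← commutator_eq_bot_iff_le_centralizer, eq_bot_iff,
      ← inf_eq_bot_of_pgroup (isPGroup_pCoreOf H) hK']
    exact le_inf ((commutator_mono inf_le_left le_rfl).trans (commutator_le_left' hKR))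
      (commutator_le_right' (inf_le_right.trans hBK))
  have h2 : B ≤ stab R (R ⊓ B) := le_stab_iff.2 ⟨le_normalizer_inf hBR le_normalizer,
    le_inf (commutator_le_left' hBR) (commutator_le_right' (hRP.trans hn))⟩
  have h3 : ⁅B, K⁆ ≤ stab R (R ⊓ B) := (commutator_mono h2 le_rfl).trans
    (commutator_le_left' (le_normalizer_stab hKR (le_normalizer_of_le_centralizer h1)))
  have h4 : ⁅B, K⁆ ≤ K := commutator_le_right' hBK
  have h5 : IsPGroup p ↥⁅B, K⁆ := h.isPGroup_of_quadratic (h4.trans hK) (by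
    rw [eq_bot_iff]
    refine (commutator_mono (le_stab_iff.1 h3).2 h4).trans ?_
    rw [le_bot_iff, commutator_eq_bot_iff_le_centralizer]
    exact le_centralizer_iff.1 h1)
  have h6 : ⁅B, K⁆ = ⊥ := by
    rw [← inf_eq_bot_of_pgroup h5 hK', inf_eq_left.2 h4]
  refine h.eq_bot_of_AB (hP.isPGroup.to_le hB) ((hB.trans hP.le).trans le_normalizer) hK
    (res_eq_self_of_coprime hK') h6 (le_trans ?_ (le_centralizer_iff.1 h1))
  exact le_inf inf_le_left ((inf_le_inf_right _ hRP).trans hc.le)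

/-- in a `p`-constrained group a `p'`-subgroup normalized by a member of `SCN(P)` lies in
`O_{p'}(G)` -/
theorem le_pPrimeCore_of_scn (h : IsPConstrained p G) {P B K : Subgroup G} (hP : IsSyl p P ⊤)
    (hB : B ≤ P) (hn : P ≤ normalizer (B : Set G)) (hc : P ⊓ centralizer (B : Set G) = B)
    (hK' : (Nat.card K).Coprime p) (hBK : B ≤ normalizer (K : Set G)) : K ≤ pPrimeCore p G := by
  set f := QuotientGroup.mk' (pPrimeCore p G) with hf
  have hs : Function.Surjective f := QuotientGroup.mk'_surjective _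
  have hk : f.ker = pPrimeCore p G := QuotientGroup.ker_mk' _
  have h1 : CharP p (⊤ : Subgroup (G ⧸ pPrimeCore p G)) :=
    charP_top_iff.2 (H10.isPConstrained_iff_isCharP_quotient.1 h)
  have hP' := hP.map f
  rw [map_top_of_surjective f hs] at hP'
  have hPk : P ⊓ f.ker = ⊥ := inf_eq_bot_of_pgroup hP.isPGroup (H10.coprime_card_ker_mk'_pPrimeCore p G)
  rw [← hk, ← Subgroup.map_eq_bot_iff]
  refine eq_bot_of_scn h1 hP' (map_mono hB) (map_le_normalizer_map f hn) ?_ le_top
    (hK'.coprime_dvd_left (card_map_dvd _ _)) (map_le_normalizer_map f hBK)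
  refine le_antisymm ?_ (le_inf (map_mono hB) (map_le_centralizer_map f (hc.ge.trans inf_le_right)))
  rintro _ ⟨⟨y, hy, rfl⟩, hy'⟩
  refine mem_map_of_mem f (hc.le ⟨hy, fun b hb => ?_⟩)
  have e : b * y * (y * b)⁻¹ ∈ P ⊓ f.ker := by
    refine ⟨P.mul_mem (P.mul_mem (hB hb) hy) (P.inv_mem (P.mul_mem hy (hB hb))), ?_⟩
    change f _ = 1
    rw [map_mul, map_inv, map_mul, map_mul, hy' _ (mem_map_of_mem f hb), mul_inv_cancel]
  rwa [hPk, mem_bot, mul_inv_eq_one] at e

/-- a proper subgroup of a cyclic `p`-group consists of `p`-th powers -/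
theorem exists_pow_of_lt {D E : Subgroup G} (hD : IsPGroup p D) (hc : IsCyclic D) (h : E < D)
    {x : G} (hx : x ∈ E) : ∃ y ∈ D, x = y ^ p := by
  obtain ⟨d, hd⟩ := IsCyclic.exists_monoid_generator (α := D)
  obtain ⟨n, hn⟩ := hd ⟨x, h.le hx⟩
  have e : (d : G) ^ n = x := congrArg Subtype.val hn
  by_cases hpn : p ∣ n
  · obtain ⟨m, rfl⟩ := hpn
    exact ⟨d ^ m, D.pow_mem d.2 m, by rw [← e, ← pow_mul, mul_comm]⟩
  · refine absurd (fun y hy => ?_) h.not_ge
    obtain ⟨k, hk⟩ := hd ⟨y, hy⟩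
    have e' : (d : G) ^ k = y := congrArg Subtype.val hk
    exact e' ▸ E.pow_mem (mem_of_pow_mem_of_isPGroup hD d.2 hpn (e ▸ hx)) k

theorem sylow_le_pCore_of_cyclic (h2 : p ≠ 2) (hG : ¬ Involves (qd p) G) (hc : H10.IsCharP p G)
    {S : Subgroup G} (hS : IsSyl p S ⊤) (hcyc : IsCyclic ↥⁅S, S⁆) : S ≤ pCore p G := by
  intro a ha
  set Q := pCore p G with hQ
  have hQS : Q ≤ S := pCoreOf_top.ge.trans hS.pCoreOf_le
  have hA : zpowers a ≤ S := zpowers_le.2 ha
  set D := ⁅S, S⁆ ⊓ Q with hD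
  have hDp : IsPGroup p D := (isPGroup_pCore p G).to_le inf_le_right
  have h1 : ⁅Q, zpowers a⁆ ≤ D := le_inf (commutator_mono hQS hA) (commutator_le_left _ _)
  have h3 : ⁅D, zpowers a⁆ ≤ (frattini Q).map Q.subtype := by
    by_cases hb : D = ⊥
    · rw [hb, commutator_bot_left]; exact bot_le
    · intro x hx
      obtain ⟨y, hy, rfl⟩ := exists_pow_of_lt hDp (isCyclic_of_le inf_le_left)
        (commutator_lt_of_isPGroup hDp (hS.isPGroup.to_le hA) (hA.trans (le_normalizer_inf
          (le_normalizer_commutator le_normalizer le_normalizer) le_normalizer_of_normal)) hb) hx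
      exact H46.pow_mem_frattiniOf hp.out (isPGroup_pCore p G) hy.2
  obtain ⟨E, hE, -, ⟨k, hk⟩, haE⟩ := H11.isPStableOnSection_of_not_involves_qd h2 hG Q
    ((frattini Q).map Q.subtype) ((isPGroup_pCore p G).map _) a
    ((commutator_mono h1 le_rfl).trans h3)
  exact H2.le_pCore (H10.isPGroup_of_relIndex_eq_pow hc.isPGroup_sectionKernel_frattini hk) haE

theorem sup_sylow_normal_of_cyclic (h2 : p ≠ 2) (hG : ¬ Involves (qd p) G) (hc : IsPConstrained p G)
    {S : Subgroup G} (hS : IsSyl p S ⊤) (hcyc : IsCyclic ↥⁅S, S⁆) :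
    (pPrimeCore p G ⊔ S).Normal := by
  set f := QuotientGroup.mk' (pPrimeCore p G) with hf
  have hs : Function.Surjective f := QuotientGroup.mk'_surjective _
  have hS' := hS.map f
  rw [map_top_of_surjective f hs] at hS'
  have h1 := sylow_le_pCore_of_cyclic h2
    (fun h => hG (H94.involves_trans h (H94.involves_quotient _)))
    (H10.isPConstrained_iff_isCharP_quotient.1 hc) hS' (by
      rw [← map_commutator]
      exact isCyclic_of_surjective _ (f.subgroupMap_surjective _))
  have h3 : S.map f = pCore p _ := le_antisymm h1 (pCoreOf_top.ge.trans hS'.pCoreOf_le)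
  have h4 : ((S.map f).comap f).Normal := by rw [h3]; infer_instance
  rwa [comap_map_eq, hf, QuotientGroup.ker_mk', sup_comm] at h4

theorem pcon_of_solvable (h : Group.IsSolvable G) : IsPConstrained p G :=
  H10.isPConstrained_iff_isCharP_quotient.2
    (H2.centralizer_pCore_le (H2.pPrimeCore_quotient_pPrimeCore p G))

end H52.Loc
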