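import Cfsg.Agent.H52.CD

/-! Minimal centrally large subgroups and pushing up. -/

set_option autoImplicit false
set_option linter.unusedSectionVars false

namespace H52

open Subgroup Cfsg H98 H96
open scoped commutatorElement

universe u

variable {X : Type u} [Group X] {p q : ℕ} [hp : Fact p.Prime] [Finite X]
  {L T T' O H K A B Y D N : Subgroup X} {g : X}

/-- the Frattini subgroup of a subgroup -/
abbrev Ph (H : Subgroup X) : Subgroup X := (frattini H).map H.subtype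

theorem Ph_le (H : Subgroup X) : Ph H ≤ H := map_subtype_le _

theorem map_Ph {X' : Type*} [Group X'] {f : X →* X'} (hf : Function.Injective f) (H : Subgroup X) :
    (Ph H).map f = Ph (H.map f) := by
  let e := H.equivMapOfInjective f hf
  have h1 : (frattini H).map e.toMonoidHom = frattini (H.map f) := le_antisymm
    (map_le_iff_le_comap.2 (frattini_le_comap_frattini_of_surjective e.surjective)) fun x hx =>
      ⟨e.symm x, frattini_le_comap_frattini_of_surjective (φ := e.symm.toMonoidHom) e.symm.surjective hx,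
        e.apply_symm_apply x⟩
  rw [Ph, Ph, ← h1, map_map, map_map]
  rfl

theorem cj_Ph (g : X) (H : Subgroup X) : cj g (Ph H) = Ph (cj g H) := map_Ph (MulAut.conj g).injective H

theorem n_Ph (h : A ≤ normalizer (H : Set X)) : A ≤ normalizer (Ph H : Set X) :=
  h.trans (normalizer_le_normalizer_map_subtype _)

theorem Ph_le_of (h1 : ⁅H, H⁆ ≤ N) (h2 : ∀ x ∈ H, x ^ p ∈ N) : Ph H ≤ N :=
  H9.map_frattini_le_of_forall (p := p) (commutator_le.1 h1) h2

theorem comm_le_Ph (h : IsPGroup p H) : ⁅H, H⁆ ≤ Ph H :=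
  commutator_le.2 fun _ hx _ hy => H9.commutatorElement_mem_map_frattini h hx hy

theorem Ph_mono (h : IsPGroup p K) (h1 : H ≤ K) : Ph H ≤ Ph K :=
  Ph_le_of ((commutator_mono h1 h1).trans (comm_le_Ph h)) fun _ hx => H9.pow_mem_map_frattini h (h1 hx)

theorem Ph_sup_le (hY : IsPGroup p Y) (hD : IsPGroup p D) (h : Y ≤ centralizer (D : Set X))
    (h1 : Ph Y ≤ N) (h2 : Ph D ≤ N) : Ph (Y ⊔ D) ≤ N := by
  have h3 := le_normalizer_of_le_centralizer h
  refine Ph_le_of (p := p) ((lcs_sup_le h 1).trans (sup_le ((comm_le_Ph hY).trans h1)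
    ((comm_le_Ph hD).trans h2))) fun x hx => ?_
  obtain ⟨y, hy, d, hd, rfl⟩ := (mem_sup_left_norm h3).1 hx
  rw [Commute.mul_pow (h hy d hd).symm]
  exact mul_mem (h1 (H9.pow_mem_map_frattini hY hy)) (h2 (H9.pow_mem_map_frattini hD hd))

theorem Ph_le_of_el (h1 : H ≤ centralizer (H : Set X)) (h2 : ∀ x ∈ H, x ^ p = 1) : Ph H ≤ N :=
  Ph_le_of (p := p) ((commutator_eq_bot_iff_le_centralizer.2 h1).le.trans bot_le)
    fun x hx => h2 x hx ▸ one_mem _

theorem Ph_le_cent {V E : Subgroup X} (h1 : D ≤ centralizer (V : Set X)) (h2 : ⁅D, E⁆ ≤ V)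
    (h3 : V ≤ centralizer (V : Set X)) (h4 : ∀ v ∈ V, v ^ p = 1) : Ph D ≤ centralizer (E : Set X) := by
  intro x hx e he
  let f : D →* V := MonoidHom.mk' (fun d => ⟨⁅(d : X), e⁆, h2 (commutator_mem_commutator d.2 he)⟩)
    fun a b => Subtype.ext (by
      have h5 := h2 (commutator_mem_commutator b.2 he)
      change ⁅(a : X) * b, e⁆ = ⁅(a : X), e⁆ * ⁅(b : X), e⁆
      rw [H9.commutatorElement_mul_left', ← h1 a.2 _ h5, mul_inv_cancel_right,
        h3 h5 _ (h2 (commutator_mem_commutator a.2 he))])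
  have h5 : frattini D ≤ f.ker := H9.frattini_le_of_forall (p := p) (fun a b => by
    rw [MonoidHom.mem_ker, map_commutatorElement, commutatorElement_eq_one_iff_mul_comm]
    exact Subtype.ext (h3 (f b).2 _ (f a).2)) fun a => by
    rw [MonoidHom.mem_ker, map_pow]
    exact Subtype.ext (h4 _ (f a).2)
  obtain ⟨x, hx, rfl⟩ := hx
  exact (commutatorElement_eq_one_iff_mul_comm.1 (congrArg Subtype.val (h5 hx))).symm

theorem pow_mem_mho (p : ℕ) {x : X} (hx : x ∈ H) : x ^ p ∈ powerClosure p 1 H := by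
  simpa using H19.pow_mem_powerClosure (p := p) (n := 1) hx

theorem card_oz_mul (p : ℕ) (H : Subgroup X) :
    Nat.card (oz p H) * Nat.card (powerClosure p 1 (zc H)) = Nat.card (zc H) := by
  let f : zc H →* X := MonoidHom.mk' (fun z => (z : X) ^ p) fun a b =>
    Commute.mul_pow (b.2.2 a a.2.1) p
  have h1 : f.range = powerClosure p 1 (zc H) := le_antisymm
    (by rintro _ ⟨z, rfl⟩; exact pow_mem_mho p z.2)
    (H19.powerClosure_le_iff.2 fun x hx => ⟨⟨x, hx⟩, (pow_one p).symm ▸ rfl⟩)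
  have h2 : f.ker = (oz p H).subgroupOf (zc H) := by
    ext z
    rw [mem_subgroupOf, mem_oz]
    exact ⟨fun h => ⟨z.2.1, z.2.2, h⟩, fun h => h.2.2⟩
  rw [← h1, ← index_ker, ← f.ker.card_mul_index, h2,
    Nat.card_congr (subgroupOfEquivOfLe (le_inf (oz_le H) (oz_le_centralizer H))).toEquiv]

theorem n_iSup {ι : Sort*} {f : ι → Subgroup X} (h : ∀ g ∈ L, ∀ i, cj g (f i) ≤ ⨆ i, f i) :
    L ≤ normalizer ((⨆ i, f i : Subgroup X) : Set X) := fun g hg =>
  mem_normalizer_of_cj_le (cj_le_iff.2 (iSup_le fun i => cj_le_iff.1 (h g hg i)))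

theorem map_zj_subtype (T : Subgroup X) : (thompsonSubgroupA T ⊓ centralizer
    (thompsonSubgroupA T : Set T)).map T.subtype = H13.zj 0 T := by
  rw [map_inf_centralizer T.subtype_injective, ← H13.centerThompsonAOf_eq]
  rfl

theorem CL.sup_J (h : CL T H) (hJ : T ≤ centralizer (H13.zj 0 T : Set X)) :
    H ⊔ sSup (H13.maxAb 0 T) = T ∧ CL T T := by
  obtain ⟨H, rfl⟩ := exists_subtype h.le
  have h1 : H ⊔ thompsonSubgroupA T = ⊤ := eq_top_iff.2 (le_trans (le_centralizer_of_map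
    T.subtype_injective (by rwa [map_subtype_top, map_zj_subtype])) (H99.cl_jtilde_le (cl_iff.1 h)))
  have h2 := cl_iff.2 (h1 ▸ H99.cl_sup_thompsonSubgroupA (cl_iff.1 h))
  rw [map_subtype_top] at h2
  refine ⟨?_, h2⟩
  rw [← H13.thompsonSubgroupAOf_eq, thompsonSubgroupAOf, ← Subgroup.map_sup, h1, map_subtype_top]

theorem exists_cl (T : Subgroup X) : ∃ H, CL T H :=
  let ⟨_, h⟩ := H99.exists_isCentrallyLarge (G := T)
  ⟨_, cl_iff.2 h⟩

theorem cl_self (hJ : T ≤ centralizer (H13.zj 0 T : Set X)) : CL T T :=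
  let ⟨_, h⟩ := exists_cl T
  (h.sup_J hJ).2

theorem R1.nv_of_J (h : R1 p q L) (hc : CharP p L) (hT : IsSyl p T L)
    (hJ : T ≤ centralizer (H13.zj 0 T : Set X)) (hnc : ¬ zc T ≤ centralizer (L : Set X)) : Nv p q L := by
  rcases h.tri hc hT with h1 | h1 | h1
  · exact (hnc h1).elim
  · rw [jb, inf_eq_left.2 hJ] at h1
    exact (h.not_norm hT h1).elim
  · exact h1.1

namespace Nv

variable (h : Nv p q L)
include h

theorem cl_Q (hT : IsSyl p T L) (h1 : CL T T) : CL T (pCoreOf p L) :=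
  h1.of_cm hT.pCoreOf_le (by
    rw [cm, cm, h.spr.r1.card T hT, h.card1 hT]
    exact le_of_eq (by ring))

theorem not_cent (hT : IsSyl p T L) : ¬ zc T ≤ centralizer (L : Set X) := fun e =>
  h.spr.not_fx_le hT (h.fxz T hT ▸ le_inf (h.zc_le hT) e)

theorem mcl_comm (hT : IsSyl p T L) (h1 : CL T T) (hH : MCL T H) (hHQ : ¬ H ≤ pCoreOf p L) :
    zc T ⊓ ⁅H, H⁆ ≤ centralizer (L : Set X) := by
  obtain ⟨R, h2, h3⟩ := (h.cl_Q hT h1).exists_mcl
  have h4 : L ≤ normalizer ((⁅H, H⁆ : Subgroup X) : Set X) := fun g hg => by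
    rw [← cj_eq_self_iff, hH.comm_eq h2, cj_commutator]
    exact (h2.cj_le h3 hT.pCoreOf_le (self_le_normalizer_pCoreOf L hg)).comm_eq h2
  have h5 := h.spr.r1.res_le_stab hT h4 (le_normalizer_bot L) (Y := zc H) (inf_le_left.trans hH.1.le)
    (fun e => hHQ ((hH.inf_sup (h.cl_Q hT h1)).1.ge.trans (sup_le inf_le_right e)))
    (commutator_eq_bot_iff_le_centralizer.2 ((commutator_le_of_le le_rfl le_rfl).trans (le_cent_zc H))).le
  rw [← hT.sup_res, centralizer_sup]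
  exact inf_le_inf inf_le_right (commutator_eq_bot_iff_le_centralizer.1 (le_bot_iff.1 h5))

theorem V_eq : oz p (pCoreOf p L) ⊔ Cv p L = Vv p L := by
  refine (h.spr.irred le_sup_right (sup_le (le_inf (oz_le _) (oz_le_centralizer _)) (Cv_le L)) (le_normalizer_sup
    (le_normalizer_oz (self_le_normalizer_pCoreOf L)) (n_Cv L))).resolve_left fun e =>
    h.spr.not_res_le (commutator_le.2 fun v hv x hx => e.le (mem_sup_left ?_))
  have hx' := res_le L hx
  have h1 := conj_mem_of_mem_normalizer (n_Vv (p := p) L hx') (inv_mem hv)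
  have h2 : ⁅v, x⁆ = v * (x * v⁻¹ * x⁻¹) := by rw [commutatorElement_def]; group
  have h3 := mul_mem hv h1
  rw [h2]
  refine mem_oz.2 ⟨h3.1, h3.2, ?_⟩
  rw [Commute.mul_pow (h1.2 v hv.1), conj_pow, inv_pow, (inv_mem (h.spr.pow_mem hv)).2 x hx']
  group

theorem mcl_star (hT : IsSyl p T L) (h1 : CL T T) (hH : MCL T H) (hHQ : ¬ H ≤ pCoreOf p L) :
    MCL T (H ⊓ pCoreOf p L ⊔ Vv p L) ∧
      zc (H ⊓ pCoreOf p L ⊔ Vv p L) = zc H ⊓ pCoreOf p L ⊔ Vv p L := by
  have hQ := h.cl_Q hT h1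
  have h2 := (hH.1.1.inf hQ.1).sup hQ.cd_zc
  have h3 : cz T (H ⊓ pCoreOf p L ⊔ Vv p L) = zc H ⊓ pCoreOf p L ⊔ Vv p L := by
    rw [cz_sup, hH.1.1.cz_inf hQ.1, hQ.cz_zc, hH.1.cz_eq, hQ.cz_eq,
      hH.1.cd_zc.sup_inf' hQ.cd_zc inf_le_left]
  have h4 : CL T (H ⊓ pCoreOf p L ⊔ Vv p L) :=
    ⟨h2, h3 ▸ sup_le_sup_right (inf_le_inf_right _ inf_le_left) _⟩
  refine ⟨hH.of_card h4 ?_, h4.cz_eq ▸ h3⟩
  have h5 := (hH.1.1.inf hQ.1).card_sup hQ.cd_zc
  have h6 : H ⊓ pCoreOf p L ⊓ Vv p L = zc T := le_antisymm ((le_inf inf_le_right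
    ((le_inf inf_le_right (inf_le_left.trans inf_le_left)).trans ((hH.inf_sup hQ).2.trans
      inf_le_right))).trans (h.V_inf_cent hT hH.1.le hHQ).le)
    (le_inf (hH.1.1.inf hQ.1).zc_le (h.zc_le hT))
  have h7 : H ⊔ pCoreOf p L = T := le_antisymm (sup_le hH.1.le hQ.le)
    ((hH.1.1.sup hQ.1).le_of_cz_le le_rfl (by
      rw [cz_sup, hQ.cz_eq, ← h.V_inf_cent hT hH.1.le hHQ] at *
      exact (le_inf inf_le_right (inf_le_left.trans inf_le_right)).trans
        ((h.V_inf_cent hT hH.1.le hHQ).le.trans inf_le_right)))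
  have h8 := hH.1.1.card_sup hQ.1
  rw [h7, h.spr.r1.card T hT, mul_right_comm] at h8
  rw [h6, h.card1 hT, ← mul_assoc] at h5
  rw [Nat.eq_of_mul_eq_mul_right Nat.card_pos h5, ← Nat.eq_of_mul_eq_mul_right Nat.card_pos h8, mul_comm]

end Nv

/-- minimal centrally large subgroups with many central elements of order `p` -/
def FM (p : ℕ) (T H : Subgroup X) : Prop :=
  MCL T H ∧ ∀ R, MCL T R → Nat.card (oz p R) ≤ Nat.card (oz p H)

theorem MCL.card_zc (h : MCL T H) (h' : MCL T K) : Nat.card (zc H) = Nat.card (zc K) := by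
  have h1 := h.1.1.cm_eq h'.1.1
  rw [h.1.cm_eq, h'.1.cm_eq, cm, cm, h.card_eq h'] at h1
  exact Nat.eq_of_mul_eq_mul_left Nat.card_pos h1

theorem Nv.fm_star (h : Nv p q L) (hT : IsSyl p T L) (h1 : CL T T) (hH : FM p T H)
    (hHQ : ¬ H ≤ pCoreOf p L) : ∃ K, FM p T K ∧ K ≤ pCoreOf p L ∧ Ph H ≤ Ph K := by
  obtain ⟨h2, h3⟩ := h.mcl_star hT h1 hH.1 hHQ
  set K := H ⊓ pCoreOf p L ⊔ Vv p L
  have hK := hT.isPGroup.to_le h2.1.le
  have h4 : powerClosure p 1 (zc K) ≤ powerClosure p 1 (zc H) := H19.powerClosure_le_iff.2 fun x hx => by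
    have h5 : zc K = zc H ⊓ pCoreOf p L ⊔ oz p (pCoreOf p L) := by
      rw [h3, ← h.V_eq, sup_comm (oz p _), ← sup_assoc, sup_eq_left.2 ((Cv_le_zc hT).trans
        (le_inf hH.1.1.cd_zc.zc_le ((h.zc_le hT).trans (Vv_le_Q L))))]
    rw [h5] at hx
    obtain ⟨z, hz, w, hw, rfl⟩ := (mem_sup_left_norm (le_normalizer_oz (le_normalizer_of_le
      inf_le_right))).1 hx
    rw [Commute.mul_pow ((mem_oz.1 hw).2.1 z hz.2), pow_one, (mem_oz.1 hw).2.2, mul_one]
    exact pow_mem_mho p hz.1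
  have h5 := card_oz_mul p H
  have h6 := card_oz_mul p K
  rw [h2.card_zc hH.1, ← h5] at h6
  have h7 := hH.2 K h2
  have h8 := card_le_of_le h4
  have h9 : Nat.card (oz p H) ≤ Nat.card (oz p K) := Nat.le_of_mul_le_mul_right
    (h6.ge.trans (Nat.mul_le_mul_left _ h8)) Nat.card_pos
  have h10 := eq_of_le_of_card_ge h4 (Nat.le_of_mul_le_mul_left
    (h6.ge.trans (Nat.mul_le_mul_right _ h7)) Nat.card_pos)
  refine ⟨K, ⟨h2, fun R hR => (hH.2 R hR).trans h9⟩, sup_le inf_le_right (Vv_le_Q L), ?_⟩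
  have hp' := hT.isPGroup.to_le hH.1.1.le
  conv_lhs => rw [← (hH.1.inf_sup (h.cl_Q hT h1)).1]
  refine Ph_sup_le (hp'.to_le inf_le_left) (hp'.to_le inf_le_left) (inf_le_left.trans (le_cent_zc H))
    (Ph_mono hK le_sup_left) (Ph_le_of (p := p) ((commutator_eq_bot_iff_le_centralizer.2
      (zc_ab H)).le.trans bot_le) fun x hx => ?_)
  refine H19.powerClosure_le_iff.2 (fun y hy => ?_) (h10.ge (pow_mem_mho p hx))
  rw [pow_one]
  exact H9.pow_mem_map_frattini hK hy.1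

/-- the join of the minimal centrally large subgroups -/
def sM (T : Subgroup X) : Subgroup X := ⨆ H : {H // MCL T H}, H.1

/-- the join of the Frattini subgroups of the distinguished minimal centrally large subgroups -/
def sF (p : ℕ) (T : Subgroup X) : Subgroup X := ⨆ H : {H // FM p T H}, Ph H.1

theorem R1.mcl_push (h : R1 p q L) (hc : CharP p L) (hT : IsSyl p T L)
    (hJ : T ≤ centralizer (H13.zj 0 T : Set X)) (hH : MCL T H) :
    zc T ⊓ ⁅H, H⁆ ≤ centralizer (L : Set X) ∨ L ≤ normalizer (sM T : Set X) := by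
  by_cases h1 : zc T ≤ centralizer (L : Set X)
  · exact Or.inl (inf_le_left.trans h1)
  by_cases h2 : ∀ K, MCL T K → K ≤ pCoreOf p L
  · exact Or.inr (n_iSup fun g hg K => le_iSup (fun H : {H // MCL T H} => H.1)
      ⟨_, K.2.cj_le (h2 _ K.2) hT.pCoreOf_le (self_le_normalizer_pCoreOf L hg)⟩)
  · push Not at h2
    obtain ⟨K, h2, h3⟩ := h2
    rw [hH.comm_eq h2]
    exact Or.inl ((h.nv_of_J hc hT hJ h1).mcl_comm hT (cl_self hJ) h2 h3)

theorem R1.fm_push (h : R1 p q L) (hc : CharP p L) (hT : IsSyl p T L)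
    (hJ : T ≤ centralizer (H13.zj 0 T : Set X)) :
    zc T ≤ centralizer (L : Set X) ∨ L ≤ normalizer (sF p T : Set X) := by
  refine or_iff_not_imp_left.2 fun h1 => n_iSup fun g hg K => ?_
  obtain ⟨R, h2, h3, h4⟩ : ∃ R, FM p T R ∧ R ≤ pCoreOf p L ∧ Ph K.1 ≤ Ph R := by
    by_cases h2 : K.1 ≤ pCoreOf p L
    · exact ⟨_, K.2, h2, le_rfl⟩
    · exact (h.nv_of_J hc hT hJ h1).fm_star hT (cl_self hJ) K.2 h2
  refine (cj_mono g h4).trans ?_
  rw [cj_Ph]
  exact le_iSup (fun H : {H // FM p T H} => Ph H.1) ⟨_, h2.1.cj_le h3 hT.pCoreOf_le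
    (self_le_normalizer_pCoreOf L hg), fun R' hR' => by rw [← cj_oz, card_cj]; exact h2.2 R' hR'⟩

theorem map_sM (T : Subgroup X) : (minimalCentrallyLargeJoin T).map T.subtype = sM T := by
  rw [minimalCentrallyLargeJoin, sSup_eq_iSup', Subgroup.map_iSup]
  refine le_antisymm (iSup_le fun H => le_iSup (fun H : {H // MCL T H} => H.1) ⟨_, mcl_iff.2 H.2⟩)
    (iSup_le fun ⟨H, hH⟩ => ?_)
  obtain ⟨H, rfl⟩ := exists_subtype hH.1.le
  exact le_iSup (fun H : {R : Subgroup T | IsMinimalCentrallyLarge R} => H.1.map T.subtype)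
    ⟨_, mcl_iff.1 hH⟩

theorem fm_iff {Q : Subgroup T} : FM p T (Q.map T.subtype) ↔ IsMinimalCentrallyLarge Q ∧
    Nat.card (omegaOneCenter p Q) = maxOmegaCenterOfMinimalCL p T := by
  have h1 : ∀ R : Subgroup T, Nat.card (oz p (R.map T.subtype)) = Nat.card (omegaOneCenter p R) :=
    fun R => by rw [← map_oz T.subtype_injective, card_map_of_injective T.subtype_injective]; rfl
  have h2 : {k : ℕ | ∃ Q : Subgroup T, IsMinimalCentrallyLarge Q ∧
      Nat.card (omegaOneCenter p Q) = k}.Finite := (Set.finite_range fun Q : Subgroup T =>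
        Nat.card (omegaOneCenter p Q)).subset fun _ ⟨Q, _, e⟩ => ⟨Q, e⟩
  rw [FM, mcl_iff]
  refine and_congr_right fun hQ => ⟨fun h => le_antisymm (le_csSup h2.bddAbove ⟨Q, hQ, rfl⟩)
    (csSup_le ⟨_, Q, hQ, rfl⟩ ?_), fun h R hR => ?_⟩
  · rintro _ ⟨R, hR, rfl⟩
    rw [← h1, ← h1]
    exact h _ (mcl_iff.2 hR)
  · obtain ⟨R, rfl⟩ := exists_subtype hR.1.le
    rw [h1, h1, h]
    exact le_csSup h2.bddAbove ⟨R, mcl_iff.1 hR, rfl⟩

theorem map_sF (T : Subgroup X) : (frattiniOfMinimalCLJoin p T).map T.subtype = sF p T := by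
  rw [frattiniOfMinimalCLJoin, Subgroup.map_iSup]
  refine le_antisymm (iSup_le fun H => (map_Ph T.subtype_injective H.1).le.trans
    (le_iSup (fun H : {H // FM p T H} => Ph H.1) ⟨_, fm_iff.2 H.2⟩)) (iSup_le fun ⟨H, hH⟩ => ?_)
  obtain ⟨H, rfl⟩ := exists_subtype hH.1.1.le
  exact (map_Ph T.subtype_injective H).ge.trans (le_iSup (fun Q : {Q : Subgroup T //
    IsMinimalCentrallyLarge Q ∧ Nat.card (omegaOneCenter p Q) = maxOmegaCenterOfMinimalCL p T} =>
      (Ph Q.1).map T.subtype) ⟨_, fm_iff.1 hH⟩)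

theorem exists_fm (p : ℕ) (T : Subgroup X) : ∃ H, FM p T H := by
  obtain ⟨H, hH⟩ := exists_cl T
  obtain ⟨H, hH, -⟩ := hH.exists_mcl
  obtain ⟨K, h1, h2⟩ := Set.exists_max_image {H | MCL T H} (fun H => Nat.card (oz p H))
    (Set.toFinite _) ⟨H, hH⟩
  exact ⟨K, h1, h2⟩

section Nat

variable {X' : Type u} [Group X'] [Finite X'] {f : X →* X'} (hf : Function.Injective f)
include hf

theorem cd_map_iff : CD (T.map f) (H.map f) ↔ CD T H :=
  ⟨fun h => ⟨(map_le_map_iff_of_injective hf).1 h.1, fun K hK => by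
    rw [← cm_map hf, ← cm_map hf]
    exact h.2 _ (map_mono hK)⟩, fun h => h.map hf⟩

theorem cl_map_iff : CL (T.map f) (H.map f) ↔ CL T H := by
  rw [CL, cd_map_iff hf, cz, ← map_inf_centralizer hf, map_le_map_iff_of_injective hf, CL]

theorem mcl_map_iff : MCL (T.map f) (H.map f) ↔ MCL T H := by
  refine and_congr (cl_map_iff hf) ⟨fun h K h1 h2 => map_injective hf (h _ (map_mono h1) (h2.map hf)),
    fun h K h1 h2 => ?_⟩
  obtain ⟨K, rfl⟩ := exists_map_eq h1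
  rw [h K ((map_le_map_iff_of_injective hf).1 h1) ((cl_map_iff hf).1 h2)]

theorem fm_map_iff : FM p (T.map f) (H.map f) ↔ FM p T H := by
  have h1 : ∀ R : Subgroup X, Nat.card (oz p (R.map f)) = Nat.card (oz p R) :=
    fun R => by rw [← map_oz hf, card_map_of_injective hf]
  refine and_congr (mcl_map_iff hf) ⟨fun h K h2 => ?_, fun h K h2 => ?_⟩
  · rw [← h1, ← h1]
    exact h _ ((mcl_map_iff hf).2 h2)
  · obtain ⟨K, rfl⟩ := exists_map_eq h2.1.le
    rw [h1, h1]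
    exact h _ ((mcl_map_iff hf).1 h2)

theorem sM_map (T : Subgroup X) : (sM T).map f = sM (T.map f) := by
  rw [sM, Subgroup.map_iSup]
  refine le_antisymm (iSup_le fun H => le_iSup (fun H : {H // MCL (T.map f) H} => H.1)
    ⟨_, (mcl_map_iff hf).2 H.2⟩) (iSup_le fun ⟨H, hH⟩ => ?_)
  obtain ⟨H, rfl⟩ := exists_map_eq hH.1.le
  exact le_iSup (fun H : {H // MCL T H} => H.1.map f) ⟨_, (mcl_map_iff hf).1 hH⟩

theorem sF_map (T : Subgroup X) : (sF p T).map f = sF p (T.map f) := by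
  rw [sF, Subgroup.map_iSup]
  refine le_antisymm (iSup_le fun H => (map_Ph hf H.1).le.trans (le_iSup
    (fun H : {H // FM p (T.map f) H} => Ph H.1) ⟨_, (fm_map_iff hf).2 H.2⟩)) (iSup_le fun ⟨H, hH⟩ => ?_)
  obtain ⟨H, rfl⟩ := exists_map_eq hH.1.1.le
  exact (map_Ph hf H).ge.trans (le_iSup (fun H : {H // FM p T H} => (Ph H.1).map f)
    ⟨_, (fm_map_iff hf).1 hH⟩)

end Nat

theorem cm_top (H : Subgroup X) : cm ⊤ H = H99.cdm H := by rw [cm, cz, top_inf_eq, H99.cdm]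

theorem cd_top : CD ⊤ H ↔ IsCentralizerLarge H := by
  refine ⟨fun h => H99.isCentralizerLarge_of_ge ?_, fun h => ⟨le_top, fun K _ => ?_⟩⟩
  · obtain ⟨R, hR⟩ := H99.exists_isCentralizerLarge (G := X)
    rw [← (H99.isCentralizerLarge_iff R).1 hR, ← cm_top, ← cm_top]
    exact h.2 _ le_top
  · rw [cm_top, cm_top, (H99.isCentralizerLarge_iff H).1 h]
    exact H99.cdm_le K

theorem cl_top : CL ⊤ H ↔ IsCentrallyLarge H := by
  rw [CL, cd_top, H99.isCentrallyLarge_iff, cz, top_inf_eq]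

theorem mcl_top : MCL ⊤ H ↔ IsMinimalCentrallyLarge H := by
  simp only [MCL, cl_top, IsMinimalCentrallyLarge]

theorem MCL.comm_char (h : MCL ⊤ H) : ⁅H, H⁆.Characteristic :=
  characteristic_iff_map_eq.2 fun φ => by
    have h1 := (mcl_map_iff (f := φ.toMonoidHom) φ.injective).2 h
    rw [map_top_of_surjective _ φ.surjective] at h1
    rw [Subgroup.map_commutator, h1.comm_eq h]

theorem r1_of_sit {S : Subgroup X} (h : IsPushingUpSituation p S) :
    ∃ q, R1 p q (⊤ : Subgroup X) ∧ CharP p (⊤ : Subgroup X) ∧ IsSyl p S ⊤ := by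
  obtain ⟨-, ⟨P, rfl⟩, h1, h2, K, _, F, _, _, n, h3, h4⟩ := h
  exact ⟨_, r1_of_quot P h2 K h3 h4, charP_top_iff.2 h1, isSyl_sylow P⟩

end H52
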