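import Cfsg.Agent.H52.NCTop

/-! A coset of a normal subgroup inside one conjugacy class. -/

set_option autoImplicit false

namespace H52.NC

open Subgroup Cfsg H98 H26.FP

universe u

variable {Γ : Type u} [Group Γ] [Finite Γ] {N X Y W Q : Subgroup Γ} {g x n : Γ}

omit [Finite Γ] in
theorem ncard_orb (Y : Subgroup Γ) (g : Γ) :
    {z | ∃ y ∈ Y, y * g * y⁻¹ * g⁻¹ = z}.ncard = (C1[g]).relIndex Y := by
  let _ : MulAction Y Γ := MulAction.compHom Γ (MulAut.conj.comp Y.subtype)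
  have e : MulAction.stabilizer Y g = (C1[g]).subgroupOf Y := by
    ext y
    rw [MulAction.mem_stabilizer_iff, mem_subgroupOf, mem_centralizer_singleton_iff]
    exact mul_inv_eq_iff_eq_mul
  rw [relIndex, ← e, MulAction.index_stabilizer,
    ← Set.ncard_image_of_injective (MulAction.orbit Y g) (mul_left_injective g⁻¹)]
  congr 1
  ext z
  exact ⟨fun ⟨y, hy, e⟩ => ⟨_, ⟨⟨y, hy⟩, rfl⟩, e⟩, fun ⟨_, ⟨y, rfl⟩, e⟩ => ⟨y, y.2, e⟩⟩

/-- the stabiliser of the coset `N g` -/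
def cst (N : Subgroup Γ) [N.Normal] (g : Γ) : Subgroup Γ :=
  (C1[(g : Γ ⧸ N)]).comap (QuotientGroup.mk' N)

variable [N.Normal]

omit [Finite Γ] in
theorem mem_cst : x ∈ cst N g ↔ x * g * x⁻¹ * g⁻¹ ∈ N := by
  rw [cst, mem_comap, mem_centralizer_singleton_iff, ← QuotientGroup.eq_one_iff, ← mul_inv_eq_one,
    mul_inv_rev, ← mul_assoc]
  rfl

omit [Finite Γ] in
theorem le_cst : N ≤ cst N g := fun x hx => mem_cst.2 (by
  simpa only [mul_assoc] using mul_mem hx (Normal.conj_mem inferInstance _ (inv_mem hx) g))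

omit [Finite Γ] in
theorem self_mem_cst : g ∈ cst N g := mem_cst.2 (by simp)

omit [Finite Γ] in
theorem cst_mul (hn : n ∈ N) : cst N (n * g) = cst N g := by
  rw [cst, QuotientGroup.mk_mul, (QuotientGroup.eq_one_iff n).2 hn, one_mul, cst]

/-- the coset `N g` lies in the class of `g` -/
def Co (N : Subgroup Γ) (g : Γ) : Prop := ∀ n ∈ N, IsConj g (n * g)

omit [Finite Γ] [N.Normal] in
theorem Co.mul (h : Co N g) (hn : n ∈ N) : Co N (n * g) := fun m hm =>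
  (h n hn).symm.trans (mul_assoc m n g ▸ h _ (mul_mem hm hn))

/-- a supplement that contains `g` is transitive on its part of the coset, and it contains the
centraliser of `g` -/
theorem Co.supp (h : Co N g) (h1 : Y ≤ cst N g) (h2 : cst N g ≤ N ⊔ Y) (hg : g ∈ Y) :
    C1[g] ≤ Y ∧ ∀ n ∈ N ⊓ Y, ∃ y ∈ Y, y * g * y⁻¹ * g⁻¹ = n := by
  have c0 : C1[g] ≤ cst N g := fun x hx => mem_cst.2 (by
    rw [mem_centralizer_singleton_iff.1 hx]; simp)
  have e0 : (C1[g]).relIndex (cst N g) = Nat.card N := by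
    rw [← ncard_orb, ← SetLike.coe_sort_coe, Nat.card_coe_set_eq]
    congr 1
    refine Set.ext fun z => ⟨fun ⟨y, hy, e⟩ => e ▸ mem_cst.1 hy, fun hz => ?_⟩
    obtain ⟨c, e⟩ := isConj_iff.1 (h z hz)
    have : c * g * c⁻¹ * g⁻¹ = z := by rw [e, mul_inv_cancel_right]
    exact ⟨c, mem_cst.2 (this ▸ hz), this⟩
  have e1 : N.relIndex Y = N.relIndex (cst N g) := by
    rw [le_antisymm h2 (sup_le le_cst h1), relIndex_sup_left]
  have e2 := H12.card_inf_mul_relIndex C1[g] (cst N g)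
  have e3 := H12.card_inf_mul_relIndex N (cst N g)
  have e4 := H12.card_inf_mul_relIndex C1[g] Y
  have e5 := H12.card_inf_mul_relIndex N Y
  rw [inf_eq_left.2 c0, e0, ← e3, inf_eq_left.2 le_cst, mul_comm] at e2
  replace e2 := Nat.eq_of_mul_eq_mul_left Nat.card_pos e2
  rw [e1, ← e2, ← e4, mul_comm] at e5
  have s : {z | ∃ y ∈ Y, y * g * y⁻¹ * g⁻¹ = z} ⊆ (N ⊓ Y : Subgroup Γ) := by
    rintro _ ⟨y, hy, rfl⟩
    exact mem_inf.2 ⟨mem_cst.1 (h1 hy), mul_mem (mul_mem (mul_mem hy hg) (inv_mem hy)) (inv_mem hg)⟩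
  have l1 := Set.ncard_le_ncard s
  rw [ncard_orb, ← Nat.card_coe_set_eq, SetLike.coe_sort_coe] at l1
  have l2 := card_le_of_le (inf_le_left : C1[g] ⊓ Y ≤ C1[g])
  have p1 : 0 < Nat.card (N ⊓ Y : Subgroup Γ) := Nat.card_pos
  have p2 : 0 < Nat.card C1[g] := Nat.card_pos
  refine ⟨inf_eq_left.1 (eq_of_le_of_card_ge inf_le_left (by nlinarith)),
    fun n hn => (Set.eq_of_subset_of_ncard_le s ?_).ge hn⟩
  rw [ncard_orb, ← Nat.card_coe_set_eq, SetLike.coe_sort_coe]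
  nlinarith

theorem Co.mem (h : Co N g) (h1 : Y ≤ cst N g) (h2 : cst N g ≤ N ⊔ Y) (hg : g ∈ Y)
    (hx : x ∈ cst N g) (hx' : x * g * x⁻¹ ∈ Y) : x ∈ Y := by
  obtain ⟨k1, k2⟩ := h.supp h1 h2 hg
  obtain ⟨y, hy, e⟩ := k2 _ (mem_inf.2 ⟨mem_cst.1 hx, mul_mem hx' (inv_mem hg)⟩)
  refine (mul_mem_cancel_left (inv_mem hy)).1 (k1 (mem_centralizer_singleton_iff.2
    (mul_inv_eq_iff_eq_mul.1 ?_)))
  rw [show y⁻¹ * x * g * (y⁻¹ * x)⁻¹ = y⁻¹ * (x * g * x⁻¹) * y by group, ← mul_right_cancel e]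
  group

theorem Co.op2 (h : Co N g) : Op2 N (cst N g) := by
  refine ⟨le_normalizer_of_normal, fun Y X h1 h2 h3 h4 => ?_⟩
  rw [sup_eq_right.2 le_cst] at h1
  obtain ⟨n, hn, x, hx, e⟩ := (mem_sup_right_norm le_normalizer_of_normal).1 (h3 self_mem_cst)
  have e1 : x = n⁻¹ * g := by rw [e, inv_mul_cancel_left]
  obtain ⟨y, hy, hy'⟩ := SetLike.not_le_iff_exists.1 fun k : Y ≤ X => by
    rw [relIndex_eq_one.2 k] at h4; omega
  obtain ⟨m, hm, x', hx', rfl⟩ := (mem_sup_right_norm le_normalizer_of_normal).1 (h3 (h1 hy))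
  have k := h.mul (inv_mem hn)
  rw [← cst_mul (inv_mem hn), ← e1] at h1 h3
  rw [← e1] at k
  obtain ⟨y, y1, e2⟩ := (k.supp h1 (h3.trans (sup_le_sup_left h2 N)) (h2 hx)).2 m
    ⟨hm, (mul_mem_cancel_right (h2 hx')).1 hy⟩
  have t : ∀ a ∈ Y, ∀ b ∈ Y, a * b ∈ X ↔ (a ∈ X ↔ b ∈ X) := fun a ha b hb =>
    mul_mem_iff_of_index_two (H := X.subgroupOf Y) h4 (a := ⟨a, ha⟩) (b := ⟨b, hb⟩)
  refine hy' (mul_mem (e2 ▸ mul_mem ((t _ (mul_mem y1 (h2 hx)) _ (inv_mem y1)).2 ?_) (inv_mem hx)) hx')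
  rw [mul_mem_cancel_right hx, inv_mem_iff]

theorem Co.solvable (h : Co N g) : Group.IsSolvable N := thm h.op2

/-- for a `p`-element `g` a Hall `p'`-subgroup of `N` is normal -/
theorem Co.hall {p k : ℕ} (hp : p.Prime) (h : Co N g) (hg : g ^ p ^ k = 1)
    (hQ : IsPiHallOf {p}ᶜ Q N) : Q.Normal := by
  have := Fact.mk hp
  have := h.solvable
  have fr : ∀ a : Γ, ∃ n ∈ N, n * a ∈ N[Q] := fun a => by
    obtain ⟨x, hx, e⟩ := H4.isPiHallOf_conj (π := {p}ᶜ) (M := N) (H := cj a Q)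
      ⟨cj_le_of_le hQ.1 (le_normalizer_of_normal (mem_top a)), by rw [card_cj]; exact hQ.2.1, by
        rw [← cj_eq_self_of_normal a N, relIndex_map_map_of_injective _ _ (MulAut.conj a).injective]
        exact hQ.2.2⟩ hQ
    exact ⟨x, hx, cj_eq_self_iff.1 (by rwa [← cj_cj, cj_eq_smul])⟩
  suffices k : N ≤ N[Q] from normal_of_top_le_normalizer fun a _ =>
    let ⟨n, hn, e⟩ := fr a; (mul_mem_cancel_left (k hn)).1 e
  obtain ⟨n, hn, e⟩ := fr g
  have h' := h.mul hn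
  have hg' : (n * g) ^ p ^ k = 1 := by
    obtain ⟨c, e⟩ := isConj_iff.1 (h n hn)
    rw [← e, conj_pow, hg, mul_one, mul_inv_cancel]
  generalize n * g = g at e h' hg'
  obtain ⟨W, hW, l⟩ := exists_isSyl_le (isPGroup_zpowers hg') (zpowers_le.2 (self_mem_cst (N := N)))
  have k : W ≤ N[Q] := by
    by_contra k
    obtain ⟨x, hx, hx'⟩ := SetLike.exists_of_lt (lt_inf_normalizer (Q := W ⊓ N[Q]) hW.isPGroup
      (inf_le_left.lt_of_ne fun e => k (e.ge.trans inf_le_right)))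
    have m := conj_mem_of_mem_normalizer hx.2 ⟨l (mem_zpowers g), e⟩
    refine hx' ⟨hx.1, (h'.mem (Y := cst N g ⊓ N[Q]) inf_le_left (fun a ha => ?_) ⟨self_mem_cst, e⟩
      (hW.le hx.1) ⟨hW.le m.1, m.2⟩).2⟩
    obtain ⟨n, hn, e⟩ := fr a
    exact (mul_mem_cancel_left (mem_sup_left hn)).1 (mem_sup_right ⟨mul_mem (le_cst hn) ha, e⟩)
  have s := hW.inf_of_le_normalizer le_cst le_normalizer_of_normal
  intro a ha
  obtain ⟨x, hx, y, hy, rfl⟩ := H4.exists_mul_of_coprime_relIndex (A := Q) (B := W ⊓ N)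
    (Nat.coprime_of_dvd fun r hr k k' => by
      by_cases e : r = p
      · exact s.not_dvd_relIndex (e ▸ k')
      · exact hQ.2.2 r hr e k) ha
  exact mul_mem (le_normalizer hx.1) (k hy.1.1)

end H52.NC
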