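import Cfsg.Agent.H52.NCXq
import Cfsg.Agent.H32.SHKit
import Cfsg.Agent.H24.WalRank

/-! No strongly closed elementary abelian subgroup in a product of simple groups with operators. -/

set_option autoImplicit false

namespace H52.NC

open Subgroup Cfsg H98 H26.FP
open scoped commutatorElement

variable {Γ : Type*} [Group Γ] [Finite Γ] {G A S T U V W H K : Subgroup Γ} {t x y g : Γ}

/-- Frattini argument for Hall subgroups -/
theorem Op2.hall {π : Set ℕ} (h : Op2 G A) (hH : H ≤ G) (hn : A ≤ N[H]) (hs : Group.IsSolvable H)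
    (hK : IsPiHallOf π K H) : Op2 G (N[K] ⊓ (H ⊔ A)) :=
  h.gl hH fun a ha => by
    obtain ⟨x, hx, e⟩ := H4.isPiHallOf_conj (π := π) (M := H) (H := cj a K)
      ⟨cj_le_of_le hK.1 (hn ha), by rw [card_cj]; exact hK.2.1, by
        rw [← cj_eq_self (hn ha), relIndex_map_map_of_injective _ _ (MulAut.conj a).injective]
        exact hK.2.2⟩ hK
    exact ⟨x, hx, cj_eq_self_iff.1 (by rwa [← cj_cj, cj_eq_smul])⟩

/-- Z* in a simple subgroup -/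
theorem amb_zstar (hs : IsSimpleGroup T) (na : ¬ IsMulCommutative T) (hU : IsSyl 2 U T)
    (ht : t ∈ U) (h2 : t * t = 1) (h1 : t ≠ 1) : ∃ g ∈ T, g * t * g⁻¹ ∈ U ∧ g * t * g⁻¹ ≠ t := by
  by_contra e
  push Not at e
  obtain ⟨P, hP⟩ := hU.exists_sylow
  have z2 : orderOf (⟨t, hU.le ht⟩ : T) = 2 :=
    H32.SH.order_two (Subtype.ext h2) fun e => h1 (congrArg Subtype.val e)
  obtain ⟨N, hN, k1, k2⟩ := Cfsg.Agent.S0215.result P _ z2 (show _ ∈ (P : Subgroup T) from hP ▸ ht)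
    fun g hg => Subtype.ext (e g g.2 (by
      have : _ ∈ (P : Subgroup T) := hg
      rwa [hP] at this))
  rw [le_bot_iff.1 ((H2.le_oddCore k1).trans (H84.oddCore_eq_bot_of_simple z2).le)] at k2
  refine H87.centralizer_ne_top na (⟨t, hU.le ht⟩ : T) (fun e => h1 (congrArg Subtype.val e))
    (eq_top_iff.2 fun g _ => ?_)
  exact mem_centralizer_singleton_iff.2 (commutatorElement_eq_one_iff_mul_comm.1 (k2 g)).symm

/-- Goldschmidt in a simple subgroup: the normaliser of `U` is transitive on its involutions -/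
theorem amb_one (hs : IsSimpleGroup T) (na : ¬ IsMulCommutative T) (hU : IsSyl 2 U T) (hV : V ≤ U)
    (h1 : V ≠ ⊥) (ab : V ≤ C[V]) (sc : ∀ v ∈ V, ∀ g ∈ T, g * v * g⁻¹ ∈ U → g * v * g⁻¹ ∈ V)
    (hx : x ∈ U) (hy : y ∈ U) (x2 : x * x = 1) (y2 : y * y = 1) (x1 : x ≠ 1) (y1 : y ≠ 1) :
    ∃ n ∈ T ⊓ N[U], n * x * n⁻¹ = y := by
  obtain ⟨n, hn, e⟩ := H32.SH.one_class (A := V.subgroupOf T) na hU.subgroupOf_top
    ⟨fun _ k => hV k, fun v hv g hg => sc v hv g g.2 hg⟩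
    (fun a ha b hb => Subtype.ext (ab hb a ha))
    (fun e => h1 ((H14.subgroupOf_eq_bot_iff_of_le (hV.trans hU.le)).1 e))
    (x := ⟨x, hU.le hx⟩) (y := ⟨y, hU.le hy⟩) hx hy (Subtype.ext x2) (Subtype.ext y2)
    (fun e => x1 (congrArg Subtype.val e)) fun e => y1 (congrArg Subtype.val e)
  refine ⟨n, ⟨n.2, ?_⟩, congrArg Subtype.val e⟩
  have := le_normalizer_map T.subtype (mem_map_of_mem _ hn)
  rwa [map_subgroupOf_eq_of_le hU.le] at this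

/-- `T` is a simple direct factor of `G` -/
structure Df (G T : Subgroup Γ) : Prop where
  le : T ≤ G
  simple : IsSimpleGroup T
  na : ¬ IsMulCommutative T
  sup : G ≤ T ⊔ G ⊓ C[T]

namespace Df

variable (d : Df G T)
include d

omit [Finite Γ] in
theorem eq_one (ht : t ∈ T) (hc : t ∈ C[T]) : t = 1 := by
  have := d.simple
  by_contra e
  refine H87.centralizer_ne_top d.na (⟨t, ht⟩ : T) (fun k => e (congrArg Subtype.val k))
    (eq_top_iff.2 fun g _ => mem_centralizer_singleton_iff.2 (Subtype.ext (hc g g.2)))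

omit [Finite Γ] in
theorem nor : G ≤ N[T] :=
  d.sup.trans (sup_le le_normalizer (le_normalizer_of_le_centralizer inf_le_right))

omit [Finite Γ] in
theorem dec (hg : g ∈ G) : ∃ t ∈ T, ∃ c ∈ C[T], g = t * c := by
  obtain ⟨t, ht, c, hc, e⟩ := (mem_sup_right_norm
    (le_normalizer_of_le_centralizer inf_le_right)).1 (d.sup hg)
  exact ⟨t, ht, c, hc.2, e⟩

omit [Finite Γ] in
theorem pow_eq {c : Γ} {n : ℕ} (ht : t ∈ T) (hc : c ∈ C[T]) (e : (t * c) ^ n = 1) : t ^ n = 1 := by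
  rw [Commute.mul_pow (hc t ht), mul_eq_one_iff_eq_inv] at e
  exact d.eq_one (pow_mem ht n) (e ▸ inv_mem (pow_mem hc n))

theorem syl (hS : IsSyl 2 S G) : IsSyl 2 (S ⊓ T) T :=
  hS.inf_of_le_normalizer d.le (hS.le.trans d.nor)

theorem decS (hS : IsSyl 2 S G) (hg : g ∈ S) : ∃ t ∈ S ⊓ T, ∃ c ∈ S ⊓ C[T], g = t * c := by
  obtain ⟨t, ht, c, hc, rfl⟩ := d.dec (hS.le hg)
  obtain ⟨k, hk⟩ := isPGroup_iff_forall.1 hS.isPGroup _ hg
  have h1 : t ∈ S ⊓ T := zpowers_le.1 ((d.syl hS).le_of_le_normalizer'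
    (isPGroup_zpowers (d.pow_eq ht hc hk)) (zpowers_le.2 ht) (zpowers_le.2
      ((mul_mem_cancel_right (centralizer_le_normalizer _ (centralizer_anti inf_le_right hc))).1
        (le_normalizer_inf le_normalizer (hS.le.trans d.nor) hg))))
  exact ⟨t, h1, c, ⟨(S.mul_mem_cancel_left h1.1).1 hg, hc⟩, rfl⟩

theorem nS (hS : IsSyl 2 S G) : T ⊓ N[(S ⊓ T : Subgroup Γ)] ≤ N[S] := fun n hn =>
  mem_normalizer_fintype fun s hs => by
    obtain ⟨t, ht, c, hc, rfl⟩ := d.decS hS hs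
    rw [← conj_mul, hc.2 n hn.1, mul_inv_cancel_right]
    exact S.mul_mem (conj_mem_of_mem_normalizer hn.2 ht).1 hc.1

theorem dec2 (hS : IsSyl 2 S G) (hx : x ∈ S) (x2 : x * x = 1) (x1 : x ∉ C[T]) :
    ∃ t ∈ S ⊓ T, ∃ c ∈ C[T], x = t * c ∧ t * t = 1 ∧ t ≠ 1 := by
  obtain ⟨t, ht, c, hc, rfl⟩ := d.decS hS hx
  exact ⟨t, ht, c, hc.2, rfl, by rw [← sq]; exact d.pow_eq ht.2 hc.2 (by rwa [sq]),
    fun e => x1 (by rw [e, one_mul]; exact hc.2)⟩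

theorem one (hS : IsSyl 2 S G) (hW : W ≤ S) (he : IsElementaryAbelian 2 W)
    (sc : ∀ w ∈ W, ∀ g ∈ G, g * w * g⁻¹ ∈ S → g * w * g⁻¹ ∈ W) (hn : ¬ W ≤ C[T])
    (hx : x ∈ S ⊓ T) (hy : y ∈ S ⊓ T) (x2 : x * x = 1) (y2 : y * y = 1) (x1 : x ≠ 1) (y1 : y ≠ 1) :
    ∃ n ∈ T ⊓ N[S], n * x * n⁻¹ = y := by
  obtain ⟨w, hw, hw'⟩ := SetLike.not_le_iff_exists.1 hn
  obtain ⟨t, ht, c, hc, rfl, t2, t1⟩ := d.dec2 hS (hW hw) (by rw [← sq]; exact he.2 _ hw) hw'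
  obtain ⟨g, hg, g1, g2⟩ := amb_zstar d.simple d.na (d.syl hS) ht t2 t1
  have e : g * (t * c) * g⁻¹ = g * t * g⁻¹ * c := by
    rw [← conj_mul, hc g hg, mul_inv_cancel_right]
  have k := sc _ hw g (d.le hg) (e ▸ S.mul_mem g1.1 ((S.mul_mem_cancel_left ht.1).1 (hW hw)))
  obtain ⟨n, hn, e'⟩ := amb_one d.simple d.na (d.syl hS) (V := W ⊓ T) (inf_le_inf_right _ hW)
    (fun b => g2 (mul_inv_eq_one.1 (mem_bot.1 (b.le (mem_inf.2 ⟨by
      simpa only [e, mul_inv_rev, mul_assoc, mul_inv_cancel_left] using mul_mem k (inv_mem hw),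
      mul_mem g1.2 (inv_mem (mem_inf.1 ht).2)⟩)))))
    (inf_le_left.trans ((H12.ea_le_centralizer he).trans (centralizer_anti inf_le_left)))
    (fun v hv g hg k => ⟨sc v hv.1 g (d.le hg) k.1, k.2⟩) hx hy x2 y2 x1 y1
  exact ⟨n, ⟨hn.1, d.nS hS hn⟩, e'⟩

end Df

/-- **End** -/
theorem Op2.fin {𝒯 : Set (Subgroup Γ)} (h : Op2 G A) (hS : IsSyl 2 S G) (nS : A ≤ N[S])
    (sol : Group.IsSolvable (G ⊓ N[S] : Subgroup Γ)) (z : G ⊓ C[(sSup 𝒯 : Subgroup Γ)] = ⊥)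
    (ne : 𝒯.Nonempty) (df : ∀ T ∈ 𝒯, Df G T) (cm : ∀ T ∈ 𝒯, ∀ T' ∈ 𝒯, T' ≠ T → T ≤ C[T'])
    (iv : ∀ a ∈ A, ∀ T ∈ 𝒯, cj a T ∈ 𝒯)
    (one : ∀ T ∈ 𝒯, ∀ x ∈ S ⊓ T, ∀ y ∈ S ⊓ T, x * x = 1 → y * y = 1 → x ≠ 1 → y ≠ 1 →
      ∃ n ∈ T ⊓ N[S], n * x * n⁻¹ = y) : False := by
  obtain ⟨K, hK⟩ := H4.exists_isPiHallOf {2}ᶜ (G ⊓ N[S])
  have nB : A ≤ N[(G ⊓ N[S] : Subgroup Γ)] :=
    le_normalizer_inf h.nor (le_normalizer_normalizer nS)
  have sB := hS.of_le (le_inf hS.le le_normalizer) inf_le_left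
  have cop : (K.relIndex (G ⊓ N[S])).Coprime (S.relIndex (G ⊓ N[S])) :=
    Nat.coprime_of_dvd fun p hp k k' => by
      by_cases e : p = 2
      · exact sB.not_dvd_relIndex (e ▸ k')
      · exact hK.2.2 p hp e k
  have KG := hK.1.trans inf_le_left
  have sq : ∀ g x : Γ, x * x = 1 → g * x * g⁻¹ * (g * x * g⁻¹) = 1 := fun g x e => by
    rw [conj_mul, e, mul_one, mul_inv_cancel]
  have cc : ∀ {T : Subgroup Γ} {n t c : Γ}, n ∈ T → c ∈ C[T] →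
      n * (t * c) * n⁻¹ = n * t * n⁻¹ * c := fun hn hc => by
    rw [← conj_mul, hc _ hn, mul_inv_cancel_right]
  refine (h.hall inf_le_left nB sol hK).tuple (Y := oz 2 S) (𝒞 := (fun T => C[T]) '' 𝒯) KG inf_le_left
    ((oz_le S).trans hS.le) (H12.ea_le_centralizer (ea_oz S))
    (le_normalizer_oz (hK.1.trans inf_le_right))
    (le_normalizer_oz (inf_le_right.trans (sup_le inf_le_right nS)))
    (disjoint_of_coprime_natCard (H1.coprime_card_of_isPGroup (isPGroup_oz S)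
      (Nat.prime_two.coprime_iff_not_dvd.2 fun k => hK.2.1 2 Nat.prime_two k rfl).symm)).eq_bot
    ?_ ?_ ?_ ?_ ?_ ?_
  · rintro b hb _ ⟨T, hT, rfl⟩
    obtain ⟨g, hg, a, ha, rfl⟩ := (mem_sup_right_norm nB).1 hb.2
    refine ⟨_, iv a ha T hT, ?_⟩
    rw [cj_centralizer, ← cj_cj, cj_eq_self ((df _ (iv a ha T hT)).nor hg.1)]
  · rintro _ ⟨T, hT, rfl⟩
    exact le_normalizer_centralizer (KG.trans (df T hT).nor)
  · exact fun y hy e => mem_bot.1 (z.le ⟨hS.le (oz_le S hy), zpowers_le.1 (le_centralizer_iff.1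
      (sSup_le fun T hT => le_centralizer_iff.1 (zpowers_le.2 (e _ ⟨T, hT, rfl⟩))))⟩)
  · rintro _ ⟨T, hT, rfl⟩
    have d := df T hT
    have := d.simple
    obtain ⟨⟨e, he⟩, e1⟩ := ne_bot_iff_exists_ne_one.1 (oz_ne_bot (d.syl hS).isPGroup
      (mt (d.syl hS).eq_bot_iff.1 (not_not.2 (H24.even_card_of_nonabelian d.na).two_dvd)))
    obtain ⟨e2, e3, e4⟩ := mem_oz.1 he
    refine ⟨e, mem_oz.2 ⟨e2.1, fun s hs => ?_, e4⟩, by rwa [← pow_two],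
      fun k => e1 (Subtype.ext (d.eq_one e2.2 k)), ?_⟩
    · obtain ⟨t, ht, c, hc, rfl⟩ := d.decS hS hs
      rw [mul_assoc, ← hc.2 e e2.2, ← mul_assoc, e3 t ht, mul_assoc]
    · rintro _ ⟨T', hT', rfl⟩ k
      exact cm T hT T' hT' (fun b => k (by rw [b])) e2.2
  · rintro _ ⟨T, hT, rfl⟩ x hx y hy x2 y2 x1 y1
    have d := df T hT
    obtain ⟨t, ht, c, hc, e, t2, t1⟩ := d.dec2 hS (oz_le S hx) x2 x1
    obtain ⟨t', ht', c', hc', rfl, t2', t1'⟩ := d.dec2 hS (oz_le S hy) y2 y1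
    obtain ⟨n, hn, e'⟩ := one T hT t ht t' ht' t2 t2' t1 t1'
    obtain ⟨k, hk, s, hs, rfl⟩ := H4.exists_mul_of_coprime_relIndex cop ⟨d.le hn.1, hn.2⟩
    have e1 : k * x * k⁻¹ = t' * c := by
      rw [← e', ← cc hn.1 hc, ← e, mul_assoc k s, oz_le_centralizer S hx s hs.1]
      group
    refine ⟨k, hk.1, ?_, ?_⟩
    · simpa only [e1, mul_inv_rev, mul_assoc, inv_mul_cancel_left] using mul_mem (inv_mem hc) hc'
    · rintro _ ⟨T', hT', rfl⟩ b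
      have m : t⁻¹ * t' ∈ T := T.mul_mem (T.inv_mem ht.2) ht'.2
      rw [e1, e, mul_inv_rev, mul_assoc, ← mul_assoc t⁻¹, hc _ m, inv_mul_cancel_left]
      exact cm T hT T' hT' (fun b' => b (by rw [b'])) m
  · obtain ⟨T, hT⟩ := ne
    have d := df T hT
    refine ⟨_, ⟨T, hT, rfl⟩, fun x hx x2 x1 => ?_⟩
    obtain ⟨t, ht, c, hc, rfl, t2, t1⟩ := d.dec2 hS (oz_le S hx) x2 x1
    obtain ⟨g, -, g1, g2⟩ := amb_zstar d.simple d.na (d.syl hS) ht t2 t1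
    have g3 : g * t * g⁻¹ ≠ 1 := by simpa using t1
    obtain ⟨n, hn, e⟩ := one T hT t ht _ g1 t2 (sq g t t2) t1 g3
    refine ⟨n * (t * c) * n⁻¹, conj_mem_of_mem_normalizer (le_normalizer_oz le_rfl hn.2) hx,
      sq n _ x2, fun k => g3 (d.eq_one g1.2 ?_), fun k => g2 ?_⟩
    · rwa [cc hn.1 hc, e, mul_mem_cancel_right hc] at k
    · have m : t⁻¹ * (g * t * g⁻¹) ∈ T := T.mul_mem (T.inv_mem ht.2) g1.2
      rw [cc hn.1 hc, e, mul_inv_rev, mul_assoc, ← mul_assoc t⁻¹, hc _ m, inv_mul_cancel_left] at k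
      exact (inv_mul_eq_one.1 (d.eq_one m k)).symm

end H52.NC
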