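import Cfsg.Agent.H74.O8Kit
import Cfsg.Agent.H12.Linearize

/-! Tower O8: job PL. -/

set_option autoImplicit false
set_option linter.unusedSectionVars false

namespace H52.O8PL

open Cfsg Subgroup H98 H74.OC H74.O8
open scoped commutatorElement

universe u

abbrev V : Type := ZMod 2 × ZMod 2 × ZMod 2

def lin (c0 c1 c2 v : V) : V := v.1 • c0 + v.2.1 • c1 + v.2.2 • c2

def stp (θ : V → V) (p : V × V) : V × V := (p.1 + θ (p.1 + p.2), p.1 + p.2)

def chk (θ : V → V) (k : ℕ) (b : V) : Bool := decide ((stp θ)^[k + 1] (0, b) = (0, b))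

def inj (θ : V → V) : Bool := decide (∀ v, θ v = 0 → v = 0)

theorem fin_check : ∀ c0 c1 c2 : V, inj (lin c0 c1 c2) = true → ∀ k < 8,
    (chk (lin c0 c1 c2) k (1, 0, 0) && chk (lin c0 c1 c2) k (0, 1, 0) &&
      chk (lin c0 c1 c2) k (0, 0, 1)) = true → c0.1 + c1.2.1 + c2.2.2 = 1 := by
  decide +kernel

theorem eq_lin {θ : V → V} (h : ∀ a b, θ (a + b) = θ a + θ b) :
    θ = lin (θ (1, 0, 0)) (θ (0, 1, 0)) (θ (0, 0, 1)) := by
  have h0 : θ 0 = 0 := by simpa using h 0 0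
  have h1 : ∀ (s : ZMod 2) v, θ (s • v) = s • θ v := fun s v => by
    obtain rfl | rfl : s = 0 ∨ s = 1 := by revert s; decide
    · simp [h0]
    · simp
  funext v
  rw [lin, ← h1, ← h1, ← h1, ← h, ← h]
  congr 1
  ext <;> simp

/-- The trace. -/
def tr (θ : V → V) : ZMod 2 := (θ (1, 0, 0)).1 + (θ (0, 1, 0)).2.1 + (θ (0, 0, 1)).2.2

theorem tr_eq {θ : V → V} (h : ∀ a b, θ (a + b) = θ a + θ b) (hi : ∀ v, θ v = 0 → v = 0) {k : ℕ}
    (h1 : 0 < k) (h8 : k ≤ 8) (hk : ∀ p, (stp θ)^[k] p = p) : tr θ = 1 := by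
  obtain ⟨k, rfl⟩ : ∃ j, k = j + 1 := ⟨k - 1, by omega⟩
  refine fin_check _ _ _ ?_ k (by omega) ?_ <;> rw [← eq_lin h]
  · exact decide_eq_true hi
  · simp [chk, -Function.iterate_succ, hk]

variable {G : Type u} [Group G] [Finite G]

theorem exists_i {U : Subgroup G} (hU : IsElementaryAbelian 2 U) (hc : Nat.card U = 8) :
    ∃ i : V → G, (∀ a b, i (a + b) = i a * i b) ∧ Function.Injective i ∧ (∀ a, i a ∈ U) ∧
      ∀ u ∈ U, ∃ a, i a = u := by
  have := Fact.mk Nat.prime_two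
  obtain ⟨e⟩ := H12.ea_nonempty_mulEquiv_fun hU (n := 3) hc
  refine ⟨fun v => e.symm (Multiplicative.ofAdd ![v.1, v.2.1, v.2.2]), fun a b => ?_,
    fun a b h => ?_, fun a => SetLike.coe_mem _, fun u hu => ?_⟩
  · rw [← coe_mul, ← map_mul, ← ofAdd_add]
    refine congrArg (fun w => ((e.symm (Multiplicative.ofAdd w) : U) : G)) ?_
    funext j
    fin_cases j <;> rfl
  · have := Multiplicative.ofAdd.injective (e.symm.injective (Subtype.ext h))
    exact Prod.ext (congrFun this 0) (Prod.ext (congrFun this 1) (congrFun this 2))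
  · let w := (e ⟨u, hu⟩).toAdd
    refine ⟨(w 0, w 1, w 2), ?_⟩
    have : (![w 0, w 1, w 2] : Fin 3 → ZMod 2) = w := by
      funext j
      fin_cases j <;> rfl
    simp only [this]
    simp [w]

theorem jobPL : JobPL.{u} := by
  intro G _ _ U U' Q Q' h hU hU' c8 _ hd hc qU qU' b1 b2 f1 f2 hn
  obtain ⟨r, hr, hr'⟩ := SetLike.not_le_iff_exists.1 hn
  obtain ⟨i, im, ii, iU, is⟩ := exists_i hU c8
  have i0 : i 0 = 1 := by simpa using im 0 0
  obtain ⟨j, hj⟩ : ∃ j : V → G, ∀ a, r * i a * r⁻¹ = i a * j a := ⟨fun a => (i a)⁻¹ * (r * i a * r⁻¹),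
    fun a => by group⟩
  have jU : ∀ a, j a ∈ U' := fun a => by
    have := b2 (commutator_mem_commutator (inv_mem (iU a)) hr)
    rwa [commutatorElement_def, inv_inv, mul_assoc, mul_assoc, ← mul_assoc r, hj,
      inv_mul_cancel_left] at this
  have ij : ∀ a b, j a * i b = i b * j a := fun a b => hc (iU b) _ (jU a)
  have jm : ∀ a b, j (a + b) = j a * j b := fun a b => by
    have := hj (a + b)
    rw [im, ← conj_mul, hj, hj, mul_assoc, ← mul_assoc (j a), ij, mul_assoc, mul_assoc,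
      mul_right_inj, mul_right_inj] at this
    exact this.symm
  have j1 : ∀ a, j a = 1 → a = 0 := fun a e => by
    by_contra c
    refine hr' (f2 r hr (i a) (iU a) (fun d => c (ii (d.trans i0.symm))) ?_)
    rw [← mul_inv_eq_iff_eq_mul, hj, e, mul_one]
  have ex : ∀ q : G, ∃ θ : V → V, q ∈ Q → ∀ b, q * j b * q⁻¹ = i (θ b) * j b := fun q => by
    by_cases hq : q ∈ Q
    · have : ∀ b, ∃ a, i a = q * j b * q⁻¹ * (j b)⁻¹ := fun b => is _ (by
        have := inv_mem (b1 (commutator_mem_commutator (jU b) hq))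
        rwa [commutatorElement_inv] at this)
      choose θ hθ using this
      exact ⟨θ, fun _ b => by rw [hθ, inv_mul_cancel_right]⟩
    · exact ⟨id, fun a => absurd a hq⟩
  choose θ hθ using ex
  have qi : ∀ q ∈ Q, ∀ a, q * i a * q⁻¹ = i a := fun q hq a => by
    rw [← qU hq _ (iU a), mul_inv_cancel_right]
  have rj : ∀ a, r * j a * r⁻¹ = j a := fun a => by rw [← qU' hr _ (jU a), mul_inv_cancel_right]
  have add1 : ∀ q ∈ Q, ∀ a b, θ q (a + b) = θ q a + θ q b := fun q hq a b => ii (by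
    have := hθ q hq (a + b)
    rw [jm, ← conj_mul, hθ q hq, hθ q hq, mul_assoc, ← mul_assoc (j a), ij, mul_assoc, ← mul_assoc,
      mul_left_inj] at this
    rw [im, this])
  have add2 : ∀ p ∈ Q, ∀ q ∈ Q, ∀ a, θ (p * q) a = θ q a + θ p a := fun p hp q hq a => ii (by
    have := hθ _ (mul_mem hp hq) a
    rw [show p * q * j a * (p * q)⁻¹ = p * (q * j a * q⁻¹) * p⁻¹ by group, hθ q hq, ← conj_mul,
      qi p hp, hθ p hp, ← mul_assoc, mul_left_inj] at this
    rw [im, this])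
  have pi : ∀ p p' : V × V, i p.1 * j p.2 = i p'.1 * j p'.2 → p = p' := fun p p' e => by
    have v2 : ∀ a : V, a + a = 0 := by decide
    have e1 : i (p'.1 + p.1) = j (p'.2 + p.2) := by
      have u1 : i p'.1 * i p'.1 = 1 := by rw [← im, v2, i0]
      have u2 : j p.2 * j p.2 = 1 := by rw [← sq]; exact hU'.2 _ (jU _)
      rw [im, jm]
      calc _ = i p'.1 * (i p.1 * j p.2) * j p.2 := by rw [mul_assoc, mul_assoc, u2, mul_one]
        _ = _ := by rw [e, ← mul_assoc, u1, one_mul]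
    have e2 : i (p'.1 + p.1) = 1 := mem_bot.1 (hd ▸ mem_inf.2 ⟨iU _, e1 ▸ jU _⟩)
    have v3 : ∀ a b : V, a + b = 0 → b = a := by decide
    exact Prod.ext (v3 _ _ (ii (e2.trans i0.symm))) (v3 _ _ (j1 _ (e1 ▸ e2)))
  have key : ∀ q ∈ Q, q ∉ centralizer (U' : Set G) → tr (θ q) = 1 := fun q hq hq' => by
    have st : ∀ (k : ℕ) (p : V × V), (q * r) ^ k * (i p.1 * j p.2) * ((q * r) ^ k)⁻¹ =
        i ((stp (θ q))^[k] p).1 * j ((stp (θ q))^[k] p).2 := by
      intro k
      induction k with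
      | zero => simp
      | succ k ih =>
        intro p
        have e1 : r * (i p.1 * j p.2) * r⁻¹ = i p.1 * j (p.1 + p.2) := by
          rw [← conj_mul, hj, rj, jm, mul_assoc]
        have e2 : q * (i p.1 * j (p.1 + p.2)) * q⁻¹ = i (stp (θ q) p).1 * j (stp (θ q) p).2 := by
          rw [← conj_mul, qi q hq, hθ q hq, stp, im, mul_assoc]
        rw [Function.iterate_succ_apply, ← ih, ← e2, ← e1, pow_succ]
        group
    refine tr_eq (add1 q hq) (fun v e => ?_) (orderOf_pos (q * r)) (h _) fun p => pi _ _ ?_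
    · by_contra c
      refine hq' (f1 q hq (j v) (jU v) (fun d => c (j1 v d)) ?_)
      rw [← mul_inv_eq_iff_eq_mul, hθ q hq, e, i0, one_mul]
    · rw [← st, pow_orderOf_eq_one]; simp
  refine Nat.le_of_dvd two_pos (relIndex_dvd_two_iff.2 ?_)
  by_cases c : Q ≤ centralizer (U' : Set G)
  · exact ⟨1, one_mem _, fun b hb => .inr (c hb)⟩
  obtain ⟨a, ha, ha'⟩ := SetLike.not_le_iff_exists.1 c
  refine ⟨a, ha, fun b hb => ?_⟩
  by_contra! d
  have e1 := key _ (mul_mem hb ha) d.1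
  have e2 := key a ha ha'
  have e3 := key b hb d.2
  simp only [tr, add2 b hb a ha, Prod.fst_add, Prod.snd_add] at e1 e2 e3
  have e4 : (1 : ZMod 2) + 1 = 1 := by linear_combination e1 - e2 - e3
  exact absurd e4 (by decide)

end H52.O8PL
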