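import Cfsg.Agent.H74.O8Kit2

/-! Tower O8: jobs RK5 and RK7. -/

set_option autoImplicit false
set_option linter.unusedSectionVars false

namespace H52.O8RK

open Cfsg Subgroup H98 H74.OC H74.O8
open scoped IsMulCommutative commutatorElement

universe u

variable {G : Type u} [Group G] [Finite G] {J : Subgroup G} {u v c j k g σ x y : G}

/-- A product in an elementary abelian group in which every index occurs an even number of times. -/
theorem cert {ι : Type} [DecidableEq ι] {V : Subgroup G} (hV : IsElementaryAbelian 2 V) (f : ι → G)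
    (hf : ∀ i, f i ∈ V) (L : List ι) (hL : ∀ i ∈ L, L.count i % 2 = 0) : (L.map f).prod = 1 := by
  have := hV.1
  have h1 : (L.map fun i => (⟨f i, hf i⟩ : V)).prod = 1 := by
    rw [Finset.prod_list_map_count]
    refine Finset.prod_eq_one fun i hi => Subtype.ext ?_
    obtain ⟨n, hn⟩ := Nat.dvd_of_mod_eq_zero (hL i (List.mem_toFinset.1 hi))
    rw [hn, pow_mul]
    simp [hV.2 _ (hf i)]
  have h2 := congrArg V.subtype h1
  rwa [map_list_prod, List.map_map, map_one] at h2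

theorem prod_conj (σ w : G) (n : ℕ) :
    ((List.range n).map fun i => σ ^ i * w * (σ ^ i)⁻¹).prod = (w * σ) ^ n * (σ ^ n)⁻¹ := by
  induction n with
  | zero => simp
  | succ n ih => rw [List.range_succ, List.map_append, List.prod_append, ih]; simp [pow_succ]; group

theorem cjm (hg : g ∈ normalizer (J : Set G)) (hj : j ∈ J) : g * j * g⁻¹ ∈ J :=
  conj_mem_of_mem_normalizer hg hj

/-- The norm of an element of order 5 or 7 vanishes. -/
theorem norm_eq_one (h : Sp 8 G) (hJ : IsPGroup 2 J) (hn : σ ∈ normalizer (J : Set G)) {p : ℕ}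
    (hp : p = 5 ∨ p = 7) (ho : orderOf σ = p) {w : G} (hw : w ∈ J) :
    ((List.range p).map fun i => σ ^ i * w * (σ ^ i)⁻¹).prod = 1 := by
  have h1 : σ ^ orderOf (w * σ) ∈ J := by
    have := J.list_prod_mem (l := (List.range (orderOf (w * σ))).map
      fun i => σ ^ i * w * (σ ^ i)⁻¹) (by
        intro a ha
        obtain ⟨i, -, rfl⟩ := List.mem_map.1 ha
        exact cjm (pow_mem hn i) hw)
    rwa [prod_conj, pow_orderOf_eq_one, one_mul, inv_mem_iff] at this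
  have h2 : σ ^ orderOf (w * σ) = 1 := by
    by_contra c
    have h3 := (two_dvd_order hJ h1 c).trans (orderOf_pow_dvd _)
    rw [ho] at h3
    rcases hp with rfl | rfl <;> exact absurd h3 (by decide)
  have h3 := ho ▸ orderOf_dvd_of_pow_eq_one h2
  have h4 := h (w * σ)
  have h5 := orderOf_pos (w * σ)
  have h6 : orderOf (w * σ) = p := by
    obtain ⟨m, hm⟩ := h3
    rcases hp with rfl | rfl <;> omega
  rw [prod_conj, ← h6, pow_orderOf_eq_one, h2, inv_one, mul_one]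

/-- The commutator `u⁻¹ u^j`. -/
def dl (u j : G) : G := u⁻¹ * (j * u * j⁻¹)

/-- `u` is central modulo `Ω₁ Z(J)`. -/
def T2 (J : Subgroup G) (u : G) : Prop := u ∈ J ∧ ∀ j ∈ J, dl u j ∈ oz 2 J

theorem oz_comm (hc : c ∈ oz 2 J) (hj : j ∈ J) : j * c = c * j := oz_le_centralizer J hc j hj

theorem dl_conj (g u j : G) : dl (g * u * g⁻¹) j = g * dl u (g⁻¹ * j * g) * g⁻¹ := by
  unfold dl; group

theorem dl_right (h : T2 J u) (hj : j ∈ J) (hk : k ∈ J) : dl u (j * k) = dl u j * dl u k := by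
  have := oz_comm (h.2 k hk) (inv_mem hj)
  calc _ = u⁻¹ * (j * u) * (dl u k * j⁻¹) := by unfold dl; group
    _ = _ := by rw [← this]; unfold dl; group

theorem dl_left (h : T2 J u) (hv : v ∈ J) (hj : j ∈ J) : dl (u * v) j = dl u j * dl v j := by
  have := oz_comm (h.2 j hj) (inv_mem hv)
  calc _ = v⁻¹ * dl u j * (j * v * j⁻¹) := by unfold dl; group
    _ = _ := by rw [this]; unfold dl; group

theorem dl_eq_one : dl u j = 1 ↔ j * u = u * j := by
  rw [dl, inv_mul_eq_one, eq_mul_inv_iff_mul_eq, eq_comm]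

theorem T2.conj (h : T2 J u) (hg : g ∈ normalizer (J : Set G)) : T2 J (g * u * g⁻¹) :=
  ⟨cjm hg h.1, fun j hj => by
    rw [dl_conj]
    exact cjm (le_normalizer_oz (A := normalizer (J : Set G)) le_rfl hg)
      (h.2 _ (by simpa using cjm (inv_mem hg) hj))⟩

theorem T2.mul (h : T2 J u) (h' : T2 J v) : T2 J (u * v) :=
  ⟨mul_mem h.1 h'.1, fun j hj => by
    rw [dl_left h h'.1 hj]; exact mul_mem (h.2 j hj) (h'.2 j hj)⟩

theorem dl_prod_left (hj : j ∈ J) (L : List G) (hL : ∀ a ∈ L, T2 J a) :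
    dl L.prod j = (L.map fun a => dl a j).prod := by
  induction L with
  | nil => simp [dl]
  | cons a L ih =>
    rw [List.prod_cons, List.map_cons, List.prod_cons, ← ih fun b hb => hL b (List.mem_cons_of_mem _ hb),
      dl_left (hL a List.mem_cons_self)
        (list_prod_mem fun b hb => (hL b (List.mem_cons_of_mem _ hb)).1) hj]

theorem dl_prod_right (h : T2 J u) (L : List G) (hL : ∀ a ∈ L, a ∈ J) :
    dl u L.prod = (L.map (dl u)).prod := by
  induction L with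
  | nil => simp [dl]
  | cons a L ih =>
    rw [List.prod_cons, List.map_cons, List.prod_cons, ← ih fun b hb => hL b (List.mem_cons_of_mem _ hb),
      dl_right h (hL a List.mem_cons_self) (list_prod_mem fun b hb => hL b (List.mem_cons_of_mem _ hb))]

/-- The standing situation. -/
structure St (J : Subgroup G) (u c k : G) : Prop where
  t2 : T2 J u
  cz : c ∈ oz 2 J
  c1 : c ≠ 1
  alt : ∀ j ∈ J, dl u j = 1 ∨ dl u j = c
  kJ : k ∈ J
  kc : dl u k = c

theorem rk1_of (h : ∀ u c k, ¬ St J u c k) : Rk1 J := by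
  intro u hu c c2 H
  by_contra hn
  obtain ⟨k, hk, e⟩ : ∃ k ∈ J, k * u ≠ u * k := by
    by_contra! a
    exact hn a
  have alt : ∀ j ∈ J, dl u j = 1 ∨ dl u j = c := fun j hj =>
    (H j hj).imp (fun a => by rw [dl, a, inv_mul_cancel]) fun a => by rw [dl, a, inv_mul_cancel_left]
  have kc : dl u k = c := (alt k hk).resolve_left fun a => e (dl_eq_one.1 a)
  have c1 : c ≠ 1 := fun a => e (dl_eq_one.1 (kc.trans a))
  have uc : k * u * k⁻¹ = u * c := by rw [← kc, dl, mul_inv_cancel_left]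
  have cz : c ∈ oz 2 J := by
    refine mem_oz.2 ⟨kc ▸ mul_mem (inv_mem hu) (cjm (le_normalizer hk) hu), fun j hj => ?_,
      by rw [sq, c2]⟩
    have e1 : j * k * u * (j * k)⁻¹ = j * u * j⁻¹ * (j * c * j⁻¹) := by
      calc _ = j * (k * u * k⁻¹) * j⁻¹ := by group
        _ = _ := by rw [uc]; group
    have e2 : j * c * j⁻¹ ≠ 1 := fun a => c1 (by simpa [mul_assoc] using conj_eq_one_iff.1 a)
    rw [← mul_inv_eq_iff_eq_mul]
    rcases H j hj with a | a <;> rcases H _ (mul_mem hj hk) with b | b <;> rw [e1, a] at b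
    · exact absurd (mul_eq_left.1 b) e2
    · exact mul_left_cancel b
    · rw [mul_assoc, mul_eq_left] at b
      rw [eq_inv_of_mul_eq_one_right b, inv_eq_of_mul_eq_one_right c2]
    · exact absurd (mul_eq_left.1 b) e2
  exact h u c k ⟨⟨hu, fun j hj => (alt j hj).elim (fun a => a ▸ one_mem _) fun a => a ▸ cz⟩, cz, c1,
    alt, hk, kc⟩

theorem five {V : Type*} [CommGroup V] (C : Fin 5 → V) (h2 : ∀ i, C i * C i = 1)
    (h1 : ∀ i, C i ≠ 1) (hi : Function.Injective C) (hp : ∏ i, C i = 1) (S : Finset (Fin 5))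
    (hS : ∏ i ∈ S, C i = 1) : S = ∅ ∨ Sᶜ = ∅ := by
  have key : ∀ T : Finset (Fin 5), T.card ≤ 2 → ∏ i ∈ T, C i = 1 → T = ∅ := fun T hT e => by
    obtain h | h | h : T.card = 0 ∨ T.card = 1 ∨ T.card = 2 := by omega
    · exact Finset.card_eq_zero.1 h
    · obtain ⟨a, rfl⟩ := Finset.card_eq_one.1 h
      exact absurd (by simpa using e) (h1 a)
    · obtain ⟨a, b, ab, rfl⟩ := Finset.card_eq_two.1 h
      rw [Finset.prod_pair ab] at e
      exact absurd (hi (mul_left_cancel ((h2 a).trans e.symm))) ab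
  have h3 := Finset.prod_mul_prod_compl S C
  rw [hS, hp, one_mul] at h3
  have h4 := Finset.card_add_card_compl S
  rw [Fintype.card_fin] at h4
  by_cases c : S.card ≤ 2
  exacts [.inl (key S c hS), .inr (key _ (by omega) h3)]

theorem jobRK5 : JobRK5.{u} := by
  intro G _ _ J σ h hJ hn ho
  classical
  refine rk1_of fun u c k s => ?_
  have hV := ea_oz (p := 2) J
  have := hV.1
  have nV := le_normalizer_oz (p := 2) (A := normalizer (J : Set G)) le_rfl
  have ki : ∀ i : ℕ, (σ ^ i)⁻¹ * k * σ ^ i ∈ J := fun i => by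
    simpa using cjm (inv_mem (pow_mem hn i)) s.kJ
  let C : Fin 5 → oz 2 J := fun i => ⟨σ ^ i.1 * c * (σ ^ i.1)⁻¹, cjm (nV (pow_mem hn _)) s.cz⟩
  have r5 : ∀ f : ℕ → G, ((List.range 5).map f).prod = f 0 * f 1 * f 2 * f 3 * f 4 := fun f => by
    simp [List.range_succ, mul_assoc]
  have fx : ∀ i j : ℕ, i < j → j < 5 → σ ^ i * c * (σ ^ i)⁻¹ ≠ σ ^ j * c * (σ ^ j)⁻¹ := by
    intro i j h1 h2 e
    obtain ⟨d, rfl⟩ := Nat.exists_eq_add_of_lt h1
    have h3 : orderOf (σ ^ (d + 1)) = 5 := by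
      rw [(Nat.Coprime.orderOf_pow (y := σ) (m := d + 1) (by
        rw [ho]
        exact (Nat.coprime_of_lt_prime (by omega) (by omega) Nat.prime_five))), ho]
    refine s.c1 (mem_bot.1 (fpf h (.inl h3) hJ ▸ mem_inf.2 ⟨oz_le J s.cz,
      mem_centralizer_singleton_iff.2 ?_⟩))
    calc _ = (σ ^ i)⁻¹ * (σ ^ i * c * (σ ^ i)⁻¹) * σ ^ (i + d + 1) := by group
      _ = _ := by rw [e]; group
  have h5 := five C (fun i => Subtype.ext (by rw [← sq]; exact hV.2 _ (C i).2))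
    (fun i e => s.c1 (conj_eq_one_iff.1 (congrArg Subtype.val e)))
    (fun i j e => by
      have e' := congrArg Subtype.val e
      rcases lt_trichotomy i j with a | a | a
      exacts [absurd e' (fx _ _ a j.2), a, absurd e'.symm (fx _ _ a i.2)])
    (by
      rw [Fin.prod_univ_five]
      exact Subtype.ext ((r5 _).symm.trans (norm_eq_one h hJ hn (.inl rfl) ho (oz_le J s.cz))))
    (Finset.univ.filter fun i => dl u ((σ ^ i.1)⁻¹ * k * σ ^ i.1) = c)
    (by
      have e1 := dl_prod_left s.kJ ((List.range 5).map fun i => σ ^ i * u * (σ ^ i)⁻¹) (by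
        intro a ha
        obtain ⟨i, -, rfl⟩ := List.mem_map.1 ha
        exact s.t2.conj (pow_mem hn i))
      rw [norm_eq_one h hJ hn (.inl rfl) ho s.t2.1, List.map_map, r5,
        dl_eq_one.2 (by simp)] at e1
      have e2 : ∀ i : Fin 5, (((if dl u ((σ ^ i.1)⁻¹ * k * σ ^ i.1) = c then C i else 1) : oz 2 J) : G)
          = dl (σ ^ i.1 * u * (σ ^ i.1)⁻¹) k := fun i => by
        rw [dl_conj]
        split_ifs with a
        · rw [a]
        · rw [(s.alt _ (ki i)).resolve_right a]; simp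
      rw [Finset.prod_filter, Fin.prod_univ_five]
      apply Subtype.ext
      simp only [coe_mul, e2]
      exact e1.symm)
  have h6 : ∀ i : Fin 5, dl u ((σ ^ i.1)⁻¹ * k * σ ^ i.1) = c := by
    rcases h5 with a | a
    · exact absurd (Finset.filter_eq_empty_iff.1 a (Finset.mem_univ 0)) (by simpa using s.kc)
    · intro i
      simpa using Finset.eq_empty_iff_forall_notMem.1 a i
  have e1 := dl_prod_right s.t2 ((List.range 5).map fun i => σ⁻¹ ^ i * k * (σ⁻¹ ^ i)⁻¹) (by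
    intro a ha
    obtain ⟨i, -, rfl⟩ := List.mem_map.1 ha
    exact cjm (pow_mem (inv_mem hn) i) s.kJ)
  rw [norm_eq_one h hJ (inv_mem hn) (.inl rfl) (by rw [orderOf_inv, ho]) s.kJ, List.map_map, r5,
    dl_eq_one.2 (by simp)] at e1
  simp only [Function.comp_apply, inv_pow, inv_inv] at e1
  have a0 := h6 0; have a1 := h6 1; have a2 := h6 2; have a3 := h6 3; have a4 := h6 4
  simp only [Fin.coe_ofNat_eq_mod, Nat.reduceMod] at a0 a1 a2 a3 a4
  have c2 : c * c = 1 := by rw [← sq]; exact hV.2 _ s.cz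
  rw [a0, a1, a2, a3, a4, c2, one_mul, c2, one_mul] at e1
  exact s.c1 e1.symm

/-! ### The Frobenius group of order 21 -/

/-- The product of normal forms `σ^a x^b`. -/
def ml (p q : ℕ × ℕ) : ℕ × ℕ := ((p.1 + 2 ^ p.2 * q.1) % 7, (p.2 + q.2) % 3)

/-- The element with a given normal form. -/
def el (σ x : G) (p : ℕ × ℕ) : G := σ ^ p.1 * x ^ p.2

theorem x_pow (hr : x * σ * x⁻¹ = σ ^ 2) (b c : ℕ) : x ^ b * σ ^ c = σ ^ (2 ^ b * c) * x ^ b := by
  induction b generalizing c with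
  | zero => simp
  | succ b ih =>
    have : x * σ ^ c = σ ^ (2 * c) * x := by rw [pow_mul, ← hr, conj_pow, inv_mul_cancel_right]
    rw [pow_succ, mul_assoc, this, ← mul_assoc, ih, pow_succ, mul_assoc, mul_assoc]

theorem el_mul (h7 : σ ^ 7 = 1) (h3 : x ^ 3 = 1) (hr : x * σ * x⁻¹ = σ ^ 2) (p q : ℕ × ℕ) :
    el σ x p * el σ x q = el σ x (ml p q) := by
  simp only [el, ml]
  rw [← pow_eq_pow_mod _ h7, ← pow_eq_pow_mod _ h3, pow_add, pow_add, mul_assoc, mul_assoc,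
    ← mul_assoc (x ^ p.2), x_pow hr, mul_assoc]

def r1 (b : ℕ) : List (ℕ × ℕ) := (List.range 7).map fun i => ml (0, b) (i, 0)
def r2 (q : (ℕ × ℕ) × ℕ) : List (ℕ × ℕ) :=
  [q.1, ml q.1 (q.2, 1), ml q.1 (ml (q.2, 1) (q.2, 1))]

def certs : List (List ℕ × List ((ℕ × ℕ) × ℕ)) :=
[([0], [((0,0),0), ((1,0),0), ((3,0),0), ((4,0),0), ((5,0),0), ((0,0),2), ((0,1),2), ((0,2),2), ((1,1),2), ((1,2),2), ((1,0),4), ((2,1),4)]),
 ([0], [((0,1),4), ((1,0),4), ((0,0),5), ((0,2),5), ((1,0),5), ((1,1),5), ((2,1),5), ((0,0),6), ((0,1),6), ((0,2),6), ((1,1),6), ((2,2),6)]),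
 ([0], [((0,1),1), ((2,0),1), ((0,0),3), ((0,2),3), ((1,0),3), ((1,2),3), ((2,0),3), ((0,0),5), ((0,1),5), ((0,2),5), ((1,1),5), ((2,1),5)]),
 ([0], [((2,0),0), ((3,0),0), ((1,0),3), ((1,2),3), ((1,2),6), ((2,2),6)]),
 ([1, 2], [((1,0),1), ((1,2),1), ((0,0),4), ((0,1),4), ((1,0),4), ((1,1),4), ((2,1),4), ((0,2),6), ((1,2),6)]),
 ([0], [((3,0),0), ((4,0),0), ((0,1),2), ((0,2),2), ((0,1),5), ((0,2),5)]),
 ([1, 2], [((0,2),2), ((2,2),2), ((0,2),3), ((2,0),3), ((0,0),4), ((0,1),4), ((0,2),4), ((1,0),4), ((2,1),4)]),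
 ([1, 2], [((0,0),0), ((2,0),0), ((3,0),0), ((4,0),0), ((5,0),0), ((0,1),3), ((0,2),3), ((0,1),4), ((0,2),4)]),
 ([0], [((2,0),0), ((5,0),0), ((0,1),1), ((0,2),1), ((0,1),6), ((0,2),6)]),
 ([1, 2], [((0,2),2), ((1,1),2), ((0,0),5), ((0,1),5), ((0,2),5), ((1,0),5), ((1,1),5), ((0,2),6), ((1,1),6)]),
 ([0], [((0,1),1), ((1,0),1), ((1,1),4), ((2,1),4), ((0,1),5), ((1,1),5)]),
 ([1, 2], [((0,0),1), ((0,1),1), ((0,2),1), ((1,2),1), ((2,0),1), ((0,1),2), ((1,2),2), ((0,1),3), ((1,2),3)])]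

def fl (d : List ℕ × List ((ℕ × ℕ) × ℕ)) : List (ℕ × ℕ) :=
  (0, 0) :: (d.1.map r1 ++ d.2.map r2).flatten

theorem certs_ok : ∀ d ∈ certs, ∀ i ∈ fl d,
    @List.count _ instBEqOfDecidableEq i (fl d) % 2 = 0 := by decide +kernel

theorem certs_cov : ∀ b0 b1 b2 b3 b4 b5 b6 : Bool, ∃ v : Bool, ∃ d ∈ certs, ∀ q ∈ d.2,
    q.2 < 7 ∧ [b0, b1, b2, b3, b4, b5, b6].getD q.2 false = v := by decide +kernel

theorem al {V N : Subgroup G} (hV : IsElementaryAbelian 2 V) (hσ : σ ∈ N) (hx : x ∈ N)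
    (h7 : σ ^ 7 = 1) (h3 : x ^ 3 = 1) (hr : x * σ * x⁻¹ = σ ^ 2) (f : G → G)
    (hf : ∀ g ∈ N, f g ∈ V) (R1 : ∀ g ∈ N, ((List.range 7).map fun i => f (g * σ ^ i)).prod = 1)
    {d : List ℕ × List ((ℕ × ℕ) × ℕ)} (hd : d ∈ certs) (R2 : ∀ q ∈ d.2, ∀ g ∈ N,
      f g * f (g * (σ ^ q.2 * x)) * f (g * (σ ^ q.2 * x) ^ 2) = 1) : f 1 = 1 := by
  have m : ∀ p, el σ x p ∈ N := fun p => mul_mem (pow_mem hσ _) (pow_mem hx _)
  have h1 := cert hV (fun p => f (el σ x p)) (fun p => hf _ (m p)) (fl d) (certs_ok d hd)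
  rw [fl, List.map_cons, List.prod_cons, List.map_flatten, List.prod_flatten,
    List.prod_eq_one (l := List.map List.prod _), mul_one] at h1
  · simpa [el] using h1
  intro a ha
  simp only [List.map_append, List.map_map, List.mem_append, List.mem_map] at ha
  rcases ha with ⟨b, -, rfl⟩ | ⟨q, hq, rfl⟩
  · rw [← R1 _ (m (0, b))]
    simp only [Function.comp_apply, r1, List.map_map]
    congr 2
    funext i
    rw [Function.comp_apply, ← el_mul h7 h3 hr]
    simp [el]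
  · rw [← R2 q hq _ (m q.1)]
    simp only [Function.comp_apply, r2, List.map_cons, List.map_nil, List.prod_cons, List.prod_nil,
      ← el_mul h7 h3 hr]
    simp [el, sq, mul_assoc]

theorem k1 (h : Sp 8 G) (hJ : IsPGroup 2 J) (s : St J u c k) (hn : y ∈ normalizer (J : Set G))
    (hy : orderOf y = 3) : (∀ j ∈ J, j ∈ centralizer ({y} : Set G) → dl u j = 1) ∨
      c * (y * c * y⁻¹) * (y ^ 2 * c * (y ^ 2)⁻¹) = 1 := by
  refine or_iff_not_imp_left.2 fun a => ?_
  push Not at a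
  obtain ⟨j, hj, jy, a⟩ := a
  have y3 : y ^ 3 = 1 := by rw [← hy, pow_orderOf_eq_one]
  have t1 := s.t2.conj hn
  have t2 := s.t2.conj (pow_mem hn 2)
  have tw := (s.t2.mul t1).mul t2
  set w := u * (y * u * y⁻¹) * (y ^ 2 * u * (y ^ 2)⁻¹) with hw
  obtain ⟨n, n1, n2⟩ := lift_fix (isPGroup_oz (p := 2) J) hy
    (le_normalizer_oz (A := normalizer (J : Set G)) le_rfl hn) (x := w) (by
      have e0 : y * w * y⁻¹ = y * u * y⁻¹ * (y ^ 2 * u * (y ^ 2)⁻¹) * u := by
        calc _ = y * u * y⁻¹ * (y ^ 2 * u * (y ^ 2)⁻¹) * (y ^ 3 * u * (y ^ 3)⁻¹) := by rw [hw]; group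
          _ = _ := by rw [y3]; group
      have e : y * w * y⁻¹ * w⁻¹ = u * dl u (y * u * y⁻¹ * (y ^ 2 * u * (y ^ 2)⁻¹)) * u⁻¹ := by
        rw [e0, hw, dl]; group
      rw [e]
      exact cjm (le_normalizer_oz (A := J) le_normalizer s.t2.1) (s.t2.2 _ (mul_mem t1.1 t2.1)))
  have e1 := (el3 h hy (hJ.to_inf_left (K := centralizer ({y} : Set G))) inf_le_right).1
  have e2 : j * (n * w) = n * w * j := congrArg Subtype.val (e1.is_comm.comm
    (⟨j, hj, jy⟩ : (J ⊓ centralizer ({y} : Set G) : Subgroup G)) ⟨n * w, mul_mem (oz_le J n1) tw.1, n2⟩)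
  rw [← mul_assoc, oz_comm n1 hj, mul_assoc, mul_assoc, mul_right_inj, ← dl_eq_one, hw,
    dl_left (s.t2.mul t1) t2.1 hj, dl_left s.t2 t1.1 hj, dl_conj, dl_conj] at e2
  have e3 := mem_centralizer_singleton_iff.1 jy
  rwa [show y⁻¹ * j * y = j by rw [mul_assoc, e3]; group,
    show (y ^ 2)⁻¹ * j * y ^ 2 = j by rw [mul_assoc, sq, ← mul_assoc j, e3, mul_assoc y, e3]; group,
    (s.alt j hj).resolve_left a] at e2

theorem k2 (hJ : IsPGroup 2 J) (t : T2 J u) (hn : y ∈ normalizer (J : Set G)) (hy : orderOf y = 3)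
    (h : ∀ j ∈ J, j ∈ centralizer ({y} : Set G) → dl u j = 1) (hj : j ∈ J) :
    dl u j * dl u (y⁻¹ * j * y) * dl u ((y ^ 2)⁻¹ * j * y ^ 2) = 1 := by
  have y3 : y ^ 3 = 1 := by rw [← hy, pow_orderOf_eq_one]
  have j1 : y⁻¹ * j * y ∈ J := by simpa using cjm (inv_mem hn) hj
  have j2 : (y ^ 2)⁻¹ * j * y ^ 2 ∈ J := by simpa using cjm (inv_mem (pow_mem hn 2)) hj
  have hJJ : ⁅J, J⁆ ≤ J := commutator_le_of_le le_rfl le_rfl
  obtain ⟨n, n1, n2⟩ := lift_fix (hJ.to_le hJJ) hy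
    (le_normalizer_commutator (H := normalizer (J : Set G)) le_rfl le_rfl hn)
    (x := j * (y⁻¹ * j * y) * ((y ^ 2)⁻¹ * j * y ^ 2)) (by
      convert commutator_mem_commutator j2 (mul_mem hj j1) using 1
      have e0 : y * (j * (y⁻¹ * j * y) * ((y ^ 2)⁻¹ * j * y ^ 2)) * y⁻¹ =
          (y ^ 2)⁻¹ * j * y ^ 2 * (j * (y⁻¹ * j * y)) := by
        calc _ = (y ^ 2)⁻¹ * (y ^ 3 * j * (y ^ 3)⁻¹) * y ^ 2 * (j * (y⁻¹ * j * y)) := by group
          _ = _ := by rw [y3]; group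
      rw [e0, commutatorElement_def]; group)
  have c1 : ⁅J, J⁆ ≤ centralizer ({u} : Set G) := commutator_le.2 fun a ha b hb => by
    rw [mem_centralizer_singleton_iff, ← dl_eq_one, commutatorElement_def,
      dl_right t (mul_mem (mul_mem ha hb) (inv_mem ha)) (inv_mem hb),
      dl_right t (mul_mem ha hb) (inv_mem ha), dl_right t ha hb,
      mul_assoc (dl u a), oz_comm (t.2 _ (inv_mem ha)) (oz_le J (t.2 b hb)), ← mul_assoc,
      ← dl_right t ha (inv_mem ha), mul_assoc, ← dl_right t hb (inv_mem hb)]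
    simp [dl]
  have := h _ (mul_mem (hJJ n1) (mul_mem (mul_mem hj j1) j2)) n2
  rwa [dl_right t (hJJ n1) (mul_mem (mul_mem hj j1) j2),
    dl_eq_one.2 (mem_centralizer_singleton_iff.1 (c1 n1)), one_mul, dl_right t (mul_mem hj j1) j2,
    dl_right t hj j1] at this

theorem jobRK7 : JobRK7.{u} := by
  rintro G _ _ J h hJ ⟨σ, hσ, x, hx, o7, o3, hr⟩
  classical
  refine rk1_of fun u c k s => ?_
  have hV := ea_oz (p := 2) J
  have nV := le_normalizer_oz (p := 2) (A := normalizer (J : Set G)) le_rfl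
  have h7 : σ ^ 7 = 1 := by rw [← o7, pow_orderOf_eq_one]
  have h3 : x ^ 3 = 1 := by rw [← o3, pow_orderOf_eq_one]
  have yn : ∀ m : ℕ, σ ^ m * x ∈ normalizer (J : Set G) := fun m => mul_mem (pow_mem hσ m) hx
  have yo : ∀ m : ℕ, orderOf (σ ^ m * x) = 3 := fun m => by
    have := x_pow hr 1 m
    rw [pow_one, pow_one, two_mul, pow_add] at this
    rw [show σ ^ m * x = (σ ^ m)⁻¹ * x * (σ ^ m)⁻¹⁻¹ by rw [mul_assoc, inv_inv, this]; group,
      ← MulAut.conj_apply, MulEquiv.orderOf_eq, o3]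
  let B : ℕ → Bool := fun m => decide (∀ j ∈ J, j ∈ centralizer ({σ ^ m * x} : Set G) → dl u j = 1)
  obtain ⟨v, d, hd, hq⟩ := certs_cov (B 0) (B 1) (B 2) (B 3) (B 4) (B 5) (B 6)
  have hq' : ∀ q ∈ d.2, B q.2 = v := fun q a => by
    obtain ⟨a1, a2⟩ := hq q a
    generalize q.2 = m at a1 a2
    interval_cases m <;> exact a2
  cases v
  · refine s.c1 ((show c = 1 * c * 1⁻¹ by simp).trans (al hV hσ hx h7 h3 hr (fun g => g * c * g⁻¹)
      (fun g hg => cjm (nV hg) s.cz) (fun g _ => ?_) hd fun q a g _ => ?_))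
    · have := congrArg (MulAut.conj g) (norm_eq_one h hJ hσ (.inr rfl) o7 (oz_le J s.cz))
      rw [map_list_prod, List.map_map, map_one] at this
      rw [← this]
      congr 2
      funext i
      simp [mul_assoc]
    · have := (k1 h hJ s (yn q.2) (yo q.2)).resolve_left (of_decide_eq_false (hq' q a))
      calc _ = g * (c * (σ ^ q.2 * x * c * (σ ^ q.2 * x)⁻¹) *
            ((σ ^ q.2 * x) ^ 2 * c * ((σ ^ q.2 * x) ^ 2)⁻¹)) * g⁻¹ := by
            generalize σ ^ q.2 * x = y; group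
        _ = 1 := by rw [this]; group
  · have gk : ∀ g ∈ normalizer (J : Set G), g⁻¹ * k * g ∈ J := fun g hg => by
      simpa using cjm (inv_mem hg) s.kJ
    refine s.c1 ((show c = dl u (1⁻¹ * k * 1) by simp [s.kc]).trans (al hV hσ hx h7 h3 hr
      (fun g => dl u (g⁻¹ * k * g))
      (fun g hg => s.t2.2 _ (gk g hg)) (fun g hg => ?_) hd fun q a g hg => ?_))
    · have e1 := dl_prod_right s.t2
        ((List.range 7).map fun i => σ⁻¹ ^ i * (g⁻¹ * k * g) * (σ⁻¹ ^ i)⁻¹) (by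
        intro a ha
        obtain ⟨i, -, rfl⟩ := List.mem_map.1 ha
        exact cjm (pow_mem (inv_mem hσ) i) (gk g hg))
      rw [norm_eq_one h hJ (inv_mem hσ) (.inr rfl) (by rw [orderOf_inv, o7]) (gk g hg), List.map_map,
        dl_eq_one.2 (by simp)] at e1
      rw [e1]
      congr 2
      funext i
      simp [mul_assoc]
    · have := k2 hJ s.t2 (yn q.2) (yo q.2) (of_decide_eq_true (hq' q a)) (gk g hg)
      simpa only [mul_inv_rev, mul_assoc] using this

end H52.O8RK
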