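import Cfsg.Agent.H52.O8RK

/-! Tower O8: job X6. -/

set_option autoImplicit false
set_option linter.unusedSectionVars false

namespace H52.O8X6

open Cfsg Subgroup H98 H74.OC H74.O8 H52.O8RK Equiv

universe u

def gen : ℕ → Perm (Fin 6)
  | 0 => c[0, 1, 2]
  | 1 => c[1, 2, 3, 4, 5]
  | _ => c[3, 4, 5]

/-- The value of a word. -/
def wd {M : Type*} [Monoid M] (g : ℕ → M) (l : List ℕ) : M := (l.map g).prod

theorem wd_app {M : Type*} [Monoid M] (g : ℕ → M) (l l' : List ℕ) :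
    wd g (l ++ l') = wd g l * wd g l' := by simp [wd]

theorem wd_rep {M : Type*} [Monoid M] (g : ℕ → M) (n i : ℕ) : wd g (List.replicate n i) = g i ^ n := by
  simp [wd]

def rels : List (List ℕ × List ℕ × List (List ℕ × ℕ × ℕ)) :=
  [([0], [0, 1], [([0, 0, 1], 0, 0), ([0, 1, 0, 1], 0, 0), ([0, 1, 1, 0, 1], 0, 0), ([0, 0, 1, 0, 1], 2, 1), ([0, 2, 2, 1], 2, 0)]),
   ([0, 1, 2], [2, 1], [([0, 0, 1], 1, 0), ([0, 1, 2, 1, 2, 1], 0, 0), ([], 1, 0), ([0, 2, 1, 2, 1], 0, 1), ([0, 2, 2, 1], 0, 2)]),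
   ([0, 1, 0, 0], [0, 0, 2, 1], [([0, 1, 0, 2, 1], 0, 0), ([2, 1], 2, 2), ([0, 1, 2, 1, 2, 1], 1, 0), ([2, 2, 1], 1, 1), ([0, 0, 1, 0, 1], 0, 0)]),
   ([0, 2, 1, 1, 0], [0, 0, 1], [([0, 1, 1, 0, 1], 1, 0), ([0, 1, 1, 0, 2, 1], 0, 0), ([1], 1, 1), ([2, 2, 1], 0, 2), ([0, 1, 0, 2, 1], 2, 2)]),
   ([2, 1, 1, 1, 0], [0, 1, 1], [([0, 1, 1, 0, 2, 1], 0, 2), ([2, 1], 0, 1), ([0, 2, 1, 2, 1], 0, 2), ([1], 1, 2), ([0, 1, 0, 1], 2, 1)])]

theorem rels_ok : ∀ r ∈ rels,
    ((List.range 5).map fun i => wd gen (r.1 ++ List.replicate i 1 ++ r.2.1)) =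
      r.2.2.map fun t => wd gen (t.1 ++ List.replicate t.2.1 0 ++ List.replicate t.2.2 2) := by
  decide +kernel

def fl : List (List ℕ) := [] :: (rels.map fun r => r.2.2.map Prod.fst).flatten

theorem fl_ok : ∀ i ∈ fl, @List.count _ instBEqOfDecidableEq i fl % 2 = 0 := by decide +kernel

theorem gen_mem (n : ℕ) : gen n ∈ alternatingGroup (Fin 6) := by
  rw [Perm.mem_alternatingGroup]
  match n with
  | 0 => decide +kernel
  | 1 => decide +kernel
  | n + 2 => exact (by decide +kernel : Perm.sign (gen 2) = 1)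

theorem main {H : Type u} [Group H] [Finite H] {F : H →* Perm (Fin 6)} (h : Sp 8 H)
    (h2 : IsPGroup 2 F.ker) (g : ℕ → H) (hg : ∀ n, F (g n) = gen n) {v : H} (hv : v ∈ oz 2 F.ker)
    (h0 : g 0 * v * (g 0)⁻¹ = v) (h1 : g 2 * v * (g 2)⁻¹ = v) : v = 1 := by
  classical
  have nk : ∀ a : H, a ∈ normalizer (F.ker : Set H) := fun a => (normalizer_eq_top _).ge (mem_top a)
  have nV := fun a => le_normalizer_oz (p := 2) (A := normalizer (F.ker : Set H)) le_rfl (nk a)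
  obtain ⟨ψ, hψ⟩ : ∃ ψ : Perm (Fin 6) → H, ∀ a, ψ (F a) = a * v * a⁻¹ := by
    refine ⟨fun p => Function.invFun F p * v * (Function.invFun F p)⁻¹, fun a => ?_⟩
    have e1 : a⁻¹ * Function.invFun F (F a) ∈ F.ker := by
      rw [MonoidHom.mem_ker, map_mul, map_inv, Function.invFun_eq (f := F) ⟨a, rfl⟩,
        inv_mul_cancel]
    have e2 := oz_comm hv e1
    calc _ = a * (a⁻¹ * Function.invFun F (F a) * v) * (Function.invFun F (F a))⁻¹ := by group
      _ = _ := by rw [e2]; group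
  have Fw : ∀ l, wd gen l = F (wd g l) := fun l => by
    simp [wd, map_list_prod, Function.comp_def, hg]
  have o5 : orderOf (g 1) = 5 := ord_eq h F le_rfl (by
    rw [hg]
    have := Fact.mk Nat.prime_five
    exact orderOf_eq_prime (by decide +kernel) (by decide +kernel))
  have e1 := cert (ea_oz (p := 2) F.ker) (fun l => wd g l * v * (wd g l)⁻¹) (fun l => cjm (nV _) hv)
    fl fl_ok
  rw [fl, List.map_cons, List.prod_cons, List.map_flatten, List.prod_flatten,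
    List.prod_eq_one (l := List.map List.prod _), mul_one] at e1
  · simpa [wd] using e1
  intro a ha
  simp only [List.map_map, List.mem_map] at ha
  obtain ⟨r, hr, rfl⟩ := ha
  have e2 := congrArg (fun L => (L.map ψ).prod) (rels_ok r hr)
  have e3 := congrArg (MulAut.conj (wd g r.1)) (norm_eq_one h h2 (nk (g 1)) (.inl rfl) o5
    (oz_le _ (cjm (nV (wd g r.2.1)) hv)))
  rw [map_list_prod, List.map_map, map_one] at e3
  simp only [List.map_map, Function.comp_def, Fw, hψ, wd_app, wd_rep] at e2 ⊢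
  have p0 : ∀ n : ℕ, g 0 ^ n * v * (g 0 ^ n)⁻¹ = v := fun n => by
    rw [((Commute.pow_left (mul_inv_eq_iff_eq_mul.1 h0) n)).eq, mul_inv_cancel_right]
  have p1 : ∀ n : ℕ, g 2 ^ n * v * (g 2 ^ n)⁻¹ = v := fun n => by
    rw [((Commute.pow_left (mul_inv_eq_iff_eq_mul.1 h1) n)).eq, mul_inv_cancel_right]
  have e4 : ∀ (w : H) (m n : ℕ), w * g 0 ^ m * g 2 ^ n * v * (w * g 0 ^ m * g 2 ^ n)⁻¹ =
      w * v * w⁻¹ := fun w m n => by
    calc _ = w * (g 0 ^ m * (g 2 ^ n * v * (g 2 ^ n)⁻¹) * (g 0 ^ m)⁻¹) * w⁻¹ := by group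
      _ = _ := by rw [p1, p0]
  simp only [e4] at e2
  rw [← e2, ← e3]
  congr 2
  funext i
  simp [mul_assoc]

theorem jobX6 : JobX6.{u} := by
  intro H _ _ f hf A hA
  have := Fact.mk Nat.prime_three
  let F : H →* Perm (Fin 6) := (alternatingGroup (Fin 6)).subtype.comp f
  have hk : F.ker = f.ker := MonoidHom.ker_comp_of_injective _ _ (subtype_injective _)
  have nk : ∀ a : H, a ∈ normalizer (f.ker : Set H) := fun a => (normalizer_eq_top _).ge (mem_top a)
  refine eq_bot_iff.2 fun v hv => mem_bot.2 ?_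
  have hz := cent9 hf.sp hA hf.two (fun a _ => nk a) hv
  have A3 : IsPGroup 3 A := IsPGroup.of_card (n := 2) hA
  have c9 : Nat.card (A.map f) = 9 := by
    rw [← hA, ← relIndex_ker, ← inf_relIndex_right, (IsPGroup.disjoint_of_ne 2 3 (by decide) _ _
      hf.two A3).eq_bot, relIndex_bot_left]
  have hS : IsSyl 3 (A.map f) ⊤ := isSyl_of_not_dvd_relIndex le_top (A3.map f) (by
    have := (A.map f).card_mul_index
    rw [c9, show Nat.card A6 = 360 by
      rw [Nat.card_eq_fintype_card, card_alternatingGroup]; rfl] at this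
    rw [relIndex_top_right]
    omega)
  let x : A6 := ⟨gen 0, gen_mem 0⟩
  let y : A6 := ⟨gen 2, gen_mem 2⟩
  have x3 : IsPGroup 3 (zpowers x) := isPGroup_zpowers (k := 1) (Subtype.ext (by decide +kernel))
  have y3 : IsPGroup 3 (zpowers y) := isPGroup_zpowers (k := 1) (Subtype.ext (by decide +kernel))
  obtain ⟨c, -, hc⟩ := hS.exists_le_cj (x3.to_sup_of_normal_left' y3 ((zpowers_le.2 (by
    rw [cen_zp]
    exact mem_centralizer_singleton_iff.2 (Subtype.ext (by decide +kernel)))).trans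
      (centralizer_le_normalizer _))) le_top
  obtain ⟨c, rfl⟩ := hf.sur c
  obtain ⟨_, ⟨a, ha, rfl⟩, ea⟩ := hc (mem_sup_left (mem_zpowers x))
  obtain ⟨_, ⟨b, hb, rfl⟩, eb⟩ := hc (mem_sup_right (mem_zpowers y))
  obtain ⟨s, hs⟩ := hf.sur ⟨gen 1, gen_mem 1⟩
  have := main (F := F) hf.sp (hk ▸ hf.two)
    (fun n => match n with | 0 => c * a * c⁻¹ | 1 => s | _ => c * b * c⁻¹) (fun n => by
      match n with
      | 0 => simpa [F] using congrArg Subtype.val ea
      | 1 => simpa [F] using congrArg Subtype.val hs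
      | n + 2 => exact (by simpa [F] using congrArg Subtype.val eb : F (c * b * c⁻¹) = y)) (v := c * v * c⁻¹)
    (hk ▸ cjm (le_normalizer_oz (p := 2) (A := normalizer (f.ker : Set H)) le_rfl (nk c)) hz)
    (show c * a * c⁻¹ * _ * (c * a * c⁻¹)⁻¹ = _ by rw [conj_mul, hv.2 a ha]; group)
    (show c * b * c⁻¹ * _ * (c * b * c⁻¹)⁻¹ = _ by rw [conj_mul, hv.2 b hb]; group)
  exact conj_eq_one_iff.1 this

end H52.O8X6
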