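import Cfsg.Agent.H52.Block

/-! Maximal local subgroups that cannot be pushed up. -/

set_option autoImplicit false
set_option linter.unusedSectionVars false

namespace H52

open Subgroup Cfsg H98 H96 Matrix MatrixGroups
open scoped commutatorElement

universe u

variable {X : Type u} [Group X] {p q q' : ℕ} [hp : Fact p.Prime] [Finite X]
  {L T A Y B W W₀ : Subgroup X} {g : X} {F : Type*} [Field F] [Fintype F]

theorem Vtx.VL_inf_C (h : Vtx p q L) (hF : Fintype.card F = q) (h2 : (2 : F) ≠ 0) (hp2 : p ≠ 2)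
    (hs : L ⊓ stab (Vv p L) (Cv p L) ≤ pCoreOf p L) : ⁅L, Vv p L⁆ ⊓ Cv p L = ⊥ := by
  obtain ⟨M, _, _, c, hc⟩ := exists_crd (L := L) bot_le (n_Vv (p := p) L) (le_normalizer_bot L)
    (commutator_eq_bot_iff_le_centralizer.2 (zc_ab _)).le
  obtain ⟨t, ht, htQ, -, tc⟩ := h.spr.exists_central hF h2 hs
  have i1 := h.spr.inverts hF hs ht htQ tc
  let t' : L := ⟨t, ht⟩
  have hQ : ∀ s : L, (s : X) ∈ pCoreOf p L → ∀ m : M, s • m = m := fun s hs m => by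
    obtain ⟨u, hu, rfl⟩ := hc.surj m
    rw [hc.act s u hu, hu.2 s hs, mul_inv_cancel_right]
  have h4 : ∀ (l : L) (m : M), l • t' • m = t' • l • m := fun l m => by
    conv_rhs => rw [← hQ ⁅l, t'⁆ (tc l l.2) (t' • l • m)]
    simp only [← mul_smul, commutatorElement_def]
    congr 1; group
  have hC : ∀ z ∈ Cv p L, ∀ l : L, l • c z = c z := fun z hz l => by
    rw [hc.act l z hz.1, hz.2 l l.2, mul_inv_cancel_right]
  let K : Subgroup X :=
    { carrier := {u | u ∈ Vv p L ∧ t' • c u = -c u}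
      one_mem' := ⟨one_mem _, by simp [hc.one]⟩
      mul_mem' := fun {a b} ha hb => ⟨mul_mem ha.1 hb.1, by
        rw [hc.mul _ ha.1 _ hb.1, smul_add, ha.2, hb.2, neg_add]⟩
      inv_mem' := fun {a} ha => ⟨inv_mem ha.1, by rw [hc.inv ha.1, smul_neg, ha.2]⟩ }
  have h7 : ⁅L, Vv p L⁆ ≤ K := commutator_le.2 fun l hl u hu => ⟨h.spr.comm_mem hl hu, by
    have e : t' • c u + c u = c (t * u * t⁻¹ * u) := by
      rw [hc.act _ u hu, hc.mul _ (conj_mem_of_mem_normalizer (n_Vv L ht) hu) _ hu]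
    rw [← hc.dl ⟨l, hl⟩ hu, dl_apply, smul_sub, ← h4, eq_sub_of_add_eq e, smul_sub, hC _ (i1 u hu)]
    abel⟩
  refine eq_bot_iff.2 fun z hz => ?_
  have h9 := (h7 hz.1).2
  rw [hC z hz.2, eq_neg_iff_add_eq_zero, ← hc.mul _ hz.2.1 _ hz.2.1, hc.zero _ (mul_mem hz.2.1 hz.2.1),
    mem_bot, ← sq] at h9
  exact H13.eq_one_of_sq_eq_one_of_isPGroup hp2 (isPGroup_pCoreOf L) z hz.2.1.1 h9

theorem Spr.exists_qd (h : Spr p q L (pCoreOf p L) W₀) (hF : Fintype.card F = q) (h2 : (2 : F) ≠ 0)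
    (hs : L ⊓ stab (pCoreOf p L) W₀ ≤ pCoreOf p L) :
    ∃ Φ : L →* qdOver F, Function.Surjective Φ ∧ ∀ l : L, Φ l = 1 ↔ (l : X) ∈ W₀ := by
  obtain ⟨ρ, ψ, h1, h3, h4, h5, h6⟩ := h.exists_rho hF hs
  obtain ⟨t, ht⟩ := MonoidHom.range_eq_top.1 h1 (-1)
  have tc : ∀ l : L, ⁅(l : X), (t : X)⁆ ∈ pCoreOf p L := fun l => (h6 ⁅l, t⁆).1 (by
    rw [map_commutatorElement, ht, commutatorElement_eq_one_iff_mul_comm]
    simp)
  have nQ : ∀ (l : L) {u : X}, u ∈ pCoreOf p L → l * u * (l : X)⁻¹ ∈ pCoreOf p L := fun l u hu =>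
    conj_mem_of_mem_normalizer (h.nW l.2) hu
  let Φ : L →* qdOver F := MonoidHom.mk' (fun l => H11.qa (ρ l) (ψ ⟨_, tc l⟩).toAdd) fun a b => by
    rw [H11.qa_mul, map_mul, ← h5 a ⟨_, tc b⟩ ⟨_, nQ a (tc b)⟩ rfl, add_comm, ← toAdd_mul, ← map_mul ψ]
    refine congrArg (fun y => H11.qa (ρ a * ρ b) (ψ y).toAdd) (Subtype.ext ?_)
    exact H9.commutatorElement_mul_left' (a : X) b t
  have h7 : ∀ (v : L) (hv : (v : X) ∈ pCoreOf p L), Φ v = H11.qa 1 ((2 : F) • (ψ ⟨v, hv⟩).toAdd) :=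
    fun v hv => by
      have h8 := h5 t ⟨v, hv⟩⁻¹ ⟨_, nQ t (inv_mem hv)⟩ rfl
      rw [ht, map_inv, toAdd_inv] at h8
      change H11.qa (ρ v) _ = _
      rw [(h6 v).2 hv, two_smul]
      congr 1
      nth_rw 2 [show (ψ ⟨v, hv⟩).toAdd = _ from (by rw [h8]; simp [neg_mulVec, mulVec_neg] :
        _ = (ψ ⟨_, nQ t (inv_mem hv)⟩).toAdd)]
      rw [← toAdd_mul, ← map_mul]
      congr 3
      simp only [commutatorElement_def, mul_assoc]
  refine ⟨Φ, fun x => ?_, fun l => ⟨fun e => ?_, fun e => ?_⟩⟩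
  · obtain ⟨m, v, rfl⟩ := H11.exists_qa x
    obtain ⟨l, rfl⟩ := MonoidHom.range_eq_top.1 h1 m
    obtain ⟨u, hu⟩ := h3 (.ofAdd ((2 : F)⁻¹ • (v - (ψ ⟨_, tc l⟩).toAdd)))
    refine ⟨⟨u, pCoreOf_le L u.2⟩ * l, ?_⟩
    rw [map_mul, h7 _ u.2]
    change H11.qa 1 ((2 : F) • (ψ u).toAdd) * H11.qa (ρ l) _ = _
    rw [H11.qa_mul, hu, toAdd_ofAdd, smul_inv_smul₀ h2]
    simp
  · have h8 := (h6 l).1 (H11.qa_eq_one.1 e).1
    rw [h7 l h8, H11.qa_eq_one, smul_eq_zero_iff_right h2] at e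
    exact (h4 ⟨l, h8⟩).1 e.2
  · rw [h7 l (h.le e), (h4 ⟨l, h.le e⟩).2 e, H11.qa_eq_one]
    simp

theorem B1.qd (h : B1 p q L T A) (hF : Fintype.card F = q) (h2 : (2 : F) ≠ 0) (h3 : (3 : F) ≠ 0)
    (hp2 : p ≠ 2) (e : Vv p L = pCoreOf p L) : IsInternalDirectProduct (res p L) (Cv p L) L ∧
      IsElementaryAbelian p (Cv p L) ∧ Nonempty (res p L ≃* qdOver F) := by
  have hv := h.vtx
  have h4 : res p L ⊓ Cv p L = ⊥ := by
    refine eq_bot_iff.2 (le_trans (le_inf ?_ inf_le_right) (hv.VL_inf_C hF h2 hp2 h.stabV).le)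
    refine (inf_le_inf_left _ ((Cv_le L).trans (Vv_le_Q L))).trans ?_
    rw [inf_comm (res p L), ← H52.core_res, h.core_res, Pe, ← e, commutator_comm]
    exact commutator_mono (res_le L) le_rfl
  have h5 : res p L ⊔ Cv p L = L := by
    obtain ⟨ρ, -, k1, -, -, -, k2⟩ := hv.spr.exists_rho hF h.stabV
    have k3 := hv.r1.range_res ρ k1 fun e => (k2 e).2
    rw [Matrix.SL2.commutator_eq_top h2 (fun e => h3 (by linear_combination e))] at k3
    refine le_antisymm (sup_le (res_le L) ((Cv_le L).trans (Vv_le L))) fun l hl => ?_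
    obtain ⟨x, hx⟩ := MonoidHom.range_eq_top.1 k3 (ρ ⟨l, hl⟩)
    have k5 := (k2 ((inclusion (res_le L) x)⁻¹ * ⟨l, hl⟩)).1 (by
      rw [map_mul, map_inv, ← hx, MonoidHom.comp_apply, inv_mul_cancel])
    have k4 : (x : X)⁻¹ * l ∈ Vv p L := e.ge k5
    exact (mul_mem_cancel_left (inv_mem (mem_sup_left x.2))).1 (sup_le_sup_right
      ((hv.VE_le.trans inf_le_left).trans (Pe_le_res L)) _ (hv.VE_sup.ge k4))
  obtain ⟨Φ, k1, k2⟩ := (e ▸ hv.spr).exists_qd hF h2 (by have := h.stabV; rwa [e] at this)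
  refine ⟨⟨res_le L, (Cv_le L).trans (Vv_le L), fun a ha b hb => hb.2 a (res_le L ha), h4, h5⟩,
    H13.isEA_of_le hv.ea (Cv_le L), ⟨MulEquiv.ofBijective (Φ.comp (inclusion (res_le L)))
      ⟨(injective_iff_map_eq_one _).2 fun x hx => Subtype.ext (mem_bot.1 (h4.le ⟨x.2, (k2 _).1 hx⟩)),
        fun y => ?_⟩⟩⟩
  obtain ⟨l, rfl⟩ := k1 y
  obtain ⟨x, hx, z, hz, e1⟩ := (mem_sup_left_norm ((res_le L).trans (n_Cv L))).1 (h5.ge l.2)
  refine ⟨⟨x, hx⟩, ?_⟩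
  rw [show l = ⟨x, res_le L hx⟩ * ⟨z, Vv_le L hz.1⟩ from Subtype.ext e1, map_mul, (k2 ⟨z, _⟩).2 hz, mul_one]
  rfl

theorem R1.maxLocal (h : R1 p q L) (hc : CharP p L) (hT : IsSyl p T L) (hp3 : p ≠ 3)
    (hmax : ∀ R : Subgroup X, IsPGroup p R → R ≠ ⊥ → L ≤ normalizer (R : Set X) →
      normalizer (R : Set X) = L) (hN : ¬ normalizer (T : Set X) ≤ L) :
    ∃ A, B1 p q L T A ∧ Vv p L = pCoreOf p L := by
  have hd : ∀ N ≤ T, N ≠ ⊥ → L ≤ normalizer (N : Set X) →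
      ¬ normalizer (T : Set X) ≤ normalizer (N : Set X) := fun N h1 h2 h3 h4 =>
    hN (hmax N (hT.isPGroup.to_le h1) h2 h3 ▸ h4)
  have hv := h.vtx hc hT fun N h1 h2 h3 h4 => hd N h1 h2 h4 (by
    rw [← map_subgroupOf_eq_of_le h1]; exact normalizer_le_normalizer_map_subtype _)
  obtain ⟨x, h1, h2⟩ := (push_amb hv hT hd).resolve_right fun ⟨_, _, _, h1⟩ => hp3 h1.eq_three
  have hv' := hv.cj x
  have h3 := b1_of_crit hv hv' hT h1 h2
  have h4 := b1_of_crit hv' hv h1 hT (crit_symm hv' h1 ((Vv_le_Q L).trans hT.pCoreOf_le) h2)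
  have key : ∀ {a a' : Subgroup X}, B1 p q a T (Vv p a') → Vtx p q a' → IsSyl p T a' →
      ⁅pCoreOf p a, pCoreOf p a⁆ = ⁅pCoreOf p a ⊓ pCoreOf p a', pCoreOf p a ⊓ pCoreOf p a'⁆ := by
    intro a a' k1 k2 k3
    have k4 : pCoreOf p a ⊓ pCoreOf p a' ⊔ Vv p a = pCoreOf p a := by
      rw [← k2.inf_cent k3, ← inf_assoc, inf_eq_left.2 k1.syl.pCoreOf_le, sup_comm, k1.Q_eq]
    have k5 : pCoreOf p a ⊓ pCoreOf p a' ≤ normalizer (Vv p a : Set X) :=
      (inf_le_left.trans (pCoreOf_le a)).trans (n_Vv a)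
    conv_lhs => enter [1]; rw [← k4]
    rw [commutator_sup_centralizer_left inf_le_right (Or.inr k5), commutator_comm]
    conv_lhs => enter [1]; rw [← k4]
    exact commutator_sup_centralizer_left (inf_le_right.trans (centralizer_anti inf_le_left)) (Or.inr k5)
  refine ⟨_, h3, inf_eq_left.2 (commutator_eq_bot_iff_le_centralizer.1 ?_)⟩
  by_contra h5
  have h6 := hmax _ ((isPGroup_pCoreOf L).to_le (commutator_le_of_le le_rfl le_rfl)) h5
    (le_normalizer_commutator (self_le_normalizer_pCoreOf L) (self_le_normalizer_pCoreOf L))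
  rw [key h3 hv' h1, inf_comm, ← key h4 hv hT] at h6
  have h7 : cj x L = L := eq_of_le_of_card_ge ((le_normalizer_commutator
    (self_le_normalizer_pCoreOf _) (self_le_normalizer_pCoreOf _)).trans h6.le) (card_cj x L).ge
  exact h2 (h7.symm ▸ Vv_le_Q L)

end H52
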