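/- `π`-separable groups with a non-normal TI-subgroup that is Hall in its normalizer. -/
import Cfsg.Agent.H98.Sylow
import Cfsg.Agent.H1.Coprime2
import Cfsg.Agent.H1.InvSylow
import Cfsg.Agent.H18.Series
import Cfsg.Agent.H18.Misc2
import Cfsg.Agent.H2.PrimeCore
import Cfsg.Agent.H90.Zass
import Cfsg.Agent.H99.Idx
import Cfsg.Agent.H5.FrobCompl
import Cfsg.Agent.S0205

set_option autoImplicit false
set_option linter.unusedSectionVars false

namespace H52.TIH

open Cfsg Subgroup H98
open scoped commutatorElement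

variable {G : Type*} [Group G] [Finite G] {H O Q : Subgroup G}

theorem solv_or {A B : Subgroup G} (h : (Nat.card A).Coprime (Nat.card B)) :
    Group.IsSolvable A ∨ Group.IsSolvable B := by
  rcases Nat.even_or_odd (Nat.card A) with e | e
  · exact Or.inr (Cfsg.Agent.S0205.result (Nat.coprime_two_left.1 (h.coprime_dvd_left e.two_dvd)))
  · exact Or.inl (Cfsg.Agent.S0205.result e)

theorem le_of_forall_prime {A B : Subgroup G} (h : ∀ p : ℕ, p.Prime → ¬ p ∣ A.relIndex B) :
    B ≤ A := by
  rw [← relIndex_eq_one]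
  by_contra hn
  obtain ⟨p, hp, hd⟩ := Nat.exists_prime_and_dvd hn
  exact h p hp hd

theorem ti_nor (hTI : IsTISubset (H : Set G)) {K : Subgroup G} (hK : K ≤ H) (h1 : K ≠ ⊥) :
    normalizer (K : Set G) ≤ normalizer (H : Set G) := fun g hg => by
  by_contra hn
  exact h1 (eq_bot_iff.2 fun x hx => mem_bot.2
    (hTI g hn x (hK hx) (hK (conj_mem_of_mem_normalizer hg hx))))

theorem exists_syl (hTI : IsTISubset (H : Set G))
    (hH : (Nat.card H).Coprime (H.relIndex (normalizer (H : Set G)))) {p : ℕ} [hp : Fact p.Prime]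
    (hd : p ∣ Nat.card H) : ∃ P, P ≤ H ∧ IsSyl p P ⊤ := by
  obtain ⟨P, hP⟩ := exists_isSyl p H
  have h1 : P ≠ ⊥ := fun e => hP.eq_bot_iff.1 e hd
  have h2 : IsSyl p P (normalizer (H : Set G)) := by
    refine isSyl_of_not_dvd_relIndex (hP.le.trans le_normalizer) hP.isPGroup ?_
    rw [← relIndex_mul_relIndex P H _ hP.le le_normalizer]
    exact hp.out.not_dvd_mul hP.not_dvd_relIndex
      ((Nat.Prime.coprime_iff_not_dvd hp.out).1 (hH.coprime_dvd_left hd))
  exact ⟨P, hP.le, isSyl_of_isSyl_normalizer (h2.of_le (le_inf le_top le_normalizer)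
    (inf_le_right.trans (ti_nor hTI hP.le h1)))⟩

/-- The structure of the situation. -/
structure Su (H O : Subgroup G) : Prop where
  ti : IsTISubset (H : Set G)
  nn : ¬ H.Normal
  nO : O.Normal
  cO : (Nat.card H).Coprime (Nat.card O)
  maxO : ∀ K : Subgroup G, K.Normal → (Nat.card K).Coprime (Nat.card H) → K ≤ O
  top : O ⊔ normalizer (H : Set G) = ⊤

theorem exists_su (hTI : IsTISubset (H : Set G)) (hnn : ¬ H.Normal)
    (hH : (Nat.card H).Coprime (H.relIndex (normalizer (H : Set G))))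
    (hsep : H18.HasSeries (fun n => (∀ q : ℕ, q.Prime → q ∣ n → q ∣ Nat.card H) ∨
      n.Coprime (Nat.card H)) G)
    (hO : O = sSup {K : Subgroup G | K.Normal ∧ (Nat.card K).Coprime (Nat.card H)}) : Su H O := by
  have hmax : ∀ K : Subgroup G, K.Normal → (Nat.card K).Coprime (Nat.card H) → K ≤ O :=
    fun K h1 h2 => hO ▸ le_sSup ⟨h1, h2⟩
  have nO : O.Normal := hO ▸ sSup_normal _ fun _ h => h.1
  have cO : (Nat.card H).Coprime (Nat.card O) := by
    have h1 : O ≤ piCore {p | ¬ p ∣ Nat.card H} G := hO ▸ sSup_le fun K hK => by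
      have := hK.1
      exact H2.le_piCore fun p hp hd =>
        (Nat.Prime.coprime_iff_not_dvd hp).1 (hK.2.coprime_dvd_left hd)
    exact Nat.Coprime.symm (Nat.coprime_of_dvd fun p hp hd =>
      H2.mem_of_dvd_card_piCore _ G p hp (hd.trans (card_dvd_of_le h1)))
  refine ⟨hTI, hnn, nO, cO, hmax, ?_⟩
  have hne : O ≠ ⊤ := fun e => hnn (by
    have : H = ⊥ := by
      rw [← card_eq_one]
      exact cO.eq_one_of_dvd (card_dvd_of_le (e ▸ le_top))
    rw [this]; infer_instance)
  obtain ⟨M, nM, hlt, hP⟩ := hsep.hasSteps (fun a b hab hb => hb.imp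
    (fun h q hq hd => h q hq (hd.trans hab)) fun h => h.coprime_dvd_left hab) O nO hne
  have hπ : ∀ q : ℕ, q.Prime → q ∣ O.relIndex M → q ∣ Nat.card H := by
    refine hP.resolve_right fun hc => hlt.not_ge (hmax M nM ?_)
    rw [← relIndex_bot_left, ← relIndex_mul_relIndex ⊥ O M bot_le hlt.le, relIndex_bot_left]
    exact Nat.Coprime.mul_left cO.symm hc
  have hM : M ≤ O ⊔ (H ⊓ M) := le_of_forall_prime fun p hp hd => by
    have : Fact p.Prime := ⟨hp⟩
    obtain ⟨P, hPH, hP⟩ := exists_syl hTI hH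
      (hπ p hp (hd.trans (relIndex_dvd_of_le_left _ le_sup_left)))
    have := hP.inf_of_le_normalizer (N := M) le_top (by rw [normalizer_eq_top]; exact le_top)
    exact this.not_dvd_relIndex (hd.trans (relIndex_dvd_of_le_left _
      ((inf_le_inf_right _ hPH).trans le_sup_right)))
  have hK : H ⊓ M ≠ ⊥ := fun e => hlt.not_ge (by rwa [e, sup_bot_eq] at hM)
  refine top_le_iff.1 fun g _ => ?_
  have hc : (Nat.card (cj g (H ⊓ M))).Coprime (Nat.card O) := by
    rw [card_cj]; exact cO.coprime_dvd_left (card_dvd_of_le inf_le_left)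
  obtain ⟨n, hn, e⟩ := H1.exists_conj_le_of_le_mul (cj g (H ⊓ M)) O (H ⊓ M)
    (by rw [normalizer_eq_top]; exact le_top) hc (solv_or hc) fun a ha =>
      (mem_sup_right_norm (by rw [normalizer_eq_top]; exact le_top)).1
        (hM (cj_le_of_le inf_le_right (by rw [normalizer_eq_top]; trivial) ha))
  rw [← cj_eq_smul, cj_cj] at e
  rw [show g = n⁻¹ * (n * g) by group]
  exact mul_mem (mem_sup_left (inv_mem hn))
    (mem_sup_right (ti_nor hTI inf_le_left hK (mem_normalizer_of_cj_le e)))

/-- A group that acts fixed-point-freely on a section. -/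
theorem free_of_section {X C : Subgroup G} (hlt : C < X) (hX : H ≤ normalizer (X : Set G))
    (hC : H ≤ normalizer (C : Set G)) (hXC : X ≤ normalizer (C : Set G))
    (hf : ∀ h ∈ H, h ≠ 1 → ∀ x ∈ X, h * x * h⁻¹ * x⁻¹ ∈ C → x ∈ C) : H90.Free H := by
  let N := normalizer (C : Set G)
  let f := QuotientGroup.mk' (C.subgroupOf N)
  let ψ : H →* N ⧸ C.subgroupOf N := f.comp (inclusion hC)
  have hker : ∀ x : N, f x = 1 ↔ (x : G) ∈ C := fun x => QuotientGroup.eq_one_iff x
  have hψ : Function.Injective ψ := (injective_iff_map_eq_one ψ).2 fun h e => by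
    by_contra h1
    have hc : (h : G) ∈ C := (hker _).1 e
    refine hlt.not_ge fun x hx => hf h h.2 (fun e => h1 (Subtype.ext e)) x hx ?_
    rw [show (h : G) * x * (h : G)⁻¹ * x⁻¹ = h * (x * (h : G)⁻¹ * x⁻¹) by group]
    exact mul_mem hc (conj_mem_of_mem_normalizer (hXC hx) (inv_mem hc))
  have hF : H90.Free ψ.range := by
    refine H90.Free.of_subgroup_fpf (K := (X.subgroupOf N).map f) (fun e => hlt.not_ge fun x hx => ?_)
      ?_ ?_
    · exact (hker ⟨x, hXC hx⟩).1 (mem_bot.1 (e ▸ mem_map_of_mem f (mem_subgroupOf.2 hx)))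
    · rintro _ ⟨h, rfl⟩
      refine map_le_normalizer_map f (H := H.subgroupOf N) (comap_le_normalizer_comap _ hX) ?_
      exact mem_map_of_mem f h.2
    · rintro _ ⟨h, rfl⟩ h1
      refine eq_bot_iff.2 ?_
      rintro _ ⟨⟨x, hx, rfl⟩, hc⟩
      refine mem_bot.2 ((hker x).2 (hf h h.2 (fun e => h1 ?_) x hx ?_))
      · rw [show h = 1 from Subtype.ext e, map_one]
      · have := mem_centralizer_singleton_iff.1 hc
        refine (hker (inclusion hC h * x * (inclusion hC h)⁻¹ * x⁻¹)).1 ?_
        rw [map_mul, map_mul, map_mul, map_inv, map_inv]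
        show ψ h * f x * (ψ h)⁻¹ * (f x)⁻¹ = 1
        rw [← this]; group
  exact hF.of_injective ψ.rangeRestrict fun a b e => hψ (congrArg Subtype.val e)

theorem comm_mem_of_zpowers {C : Subgroup G} {a b x : G} (ha : a ∈ normalizer (C : Set G))
    (e : a * x * a⁻¹ * x⁻¹ ∈ C) (hb : b ∈ zpowers a) : b * x * b⁻¹ * x⁻¹ ∈ C := by
  let S : Subgroup G :=
    { carrier := {b | b ∈ normalizer (C : Set G) ∧ b * x * b⁻¹ * x⁻¹ ∈ C}
      one_mem' := ⟨one_mem _, by simp⟩
      mul_mem' := fun {b c} hb hc => ⟨mul_mem hb.1 hc.1, by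
        rw [show b * c * x * (b * c)⁻¹ * x⁻¹ =
          b * (c * x * c⁻¹ * x⁻¹) * b⁻¹ * (b * x * b⁻¹ * x⁻¹) by group]
        exact mul_mem (conj_mem_of_mem_normalizer hb.1 hc.2) hb.2⟩
      inv_mem' := fun {b} hb => ⟨inv_mem hb.1, by
        rw [show b⁻¹ * x * b⁻¹⁻¹ * x⁻¹ = b⁻¹ * (b * x * b⁻¹ * x⁻¹)⁻¹ * b by group]
        exact conj_mem_of_mem_normalizer' hb.1 (inv_mem hb.2)⟩ }
  exact (zpowers_le.2 (show a ∈ S from ⟨ha, e⟩) hb).2

theorem comm_le_cen {A N : Subgroup G} (hN : N ≤ normalizer (A : Set G)) (hc : IsCyclic A) :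
    ⁅N, N⁆ ≤ centralizer (A : Set G) := by
  let L := normalizer (A : Set G)
  have : IsCyclic (A.subgroupOf L) :=
    isCyclic_of_surjective _ (subgroupOfEquivOfLe (le_normalizer (H := A))).symm.surjective
  have h1 := H90.commutator_le_centralizer_of_cyclic (A.subgroupOf L)
  refine commutator_le.2 fun a ha b hb => mem_centralizer_iff.2 fun y hy => ?_
  have h2 := h1 (commutator_mem_commutator (mem_top (⟨a, hN ha⟩ : L)) (mem_top ⟨b, hN hb⟩))
  exact congrArg Subtype.val (mem_centralizer_iff.1 h2 ⟨y, le_normalizer hy⟩ hy)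

/-- For a `Z`-group `H` normalized by `Q`, the commutator `[H, Q]` is cyclic. -/
theorem cyclic_comm [IsZGroup H] (hQ : Q ≤ normalizer (H : Set G)) :
    IsCyclic (⁅H, Q⁆ : Subgroup G) := by
  have hD : IsCyclic (⁅H, H⁆ : Subgroup G) := by
    have := IsZGroup.isCyclic_commutator (G := H)
    rw [← map_subtype_commutator]
    exact isCyclic_of_surjective _ (H.subtype.subgroupMap_surjective (commutator H))
  have h1 : ⁅H, Q⁆ ≤ centralizer ((⁅H, H⁆ : Subgroup G) : Set G) :=
    (commutator_mono le_normalizer hQ).trans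
      (comm_le_cen (le_normalizer_commutator le_rfl le_rfl) hD)
  have h2 : ⁅H, Q⁆ ≤ H := commutator_le_left' hQ
  let f : (⁅H, Q⁆ : Subgroup G) →* Abelianization H := Abelianization.of.comp (inclusion h2)
  have hc := commutative_of_cyclic_center_quotient f fun x hx => by
    have h3 : (x : G) ∈ ⁅H, H⁆ := by
      rw [← map_subtype_commutator]
      exact mem_map_of_mem H.subtype (x := inclusion h2 x) (Abelianization.ker_of H ▸ hx)
    exact mem_center_iff.2 fun y => Subtype.ext (mem_centralizer_iff.1 (h1 y.2) x h3).symm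
  have : IsZGroup (⁅H, Q⁆ : Subgroup G) := IsZGroup.of_injective (inclusion_injective h2)
  let _ : CommGroup (⁅H, Q⁆ : Subgroup G) := { mul_comm := hc }
  infer_instance

theorem solv_of_comm {A B : Subgroup G} (h : ⁅A, A⁆ ≤ B) (hB : Group.IsSolvable B) :
    Group.IsSolvable A := by
  have : Group.IsSolvable (B.subgroupOf A) := by
    have h1 : Group.IsSolvable (B ⊓ A : Subgroup G) := H1.isSolvable_of_le inf_le_left hB
    rw [← inf_subgroupOf_right]
    exact Group.isSolvable_of_surjective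
      (f := (subgroupOfEquivOfLe inf_le_right).symm.toMonoidHom) (MulEquiv.surjective _)
  refine H90.isSolvable_of_commutator_le (N := B.subgroupOf A) fun x hx => h ?_
  rw [← map_subtype_commutator]
  exact mem_map_of_mem A.subtype hx

namespace Su
variable (h : Su H O)
include h

theorem nrm (A : Subgroup G) : A ≤ normalizer (O : Set G) := by
  have := h.nO
  rw [normalizer_eq_top]; exact le_top

theorem inf_bot : H ⊓ O = ⊥ := (disjoint_of_coprime_natCard h.cO).eq_bot

theorem normal_sup {A : Subgroup G} (hA : normalizer (H : Set G) ≤ normalizer (A : Set G)) :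
    (O ⊔ A).Normal :=
  normal_of_top_le_normalizer (h.top ▸ sup_le (le_normalizer_of_le le_sup_left)
    (le_normalizer_sup (h.nrm _) hA))

theorem cen_of_comm {a x : G} (ha : a ∈ H) (a1 : a ≠ 1) (hx : x ∈ O) (e : x * a = a * x) :
    x ∈ centralizer (H : Set G) := by
  have hn : x ∈ normalizer (H : Set G) := by
    by_contra hn
    exact a1 (h.ti x hn a ha (by rw [e, mul_inv_cancel_right]; exact ha))
  refine mem_centralizer_iff.2 fun y hy => ?_
  have h1 : y * x * y⁻¹ * x⁻¹ ∈ H ⊓ O := mem_inf.2 ⟨by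
    rw [show y * x * y⁻¹ * x⁻¹ = y * (x * y⁻¹ * x⁻¹) by group]
    exact H.mul_mem hy (conj_mem_of_mem_normalizer hn (H.inv_mem hy)),
    O.mul_mem (h.nO.conj_mem x hx y) (O.inv_mem hx)⟩
  rw [h.inf_bot, mem_bot] at h1
  calc y * x = y * x * y⁻¹ * x⁻¹ * (x * y) := by group
    _ = x * y := by rw [h1, one_mul]

theorem free : H90.Free H := by
  by_contra hF
  have hO : O ≤ O ⊓ centralizer (H : Set G) := le_of_forall_prime fun p hp hd => by
    have : Fact p.Prime := ⟨hp⟩
    obtain ⟨P, -, hPO, hP, hi, hn⟩ := H1.exists_invariant_pgroup_relIndex H O (h.nrm _) h.cO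
      (solv_or h.cO) p ⊥ bot_le IsPGroup.of_bot (le_normalizer_bot _)
    refine hi (hd.trans (relIndex_dvd_of_le_left _ (le_inf hPO ?_)))
    by_contra hc
    have hlt : P ⊓ centralizer (H : Set G) < P :=
      lt_of_le_of_ne inf_le_left fun e => hc (e ▸ inf_le_right)
    have hC : H ≤ normalizer ((P ⊓ centralizer (H : Set G) : Subgroup G) : Set G) :=
      le_normalizer_inf hn (le_normalizer_centralizer le_normalizer)
    refine hF (free_of_section (lt_inf_normalizer hP hlt)
      (le_normalizer_inf hn (le_normalizer_normalizer hC)) hC inf_le_right fun a ha a1 x hx e => ?_)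
    have hc' : (Nat.card (zpowers a)).Coprime (Nat.card (P ⊓ centralizer (H : Set G) : Subgroup G)) :=
      (h.cO.coprime_dvd_left (card_dvd_of_le (zpowers_le.2 ha))).coprime_dvd_right
        (card_dvd_of_le (inf_le_left.trans hPO))
    obtain ⟨n, hn', hnx⟩ := H1.exists_centralizer_mem_coset' ((zpowers_le.2 ha).trans hC) hc'
      (solv_or hc') x fun b hb => comm_mem_of_zpowers (hC ha) e hb
    have h2 := h.cen_of_comm ha a1 (mul_mem (hPO hn'.1) (hPO hx.1))
      (mem_centralizer_iff.1 hnx a (mem_zpowers a)).symm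
    exact mem_inf.2 ⟨hx.1, (mul_mem_cancel_left (mem_inf.1 hn').2).1 h2⟩
  refine h.nn (normal_of_top_le_normalizer (h.top ▸ sup_le ?_ le_rfl))
  exact (hO.trans inf_le_right).trans (centralizer_le_normalizer _)

theorem solvable (hO : Group.IsSolvable O) (hH : Group.IsSolvable H)
    (hQ : Q ⊔ H = normalizer (H : Set G)) (hc : (Nat.card Q).Coprime (Nat.card H)) :
    Group.IsSolvable G := by
  have hQN : Q ≤ normalizer (H : Set G) := hQ ▸ le_sup_left
  have hs : Group.IsSolvable Q := by
    rcases Nat.even_or_odd (Nat.card H) with e | e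
    · exact Cfsg.Agent.S0205.result (Nat.coprime_two_right.1 (hc.coprime_dvd_right e.two_dvd))
    have := h.free.isZGroup_of_odd e
    have hD : Q ⊓ centralizer (H : Set G) ≤ O := by
      refine le_sup_right.trans (h.maxO _ (h.normal_sup (hQ ▸ sup_le ?_ ?_)) ?_)
      · exact le_normalizer_inf le_normalizer (le_normalizer_centralizer hQN)
      · exact le_normalizer_of_le_centralizer (le_centralizer_iff.1 inf_le_right)
      · rw [sup_comm]
        exact (Nat.Coprime.mul_left (hc.coprime_dvd_left (card_dvd_of_le inf_le_left))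
          h.cO.symm).coprime_dvd_left (H99.card_sup_dvd_of_le_normalizer (h.nrm _))
    refine solv_of_comm (le_trans (le_inf (commutator_le_of_le le_rfl le_rfl) ?_) hD) hO
    rw [← H1.commutator_sup_centralizer hQN hc (Or.inr hH), centralizer_sup]
    refine le_inf (comm_le_cen (H1.le_normalizer_commutator_right H Q) (cyclic_comm hQN)) ?_
    exact (commutator_le_of_le le_rfl le_rfl).trans (le_centralizer_iff.1 inf_le_right)
  have h1 : Group.IsSolvable (normalizer (H : Set G)) := by
    rw [← hQ, sup_comm]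
    exact H5.isSolvable_sup_of_le_normalizer hQN
  have h2 := H5.isSolvable_sup_of_le_normalizer (h.nrm (normalizer (H : Set G)))
  rw [h.top] at h2
  exact Group.isSolvable_of_surjective (f := (⊤ : Subgroup G).subtype) fun x => ⟨⟨x, trivial⟩, rfl⟩

theorem complement [IsZGroup H] (hQ : Q ⊔ H = normalizer (H : Set G))
    (hc : (Nat.card Q).Coprime (Nat.card H)) :
    ∃ N : Subgroup G, N.Normal ∧ N ⊔ (H ⊓ centralizer (Q : Set G)) = ⊤ ∧
      (Nat.card N).Coprime (Nat.card (H ⊓ centralizer (Q : Set G) : Subgroup G)) := by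
  have hQN : Q ≤ normalizer (H : Set G) := hQ ▸ le_sup_left
  have hK : ⁅H, Q⁆ ≤ H := commutator_le_left' hQN
  have hsup := H1.commutator_sup_centralizer hQN hc (Or.inr inferInstance)
  have nQ := H1.le_normalizer_commutator_right H Q
  have nH := H1.le_normalizer_commutator_left H Q
  have hcy := cyclic_comm hQN
  have hbot : ⁅H, Q⁆ ⊓ centralizer (Q : Set G) = ⊥ := by
    have := H1.centralizer_inf_commutator_eq_bot nQ (hc.coprime_dvd_right (card_dvd_of_le hK))
    rwa [H1.commutator_commutator_eq hQN hc (Or.inr inferInstance), inf_right_comm, inf_idem] at this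
  have hco : (Nat.card (⁅H, Q⁆ : Subgroup G)).Coprime
      (Nat.card (H ⊓ centralizer (Q : Set G) : Subgroup G)) := Nat.coprime_of_dvd fun p hp d1 d2 => by
    have : Fact p.Prime := ⟨hp⟩
    obtain ⟨x, hx⟩ := exists_prime_orderOf_dvd_card' p d2
    have ox : orderOf (x : G) = p := by rw [← hx]; exact orderOf_coe x
    have px : IsPGroup p (zpowers (x : G)) :=
      isPGroup_zpowers (k := 1) (by rw [pow_one, ← ox, pow_orderOf_eq_one])
    obtain ⟨P, hP, hxP⟩ := exists_isSyl_le px (zpowers_le.2 x.2.1)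
    have cP : IsCyclic P := by
      have := (isPGroup_subgroupOf hP.isPGroup H).isCyclic_of_isZGroup
      exact isCyclic_of_surjective _ (subgroupOfEquivOfLe hP.le).surjective
    have s1 := hP.inf_of_le_normalizer hK (hP.le.trans nH)
    have d3 : p ∣ Nat.card (P ⊓ ⁅H, Q⁆ : Subgroup G) := by
      obtain ⟨k, hk⟩ := (s1.isPGroup).exists_card_eq
      rcases k with - | k
      · exact (s1.eq_bot_iff.1 (card_eq_one.1 hk) d1).elim
      · rw [hk]; exact dvd_pow_self p k.succ_ne_zero
    have h1 := H18.le_of_isCyclic_of_card_dvd cP hxP inf_le_left (by rwa [Nat.card_zpowers, ox])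
    have h2 : (x : G) ∈ ⁅H, Q⁆ ⊓ centralizer (Q : Set G) :=
      mem_inf.2 ⟨(h1 (mem_zpowers _)).2, x.2.2⟩
    rw [hbot, mem_bot] at h2
    rw [h2, orderOf_one] at ox
    exact hp.one_lt.ne ox
  refine ⟨O ⊔ (Q ⊔ ⁅H, Q⁆), h.normal_sup (hQ ▸ sup_le (le_normalizer_of_le le_sup_left) ?_), ?_, ?_⟩
  · intro a ha
    refine mem_normalizer_of_cj_le ?_
    rw [cj_sup, cj_eq_self (nH ha)]
    refine sup_le (cj_le_iff.2 fun q hq => mem_cj.2 ?_) le_sup_right
    rw [inv_inv, show a * q * a⁻¹ = ⁅a, q⁆ * q by rw [commutatorElement_def]; group]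
    exact mul_mem (mem_sup_right (commutator_mem_commutator ha hq)) (mem_sup_left hq)
  · rw [sup_assoc, sup_assoc, hsup, hQ, h.top]
  · have dC := card_dvd_of_le (inf_le_left (a := H) (b := centralizer (Q : Set G)))
    rw [sup_comm]
    refine Nat.Coprime.coprime_dvd_left (H99.card_sup_dvd_of_le_normalizer (h.nrm _))
      (Nat.Coprime.mul_left ?_ (h.cO.symm.coprime_dvd_right dC))
    exact Nat.Coprime.coprime_dvd_left (H99.card_sup_dvd_of_le_normalizer nQ)
      (Nat.Coprime.mul_left (hc.coprime_dvd_right dC) hco)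

end Su

theorem exists_compl (hH : (Nat.card H).Coprime (H.relIndex (normalizer (H : Set G)))) :
    ∃ Q : Subgroup G, Q ⊔ H = normalizer (H : Set G) ∧ (Nat.card Q).Coprime (Nat.card H) := by
  let N := normalizer (H : Set G)
  have e : Nat.card (H.subgroupOf N) = Nat.card H :=
    Nat.card_congr (subgroupOfEquivOfLe le_normalizer).toEquiv
  obtain ⟨Q, hQ⟩ := exists_right_complement'_of_coprime (N := H.subgroupOf N) (by rw [e]; exact hH)
  refine ⟨Q.map N.subtype, ?_, ?_⟩
  · have := congrArg (map N.subtype) hQ.sup_eq_top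
    rwa [Subgroup.map_sup, map_subgroupOf_eq_of_le le_normalizer, ← MonoidHom.range_eq_map,
      range_subtype, sup_comm] at this
  · rw [card_map_of_injective N.subtype_injective, ← hQ.symm.index_eq_card]
    exact hH.symm

theorem coprime_of_compl (hH : (Nat.card H).Coprime (H.relIndex (normalizer (H : Set G))))
    (h1 : Q ⊓ H = ⊥) (h2 : Q ⊔ H = normalizer (H : Set G)) :
    (Nat.card Q).Coprime (Nat.card H) := by
  rw [← h2, H99.relIndex_sup_of_le_normalizer (h2 ▸ le_sup_left), ← inf_relIndex_left, h1,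
    relIndex_bot_left] at hH
  exact hH.symm

end H52.TIH
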