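import Cfsg.Agent.H88.TESpec2
import Cfsg.Agent.H69.Std6

/-! TE2: coordinates on `P` for the jobs S6 and S7. -/

set_option autoImplicit false
set_option linter.unusedSectionVars false

namespace H52.TeK

open Subgroup Cfsg H98 H1.Gold H86.L34 H88.AS H88.TE
open H6 (F4)

universe u
variable {G : Type u} [Group G] [Finite G] {s : SD G} {g g' : G} {φ φ' : V4 → V4}

theorem mem_cl {S : Set G} (h1 : (1 : G) ∈ S) (hm : ∀ x ∈ S, ∀ y ∈ S, x * y ∈ S) {g : G} :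
    g ∈ closure S ↔ g ∈ S :=
  ⟨fun h => closure_induction (fun _ h => h) h1 (fun x y _ _ a b => hm x a y b) (fun x _ a => by
    have : ∀ n : ℕ, x ^ n ∈ S := fun n => by
      induction n with
      | zero => simpa using h1
      | succ n ih => exact pow_succ x n ▸ hm _ ih _ a
    have e : x⁻¹ = x ^ (orderOf x - 1) := by
      rw [inv_eq_iff_mul_eq_one, ← pow_succ', Nat.sub_add_cancel (orderOf_pos x), pow_orderOf_eq_one]
    exact e ▸ this _) h, fun h => subset_closure h⟩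

theorem mc {X : Subgroup G} : g ∈ cen X ↔ ∀ x ∈ X, g * x * g⁻¹ = x :=
  ⟨fun h x hx => by rw [← h x hx, mul_inv_cancel_right], fun h x hx => by
    rw [← mul_inv_eq_iff_eq_mul.1 (h x hx)]⟩

theorem mc1 {x : G} : g ∈ cen1 x ↔ g * x * g⁻¹ = x :=
  mem_centralizer_singleton_iff.trans mul_inv_eq_iff_eq_mul.symm

theorem two : (2 : F4) = 0 := F4.two_eq

/-- The cocycle of `P`. -/
def cc (x y : V4) : F4 := x.2.1 * y.1 + x.2.2.1 * y.2.2.2

variable (h : Sz s)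
include h

theorem rR (c : F4) : s.r c ∈ s.R := (h.pr.mem _).2 ⟨c, Or.inl rfl, rfl⟩
theorem rK (c : F4) : s.r c ∈ s.K := h.pr.syl.le (rR h c)
theorem r_add (c c' : F4) : s.r (c + c') = s.r c * s.r c' := h.pr.add _ _ (Or.inl rfl) (Or.inl rfl)
theorem r0 : s.r 0 = 1 := by simpa using r_add h 0 0
theorem β0 : s.β 0 = 1 := by simpa using h.loc.add 0 0
theorem ru (c a b e : F4) : s.u a b e * s.r c = s.r c * s.u a b e := rK h c _ (h.fr.uA a b e)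
theorem βr (x c : F4) : s.β x * s.r c = s.r c * s.z (c * x) * s.β x := by
  rw [← h.loc.βr x c (Or.inl rfl), inv_mul_cancel_right]

theorem up (a b e : F4) : s.u a b e = s.p (0, 0, a, b) e := by simp [SD.p, r0 h, β0 h]
theorem zp (e : F4) : s.z e = s.p 0 e := up h 0 0 e
theorem p0 : s.p 0 0 = 1 := by rw [← zp h]; exact h.fr.hm.one

theorem p_mul (x y : V4) (e e' : F4) : s.p x e * s.p y e' = s.p (x + y) (e + e' + cc x y) := by
  obtain ⟨c, d, a, b⟩ := x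
  obtain ⟨c', d', a', b'⟩ := y
  simp only [SD.p, cc, Prod.mk_add_mk]
  calc _ = s.r c * s.β d * (s.u a b e * s.r c') * s.β d' * s.u a' b' e' := by group
    _ = s.r c * (s.β d * s.r c') * (s.u a b e * s.β d') * s.u a' b' e' := by rw [ru h]; group
    _ = s.r c * s.r c' * (s.z (c' * d) * (s.β d * s.β d')) * (s.u a b e * s.u a' b' e') := by
      rw [βr h, ← (h.loc.βu d' a b e).eq]; group
    _ = s.r (c + c') * s.β (d + d') * (s.z (c' * d) * (s.u a b e * s.u a' b' e')) := by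
      rw [← r_add h, ← h.loc.add, ← (h.loc.βu _ 0 0 _).eq]; group
    _ = _ := by
      rw [h.fr.hm.mul, h.fr.hm.mul]
      exact congrArg _ (cg _ (by ring) (by ring) (by ring))

theorem pz (x : V4) (e e' : F4) : s.p x e * s.z e' = s.p x (e + e') := by
  rw [zp h, p_mul h]; simp [cc]

theorem zpm (x : V4) (e e' : F4) : s.z e' * s.p x e = s.p x (e + e') := by
  rw [zp h, p_mul h]; simp [cc, add_comm]

theorem xx (x : V4) : x + x = 0 := by ext <;> simp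

theorem p_sq (x : V4) (e : F4) : s.p x e * s.p x e = s.z (qf x) := by
  rw [p_mul h, xx h, zp h, F4.add_self, zero_add, cc, qf, mul_comm x.1]

theorem zz (e e' : F4) : s.z e * s.z e' = s.z (e + e') := by rw [zp h, pz h, zp h]
theorem z0 : s.z 0 = 1 := h.fr.hm.one
theorem z2 (e : F4) : s.z e * s.z e = 1 := by rw [zz h, F4.add_self, z0 h]
theorem zi (e : F4) : (s.z e)⁻¹ = s.z e := inv_eq_of_mul_eq_one_right (z2 h e)
theorem z_inj {e e' : F4} (a : s.z e = s.z e') : e = e' := (h.fr.hm.ext a).2.2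
theorem z_eq_one {e : F4} : s.z e = 1 ↔ e = 0 :=
  ⟨fun a => z_inj h (a.trans (z0 h).symm), fun a => a ▸ z0 h⟩

theorem p_inv (x : V4) (e : F4) : (s.p x e)⁻¹ = s.p x (e + qf x) := by
  rw [inv_eq_iff_mul_eq_one, ← pz h, ← mul_assoc, p_sq h, z2 h]

theorem p_conj (x y : V4) (e e' : F4) :
    s.p x e * s.p y e' * (s.p x e)⁻¹ = s.p y (e' + bf x y) := by
  rw [mul_inv_eq_iff_eq_mul, p_mul h, p_mul h, add_comm y]
  congr 1
  simp only [cc, bf]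
  linear_combination (-(x.1 * y.2.1) - x.2.2.2 * y.2.2.1) * two

theorem p_one {x : V4} {e : F4} (a : s.p x e = 1) : x = 0 ∧ e = 0 := by
  obtain ⟨c, d, a', b⟩ := x
  have h1 := p_conj h (c, d, a', b) (1, 0, 0, 0) e 0
  rw [a, one_mul, inv_one, mul_one, ← pz h, left_eq_mul, z_eq_one h] at h1
  obtain rfl : d = 0 := by simpa [bf] using h1
  simp only [SD.p, β0 h, mul_one] at a
  have h2 : s.r c ∈ s.A := eq_inv_of_mul_eq_one_left a ▸ inv_mem (h.fr.uA _ _ _)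
  have h3 : s.r c = 1 := H69.eq_one_of_odd_of_mul_self
    (h.fr.zodd _ h2 (rK h c)) (by rw [← r_add h, F4.add_self, r0 h])
  rw [h3, one_mul] at a
  obtain ⟨rfl, rfl, rfl⟩ := h.fr.hm.inj a
  exact ⟨by rw [h.pr.inj c (Or.inl rfl) h3]; rfl, rfl⟩

theorem p_ext {x y : V4} {e e' : F4} (a : s.p x e = s.p y e') : x = y ∧ e = e' := by
  have b := mul_inv_eq_one.2 a
  rw [p_inv h, p_mul h] at b
  obtain rfl : x = y := by rw [← add_zero x, ← xx h y, ← add_assoc, (p_one h b).1, zero_add]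
  refine ⟨rfl, z_inj h (mul_left_cancel (a := s.p x 0) ?_)⟩
  rw [pz h, pz h, zero_add, zero_add, a]

theorem mem_P : g ∈ s.P ↔ ∃ x e, s.p x e = g := mem_cl (S := {g | ∃ x e, s.p x e = g}) ⟨0, 0, p0 h⟩ (by
  rintro _ ⟨x, e, rfl⟩ _ ⟨y, e', rfl⟩; exact ⟨_, _, (p_mul h x y e e').symm⟩)

theorem pP (x : V4) (e : F4) : s.p x e ∈ s.P := (mem_P h).2 ⟨x, e, rfl⟩

theorem mem_Z : g ∈ s.Z ↔ ∃ e, s.z e = g := mem_cl (S := {g | ∃ e, s.z e = g}) ⟨0, z0 h⟩ (by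
  rintro _ ⟨x, rfl⟩ _ ⟨y, rfl⟩; exact ⟨_, (zz h x y).symm⟩)

theorem zZ (e : F4) : s.z e ∈ s.Z := (mem_Z h).2 ⟨e, rfl⟩

theorem mem_V : g ∈ s.V₁ ↔ ∃ a e, s.u a 0 e = g := mem_cl (S := {g | ∃ a e, s.u a 0 e = g}) ⟨0, 0, z0 h⟩ (by
  rintro _ ⟨a, e, rfl⟩ _ ⟨a', e', rfl⟩
  exact ⟨a + a', e + e', by rw [h.fr.hm.mul]; simp⟩)

theorem uV (a e : F4) : s.u a 0 e ∈ s.V₁ := (mem_V h).2 ⟨a, e, rfl⟩

theorem mem_cZ : g ∈ cen s.Z ↔ ∀ e, g * s.z e * g⁻¹ = s.z e :=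
  mc.trans ⟨fun a e => a _ (zZ h e), fun a x hx => by
    obtain ⟨e, rfl⟩ := (mem_Z h).1 hx; exact a e⟩

theorem mem_cV : g ∈ cen s.V₁ ↔ ∀ a e, g * s.u a 0 e * g⁻¹ = s.u a 0 e :=
  mc.trans ⟨fun b a e => b _ (uV h a e), fun b x hx => by
    obtain ⟨a, e, rfl⟩ := (mem_V h).1 hx; exact b a e⟩

theorem p_cZ (x : V4) (e : F4) : s.p x e ∈ cen s.Z := (mem_cZ h).2 fun e' => by
  rw [zp h, p_conj h]; simp [bf]

theorem P_cZ : s.P ≤ cen s.Z := fun g a => by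
  obtain ⟨x, e, rfl⟩ := (mem_P h).1 a; exact p_cZ h x e

theorem A_cO : s.A ≤ cen s.O := le_centralizer_iff.1 (h.loc.od.le.trans inf_le_left)

theorem β_cO (x : F4) : s.β x ∈ cen s.O := fun o ho => (h.loc.βO x o ho).eq.symm

theorem p_cO (x : V4) (e : F4) : s.p x e ∈ cen s.O := mul_mem (mul_mem
  (le_centralizer_iff.1 (h.loc.od.le.trans inf_le_right) (rR h _)) (β_cO h _)) (A_cO h (h.fr.uA _ _ _))

theorem P_cO : s.P ≤ cen s.O := fun g a => by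
  obtain ⟨x, e, rfl⟩ := (mem_P h).1 a; exact p_cO h x e

theorem p4 (x : V4) (e : F4) : s.p x e ^ 4 = 1 := by
  rw [show 4 = 2 * 2 from rfl, pow_mul, sq, sq, p_sq h, z2 h]

theorem oddO {o : G} (ho : o ∈ s.O) : Odd (orderOf o) :=
  h.loc.od.odd.of_dvd_nat (orderOf_dvd_natCard _ ho)

/-- A 2-element `o * p` lies in `P`. -/
theorem two_elt {o : G} (ho : o ∈ s.O) {x : V4} {e : F4} {k : ℕ} (a : (o * s.p x e) ^ 2 ^ k = 1) :
    o = 1 := by
  have c : Commute o (s.p x e) := p_cO h x e o ho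
  refine H69.eq_one_of_odd_of_pow_two_pow (oddO h ho) (k := k + 2) ?_
  have := congrArg (· ^ 4) a
  simp only [← pow_mul, one_pow] at this
  rwa [c.mul_pow, mul_comm _ 4, pow_mul (s.p x e), p4 h, one_pow, mul_one, mul_comm 4,
    show 2 ^ k * 4 = 2 ^ (k + 2) by ring] at this

theorem act_e (a : s.Act g φ) (n : g ∈ nor s.Z) (x : V4) (e : F4) :
    ∃ e', g * s.p x e * g⁻¹ = s.p (φ x) e' := by
  obtain ⟨e1, h1⟩ := a x
  obtain ⟨e2, h2⟩ := (mem_Z h).1 (conj_mem_of_mem_normalizer n (zZ h e))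
  exact ⟨e1 + e2, by rw [← pz h, ← h1, h2, conj_mul, pz h, zero_add]⟩

theorem act_mul (a : s.Act g φ) (n : g ∈ nor s.Z) (a' : s.Act g' φ') : s.Act (g * g') (φ ∘ φ') :=
  fun x => by
    obtain ⟨e, h1⟩ := a' x
    obtain ⟨e', h2⟩ := act_e h a n (φ' x) e
    exact ⟨e', by rw [Function.comp, ← h2, ← h1]; group⟩

theorem act_inv (a : s.Act g φ) (n : g ∈ nor s.Z) (i : ∀ x, φ (φ' x) = x) : s.Act g⁻¹ φ' := fun x => by
  obtain ⟨e, h1⟩ := a (φ' x)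
  obtain ⟨e2, h2⟩ := (mem_Z h).1 (conj_mem_of_mem_normalizer' n (zZ h e))
  refine ⟨e2, ?_⟩
  rw [← zero_add e2, ← pz h _ 0, h2, ← mul_right_inj g, ← mul_left_inj g⁻¹]
  calc _ = s.p x 0 := by group
    _ = s.p x e * s.z e := by rw [pz h, F4.add_self]
    _ = _ := by rw [← i x, ← h1, i x]; group

theorem act_uniq (a : s.Act g φ) (a' : s.Act g φ') (x : V4) : φ x = φ' x := by
  obtain ⟨e, h1⟩ := a x
  obtain ⟨e', h2⟩ := a' x
  exact (p_ext h (h1.symm.trans h2)).1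

theorem act_p (x : V4) (e : F4) : s.Act (s.p x e) id := fun y => ⟨_, p_conj h x y e 0⟩

theorem act_pow (a : s.Act g φ) (n : g ∈ nor s.Z) (k : ℕ) : s.Act (g ^ k) φ^[k] := by
  induction k with
  | zero => exact fun x => ⟨0, by simp⟩
  | succ k ih => rw [pow_succ', Function.iterate_succ']; exact act_mul h a n ih

theorem act_nor (a : s.Act g φ) (n : g ∈ nor s.Z) : g ∈ nor s.P := mem_normalizer_fintype fun x hx => by
  obtain ⟨x, e, rfl⟩ := (mem_P h).1 hx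
  obtain ⟨e', b⟩ := act_e h a n x e
  exact b ▸ pP h _ _

theorem act_of (n : g ∈ nor s.Z) (a : ∀ x y, φ (x + y) = φ x + φ y)
    (h1 : ∀ c, ∃ e, g * s.p (c, 0, 0, 0) 0 * g⁻¹ = s.p (φ (c, 0, 0, 0)) e)
    (h2 : ∀ c, ∃ e, g * s.p (0, c, 0, 0) 0 * g⁻¹ = s.p (φ (0, c, 0, 0)) e)
    (h3 : ∀ c, ∃ e, g * s.p (0, 0, c, 0) 0 * g⁻¹ = s.p (φ (0, 0, c, 0)) e)
    (h4 : ∀ c, ∃ e, g * s.p (0, 0, 0, c) 0 * g⁻¹ = s.p (φ (0, 0, 0, c)) e) : s.Act g φ := by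
  have m : ∀ x y, (∃ e, g * s.p x 0 * g⁻¹ = s.p (φ x) e) → (∃ e, g * s.p y 0 * g⁻¹ = s.p (φ y) e) →
      ∃ e, g * s.p (x + y) 0 * g⁻¹ = s.p (φ (x + y)) e := by
    rintro x y ⟨e, a1⟩ ⟨e', a2⟩
    obtain ⟨e2, h2⟩ := (mem_Z h).1 (conj_mem_of_mem_normalizer n (zZ h (cc x y)))
    refine ⟨e + e' + cc (φ x) (φ y) + e2, ?_⟩
    rw [a, ← pz h, ← p_mul h, ← a1, ← a2, h2, conj_mul, conj_mul, p_mul h, pz h]
    simp
  rintro ⟨c, d, a, b⟩
  simpa using m _ _ (m _ _ (m _ _ (h1 c) (h2 d)) (h3 a)) (h4 b)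

theorem rp (c : F4) : s.p (c, 0, 0, 0) 0 = s.r c := by simp [SD.p, β0 h, h.fr.hm.one]
theorem βp (c : F4) : s.p (0, c, 0, 0) 0 = s.β c := by simp [SD.p, r0 h, h.fr.hm.one]

theorem ββ (x : F4) : s.β x * s.β x = 1 := by rw [← h.loc.add, F4.add_self, β0 h]

theorem w₁u (y a e : F4) : s.w₁ y * s.u a 0 e * (s.w₁ y)⁻¹ = s.u a 0 e := by
  rw [← h.fr.nu, SD.w₁, conj_inv, conj_mul, conj_mul, (h.loc.βu y _ _ _).eq, mul_inv_cancel_right]

theorem w₂u (y a e : F4) : s.w₂ y * s.u 0 a e * (s.w₂ y)⁻¹ = s.u 0 a e := by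
  rw [← h.fr.mu, SD.w₂, conj_inv, conj_mul, conj_mul, (h.loc.βu y _ _ _).eq, mul_inv_cancel_right]

theorem w₁_cZ (y : F4) : s.w₁ y ∈ cen s.Z := (mem_cZ h).2 (w₁u h y 0)
theorem w₂_cZ (y : F4) : s.w₂ y ∈ cen s.Z := (mem_cZ h).2 (w₂u h y 0)

theorem w₁0 : s.w₁ 0 = 1 := by simp [SD.w₁, β0 h]
theorem ww₁ (y : F4) : s.w₁ y * s.w₁ y = 1 := by simp [SD.w₁, conj_mul, ββ h]
theorem ww₂ (y : F4) : s.w₂ y * s.w₂ y = 1 := by simp [SD.w₂, conj_mul, ββ h]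

omit h in
theorem flip {v w a b c : G} (ww : w * w = 1) (e : v * w * v⁻¹ = w * a * b * c) :
    w * v * w⁻¹ = a * b * c * v := by
  calc _ = w⁻¹ * (w * w) * v * w * (w * w)⁻¹ := by group
    _ = w⁻¹ * (v * w * v⁻¹) * v := by rw [ww]; group
    _ = _ := by rw [e]; group

omit h in
theorem rn {n b r z : G} (c : n * r = r * n) (e : b * r * b⁻¹ = r * z) :
    n * b * n⁻¹ * r * (n * b * n⁻¹)⁻¹ = r * (n * z * n⁻¹) := by
  calc _ = n * b * n⁻¹ * (r * n) * b⁻¹ * n⁻¹ := by group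
    _ = n * (b * r * b⁻¹) * n⁻¹ := by rw [← c]; group
    _ = n * r * z * n⁻¹ := by rw [e]; group
    _ = _ := by rw [c]; group

theorem act_w₁ (y : F4) : s.Act (s.w₁ y) (W₁ y) := by
  refine act_of h (centralizer_le_normalizer _ (w₁_cZ h y)) (fun x x' => ?_) (fun c => ⟨0, ?_⟩)
    (fun c => ⟨y * c ^ 2, ?_⟩) (fun c => ⟨0, ?_⟩) fun c => ?_
  · simp only [W₁, Prod.fst_add, Prod.snd_add, Prod.mk_add_mk]; ext <;> simp only <;> ring
  · rw [rp h, SD.w₁, rn (rK h c _ h.fr.nA) (h.loc.βr y c (Or.inl rfl)), Dt.z, h.fr.nu, up h, ← rp h,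
      p_mul h]
    simp [W₁, cc]
  · rw [βp h, SD.w₁, h.loc.s₁.wβ, up h, ← βp h, p_mul h]
    simp [W₁, cc]
  · rw [← up h, w₁u h, up h]; simp [W₁]
  · have := flip (ww₁ h y) (h.loc.s₁.vw y c)
    rw [← up h, this, up h, up h, ← rp h, ← βp h, p_mul h, p_mul h, p_mul h]
    exact ⟨_, congrArg (s.p · _) (by simp [W₁])⟩

theorem act_w₂ (y : F4) : s.Act (s.w₂ y) (W₂ y) := by
  refine act_of h (centralizer_le_normalizer _ (w₂_cZ h y)) (fun x x' => ?_) (fun c => ⟨0, ?_⟩)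
    (fun c => ?_) (fun c => ?_) fun c => ⟨0, ?_⟩
  · simp only [W₂, Prod.fst_add, Prod.snd_add, Prod.mk_add_mk]; ext <;> simp only <;> ring
  · rw [rp h, SD.w₂, rn (rK h c _ h.fr.mA) (h.loc.βr y c (Or.inl rfl)), Dt.z, h.fr.mu, up h, ← rp h,
      p_mul h]
    simp [W₂, cc]
  · have := h.loc.s₂.wβ y c
    simp only [Dt.swap] at this
    rw [βp h, SD.w₂, this, up h, ← βp h, p_mul h]
    exact ⟨_, congrArg (s.p · _) (by simp [W₂])⟩
  · have := h.loc.s₂.vw y c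
    simp only [Dt.swap, zero_mul, add_zero, mul_zero] at this
    have := flip (ww₂ h y) this
    rw [← up h, this, up h, up h, ← rp h, ← βp h, p_mul h, p_mul h, p_mul h]
    exact ⟨_, congrArg (s.p · _) (by simp [W₂])⟩
  · rw [← up h, w₂u h, up h]; simp [W₂]

theorem w₁Y (y : F4) : s.w₁ y ∈ s.Y := mem_sup_left (subset_closure ⟨y, Or.inl rfl⟩)
theorem w₂Y (y : F4) : s.w₂ y ∈ s.Y := mem_sup_left (subset_closure ⟨y, Or.inr rfl⟩)

theorem Y_cZ : s.Y ≤ cen s.Z := sup_le ((closure_le _).2 (by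
  rintro _ ⟨y, rfl | rfl⟩
  exacts [w₁_cZ h y, w₂_cZ h y])) (P_cZ h)

theorem Y_cO : s.Y ≤ cen s.O := sup_le ((closure_le _).2 (by
  rintro _ ⟨y, rfl | rfl⟩
  exacts [mul_mem (mul_mem (A_cO h h.fr.nA) (β_cO h y)) (inv_mem (A_cO h h.fr.nA)),
    mul_mem (mul_mem (A_cO h h.fr.mA) (β_cO h y)) (inv_mem (A_cO h h.fr.mA))])) (P_cO h)

end H52.TeK
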