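/- Tower YU: the job QN. -/
import Cfsg.Agent.H78.YUDef

set_option autoImplicit false

namespace H52.YUQN

open H67 H67.UA H78.YU
open H67.SA (cm)

theorem jobQN : JobQN := by
  intro m K _ _ _ _ _ x hx hz
  obtain ⟨y, c, hok, rfl⟩ := (FV.mem_Q x).1 hx
  have hex : ∃ z, Pp (ev 0) z ∧ hf y z ≠ 0 := by
    by_contra hn
    push Not at hn
    obtain ⟨a, rfl⟩ := (base m K).toFW.dual (ev 0) y (ev_ne 0) fun w hw => by
      have := (base m K).toFW.span (ev 0) hok.iso (fun z => hf y z = 0) hn
        (fun _ _ _ _ h1 h2 => by rw [hf_add_right, h1, h2, add_zero]) w hw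
      rw [hf_symm this]; simp
    refine hz ((FV.mem_Z _).2 ⟨c + tr a, ?_, ?_⟩)
    · have := hok.tr
      rw [show hf (a • ev 0 : Vn m K) (a • ev 0) = 0 from hok.iso.smul a, tr_eq_zero] at this
      rw [star_add, this, star_tr]
    · have := EE_shift a (ev 0 : Vn m K) 0 c
      rwa [zero_add] at this
  obtain ⟨z, hp, hne⟩ := hex
  refine ⟨z, hf y z, hp, ?_, hne, ?_⟩
  · intro a b h
    have h1 : hf y (a • ev 0 + b • z) = 0 := by rw [h, hf_zero_right]
    rw [hf_add_right, hf_smul_right, hf_smul_right, hok.perp, mul_zero, zero_add,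
      mul_eq_zero, star_eq_zero] at h1
    have hb : b = 0 := h1.resolve_right hne
    rw [hb, zero_smul, add_zero, smul_eq_zero] at h
    exact ⟨h.resolve_right (ev_ne 0), hb⟩
  · have e0 : ac (H67.UA.TT z) (ev 0) = ev 0 := by
      rw [ac_Tc hp.r (star_one K), hp.p, mul_zero, zero_smul, add_zero]
    have e1 : ac (H67.UA.TT z) y = y + hf y z • z := by rw [ac_Tc hp.r (star_one K), one_mul]
    have hok' := hok.ac (H67.UA.TT z)
    rw [e0, e1] at hok'
    rw [cm, EE_conj hok, e0, e1, EE_inv hok, EE_mul hok' hok.star, add_right_comm y, v_add_self,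
      zero_add, hf_add_right, hf_smul_right, ← add_assoc, show c + star c = hf y y from hok.tr,
      CharTwo.add_self_eq_zero, zero_add, mul_comm]

end H52.YUQN
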